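import Groth.Agent.Topos.Presheaf
import Mathlib.CategoryTheory.Sites.LocallySurjective
import Mathlib.CategoryTheory.Limits.VanKampen
import Mathlib.CategoryTheory.Sites.Limits

/-!
# Sheaves of sets form a category satisfying Giraud's axioms
-/

set_option autoImplicit false
open CategoryTheory CategoryTheory.Limits Opposite
universe w v u v₁ u₁

namespace Groth.Agent.Topos.Sheaf

open Groth.Agent.DescCatLib

variable {C : Type u₁} [Category.{v₁} C] (J : GrothendieckTopology C)

/-- Local surjectivity is stable under base change (presheaves). -/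
theorem isLocallySurjective_of_isPullback {P X Y S : Cᵒᵖ ⥤ Type w} {a : P ⟶ X} {b : P ⟶ Y}
    {f : X ⟶ S} {g : Y ⟶ S} (h : IsPullback a b f g) [Presheaf.IsLocallySurjective J g] :
    Presheaf.IsLocallySurjective J a where
  imageSieve_mem {U} x := by
    refine J.superset_covering ?_ (Presheaf.imageSieve_mem J g (f.app (op U) x))
    intro V i hi
    obtain ⟨y, hy⟩ := hi
    obtain ⟨p, hp, -⟩ := Presheaf.exists_of_isPullback h (X.map i.op x) y
      ((NatTrans.naturality_apply f i.op x).trans hy.symm)
    exact ⟨p, hp⟩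

/-- Local surjectivity is stable under base change (sheaves). -/
theorem sheaf_isLocallySurjective_of_isPullback {P X Y S : Sheaf J (Type w)} {a : P ⟶ X} {b : P ⟶ Y}
    {f : X ⟶ S} {g : Y ⟶ S} (h : IsPullback a b f g) [Sheaf.IsLocallySurjective g] :
    Sheaf.IsLocallySurjective a :=
  have : Presheaf.IsLocallySurjective J ((sheafToPresheaf J (Type w)).map g) :=
    inferInstanceAs (Sheaf.IsLocallySurjective g)
  isLocallySurjective_of_isPullback J (h.map (sheafToPresheaf J (Type w)))

variable [HasSheafify J (Type w)]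

theorem uee_of_epi {X Y : Sheaf J (Type w)} (f : X ⟶ Y) [Epi f] : Uee f := by
  have := (Sheaf.isLocallySurjective_iff_epi f).2 inferInstance
  refine Presheaf.uee_of_universally_epi f fun i₁ i₂ g hg => ?_
  have := sheaf_isLocallySurjective_of_isPullback J hg.flip.flip
  exact (Sheaf.isLocallySurjective_iff_epi g).1 inferInstance

/-- Every equivalence relation of sheaves is effective, with universally effective quotient. -/
theorem exists_quotient {R X : Sheaf J (Type w)} {p₁ p₂ : R ⟶ X}
    (h : SGA4.IsEquivRel p₁ p₂) :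
    ∃ (Q : Sheaf J (Type w)) (π : X ⟶ Q), IsPullback p₁ p₂ π π ∧ IsPushout p₁ p₂ π π ∧ Uee π := by
  obtain ⟨Q, q, h₁, h₂, hq⟩ :=
    Presheaf.exists_quotient (Presheaf.isEquivRel_map (sheafificationAdjunction J (Type w)) h)
  let a := presheafToSheaf J (Type w)
  let e := fun F : Sheaf J (Type w) => asIso ((sheafificationAdjunction J (Type w)).counit.app F)
  have : PreservesColimitsOfSize.{0, 0} a := (sheafificationAdjunction J (Type w)).leftAdjoint_preservesColimits
  let π : X ⟶ a.obj Q := (e X).inv ≫ a.map q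
  have hn : ∀ p : R ⟶ X, a.map ((sheafToPresheaf J (Type w)).map p) ≫ (e X).hom = (e R).hom ≫ p :=
    fun p => (sheafificationAdjunction J (Type w)).counit.naturality p
  have hπ : (e X).hom ≫ π = a.map q := by simp [π]
  have : Epi (a.map q) := inferInstance
  have : Epi π := by
    have : Epi ((e X).hom ≫ π) := by rw [hπ]; infer_instance
    exact epi_of_epi (e X).hom π
  exact ⟨a.obj Q, π,
    (h₁.map a).of_iso (e R) (e X) (e X) (Iso.refl _) (hn p₁) (hn p₂) (by simpa using hπ.symm) (by simpa using hπ.symm),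
    (h₂.map a).of_iso (e R) (e X) (e X) (Iso.refl _) (hn p₁) (hn p₂) (by simpa using hπ.symm) (by simpa using hπ.symm),
    uee_of_epi J π⟩

theorem quot_axiom [HasPullbacks (Sheaf J (Type w))] {R X : Sheaf J (Type w)} (p₁ p₂ : R ⟶ X)
    (h : SGA4.IsEquivRel p₁ p₂) : ∃ (Q : Sheaf J (Type w)) (π : X ⟶ Q), IsPullback p₁ p₂ π π ∧
      IsPushout p₁ p₂ π π ∧ ∀ (B' : Sheaf J (Type w)) (g : B' ⟶ Q), EffectiveEpi (pullback.snd π g) := by
  obtain ⟨Q, π, h₁, h₂, h₃⟩ := exists_quotient J h
  exact ⟨Q, π, h₁, h₂, fun B' g => uee_effectiveEpi (uee_pullback_snd g h₃)⟩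

theorem isUniversallyEffective {R X : Sheaf J (Type w)} (p₁ p₂ : R ⟶ X)
    [h : IsEquivalenceRelation p₁ p₂] : IsUniversallyEffectiveEquivalenceRelation p₁ p₂ := by
  obtain ⟨e⟩ := h.nonempty_equivalenceRelation
  obtain ⟨Q, π, h₁, h₂, h₃⟩ := exists_quotient J (Presheaf.isEquivRel_of_isEquivalenceRelation p₁ p₂)
  exact ⟨⟨{ e with B := Q, π := π, isKernelPair := h₁, isPushout := h₂, universally_effectiveEpi_π := h₃ }⟩⟩

section coproduct

variable {ι : Type w} (X : ι → Sheaf J (Type w))

/-- Cofan exhibiting the coproduct of sheaves as the sheafified pointwise coproduct. -/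
noncomputable def sigmaCofan : Cofan X :=
  Cofan.mk ((presheafToSheaf J (Type w)).obj (Presheaf.sigmaObj fun i => (X i).obj)) fun i =>
    inv ((sheafificationAdjunction J (Type w)).counit.app (X i)) ≫
      (presheafToSheaf J (Type w)).map ((Presheaf.sigmaCofan fun i => (X i).obj).inj i)

theorem isUniversalColimit_sigmaCofan : IsUniversalColimit (sigmaCofan J X) := by
  let c : Cocone (Discrete.functor X ⋙ sheafToPresheaf J (Type w)) :=
    { pt := Presheaf.sigmaObj fun i => (X i).obj
      ι := Discrete.natTrans fun i => (Presheaf.sigmaCofan fun i => (X i).obj).inj i.as }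
  have hc : IsUniversalColimit c := by
    intro F' c' α f hα hα' hsq
    let α₀ : F' ⟶ Discrete.functor (fun i => (X i).obj) := Discrete.natTrans fun i => α.app i
    refine Presheaf.isUniversalColimit_sigmaCofan (fun i => (X i).obj) c' α₀ f ?_ (.of_discrete α₀) fun j => ?_
    · ext ⟨i⟩ : 2
      exact NatTrans.congr_app hα ⟨i⟩
    · exact hsq j
  have h := hc.map_reflective (sheafificationAdjunction J (Type w))
  let β : Discrete.functor X ⟶ (Discrete.functor X ⋙ sheafToPresheaf J (Type w)) ⋙ presheafToSheaf J (Type w) :=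
    Discrete.natTrans fun i => inv ((sheafificationAdjunction J (Type w)).counit.app (X i.as))
  have : ∀ i, IsIso (β.app i) := fun i => by simp only [β, Discrete.natTrans_app]; infer_instance
  have : IsIso β := NatIso.isIso_of_isIso_app _
  refine (h.precompose_isIso β).of_iso (Cocone.ext (Iso.refl _) fun j => ?_)
  obtain ⟨i⟩ := j
  exact Category.comp_id _

theorem coproductDisjoint : CoproductDisjoint X := by
  let a := presheafToSheaf J (Type w)
  let e := fun F : Sheaf J (Type w) => asIso ((sheafificationAdjunction J (Type w)).counit.app F)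
  have : PreservesLimitsOfShape WalkingCospan a := inferInstance
  let σ := Presheaf.sigmaCofan fun i => (X i).obj
  have hm : ∀ i, Mono ((sigmaCofan J X).inj i) := fun i => by
    have := Presheaf.mono_sigmaCofan_inj (fun i => (X i).obj) i
    exact inferInstanceAs (Mono (inv _ ≫ a.map (σ.inj i)))
  have hpb : ∀ {i j : ι}, i ≠ j → ∃ (P : Sheaf J (Type w)) (p : P ⟶ X i) (q : P ⟶ X j),
      IsPullback p q ((sigmaCofan J X).inj i) ((sigmaCofan J X).inj j) ∧ Nonempty (IsInitial P) := by
    intro i j hij
    refine ⟨_, a.map (pullback.fst (σ.inj i) (σ.inj j)) ≫ (e (X i)).hom,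
      a.map (pullback.snd (σ.inj i) (σ.inj j)) ≫ (e (X j)).hom,
      ((IsPullback.of_hasPullback _ _).map a).of_iso (Iso.refl _) (e (X i)) (e (X j)) (Iso.refl _)
        (by simp) (by simp) ?_ ?_, ?_⟩
    · change a.map (σ.inj i) ≫ 𝟙 _ = (e (X i)).hom ≫ inv _ ≫ a.map (σ.inj i)
      simp [e]
    · change a.map (σ.inj j) ≫ 𝟙 _ = (e (X j)).hom ≫ inv _ ≫ a.map (σ.inj j)
      simp [e]
    · have : PreservesColimitsOfSize.{0, 0} a :=
        (sheafificationAdjunction J (Type w)).leftAdjoint_preservesColimits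
      exact ⟨(Presheaf.isInitialOfIsEmpty
        (Presheaf.isEmpty_sigma_pullback _ hij pullback.condition)).isInitialObj a⟩
  choose P p q hpq hP using @hpb
  exact CoproductDisjoint.of_cofan (isUniversalColimit_sigmaCofan J X).isColimit
    (fun hij => (hpq hij).cone) (fun hij => (hpq hij).isLimit) fun hij => (hP hij).some

theorem exists_cofan : ∃ (c : Cofan X) (_ : IsColimit c), CoproductDisjoint X ∧ IsUniversalColimit c :=
  ⟨sigmaCofan J X, (isUniversalColimit_sigmaCofan J X).isColimit, coproductDisjoint J X,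
    isUniversalColimit_sigmaCofan J X⟩

end coproduct

theorem axioms {D : Type u} [SmallCategory D] (K : GrothendieckTopology D) :
    SGA4.HasDisjointUniversalCoproducts.{u + 1, u} (Sheaf K (Type u)) ∧
    ∀ (R A : Sheaf K (Type u)) (p₁ p₂ : R ⟶ A), SGA4.IsEquivRel p₁ p₂ →
      SGA4.IsEffectiveUniversalEquivRel p₁ p₂ :=
  ⟨fun _ X => exists_cofan K X, fun _ _ p₁ p₂ h => quot_axiom K p₁ p₂ h⟩

end Groth.Agent.Topos.Sheaf
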