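import Mathlib

/-!
# Extension by zero of sheaves of modules along a localisation of a site
-/

set_option autoImplicit false
universe u
open CategoryTheory CategoryTheory.Limits Opposite DirectSum

namespace Groth.Agent.Topos.ModExtZero

variable {C : Type u} [SmallCategory C] {J : GrothendieckTopology C} {X : C} {A : Sheaf J RingCat.{u}}

/-- The fibre of `M` at `f : U ⟶ X`, as a module over `A U`. -/
noncomputable def fib (M : PresheafOfModules.{u} (A.over X).obj) (U : C) (f : U ⟶ X) :
    ModuleCat.{u} (A.obj.obj (op U)) :=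
  M.obj (op (Over.mk f))

/-- The sum of the fibres. -/
abbrev Sum (M : PresheafOfModules.{u} (A.over X).obj) (U : C) : Type u :=
  ⨁ f : U ⟶ X, fib M U f

variable [∀ U : C, DecidableEq (U ⟶ X)]

/-- The inclusion of a fibre. -/
noncomputable abbrev inc (M : PresheafOfModules.{u} (A.over X).obj) (U : C) (f : U ⟶ X) :
    fib M U f →ₗ[A.obj.obj (op U)] Sum M U :=
  DirectSum.lof (A.obj.obj (op U)) (U ⟶ X) (fun f => fib M U f) f

variable (M : PresheafOfModules.{u} (A.over X).obj)

/-- Restriction between fibres. -/
noncomputable def res {U V : C} (h : V ⟶ U) (f : U ⟶ X) : fib M U f →+ fib M V (h ≫ f) :=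
  (M.presheaf.map (Over.homMk h : Over.mk (h ≫ f) ⟶ Over.mk f).op).hom

lemma res_smul {U V : C} (h : V ⟶ U) (f : U ⟶ X) (r : A.obj.obj (op U)) (m : fib M U f) :
    res M h f (r • m) = A.obj.map h.op r • res M h f m :=
  M.map_smul (Over.homMk h : Over.mk (h ≫ f) ⟶ Over.mk f).op r m

lemma inc_congr {V : C} {g g' : V ⟶ X} (e : g = g') {U : C} {f : U ⟶ X} (m : fib M U f)
    (a : Over.mk g ⟶ Over.mk f) (a' : Over.mk g' ⟶ Over.mk f) (ha : a.left = a'.left) :
    inc M V g ((M.presheaf.map a.op).hom m : fib M V g) =
      inc M V g' ((M.presheaf.map a'.op).hom m : fib M V g') := by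
  subst e
  obtain rfl : a = a' := Over.OverMorphism.ext ha
  rfl

/-- The restriction maps of the extension by zero. -/
noncomputable def sumMap {U V : C} (h : V ⟶ U) : Sum M U →+ Sum M V :=
  DirectSum.toAddMonoid fun f => (inc M V (h ≫ f)).toAddMonoidHom.comp (res M h f)

lemma sumMap_inc {U V : C} (h : V ⟶ U) (f : U ⟶ X) (m : fib M U f) :
    sumMap M h (inc M U f m) = inc M V (h ≫ f) (res M h f m) :=
  DirectSum.toAddMonoid_of _ _ _

lemma sumMap_id (U : C) : sumMap M (𝟙 U) = AddMonoidHom.id _ := by
  refine DirectSum.addHom_ext fun f m => (sumMap_inc M (𝟙 U) f m).trans ?_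
  refine (inc_congr M (Category.id_comp f) m (Over.homMk (𝟙 U)) (𝟙 (Over.mk f)) rfl).trans ?_
  rw [op_id, M.presheaf.map_id]
  rfl

lemma sumMap_comp {U V W : C} (h : V ⟶ U) (k : W ⟶ V) :
    sumMap M (k ≫ h) = (sumMap M k).comp (sumMap M h) := by
  refine DirectSum.addHom_ext fun f m => (sumMap_inc M (k ≫ h) f m).trans ?_
  change _ = sumMap M k (sumMap M h (inc M U f m))
  rw [sumMap_inc, sumMap_inc]
  refine Eq.trans ?_ (inc_congr M (Category.assoc _ _ _) m
    (Over.homMk (k ≫ h) : Over.mk ((k ≫ h) ≫ f) ⟶ Over.mk f)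
    ((Over.homMk k : Over.mk (k ≫ h ≫ f) ⟶ Over.mk (h ≫ f)) ≫ Over.homMk h) rfl |>.trans ?_)
  · rfl
  · rw [op_comp, M.presheaf.map_comp]
    rfl

lemma sumMap_smul {U V : C} (h : V ⟶ U) (r : A.obj.obj (op U)) (x : Sum M U) :
    sumMap M h (r • x) = A.obj.map h.op r • sumMap M h x := by
  induction x using DirectSum.induction_on with
  | zero => simp
  | of f m =>
    change sumMap M h (r • inc M U f m) = _ • sumMap M h (inc M U f m)
    rw [← map_smul, sumMap_inc, sumMap_inc, res_smul, map_smul]
  | add x y hx hy => simp only [smul_add, map_add, hx, hy]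

/-- The abelian presheaf `U ↦ ⨁ M (U ⟶ X)`. -/
noncomputable def pre : Cᵒᵖ ⥤ Ab.{u} where
  obj U := AddCommGrpCat.of (Sum M U.unop)
  map h := AddCommGrpCat.ofHom (sumMap M h.unop)
  map_id U := by rw [unop_id, sumMap_id]; rfl
  map_comp h k := by rw [unop_comp, sumMap_comp]; rfl

noncomputable instance preModule (U : Cᵒᵖ) : Module (A.obj.obj U) ((pre M).obj U) :=
  inferInstanceAs (Module (A.obj.obj (op U.unop)) (Sum M U.unop))

/-- Extension by zero of presheaves of modules. -/
noncomputable def extObj : PresheafOfModules.{u} A.obj :=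
  PresheafOfModules.ofPresheaf (pre M) (fun _ _ h r x => sumMap_smul M h.unop r x)

lemma extObj_map_apply {U V : Cᵒᵖ} (h : U ⟶ V) (x : Sum M U.unop) :
    (extObj M).map h x = sumMap M h.unop x := rfl

variable {M}

/-- A morphism on a fibre. -/
noncomputable def fibHom {M' : PresheafOfModules.{u} (A.over X).obj} (φ : M ⟶ M') (U : C)
    (f : U ⟶ X) : fib M U f →ₗ[A.obj.obj (op U)] fib M' U f :=
  (φ.app (op (Over.mk f))).hom

/-- Functoriality on sums. -/
noncomputable def sumHom {M' : PresheafOfModules.{u} (A.over X).obj} (φ : M ⟶ M') (U : C) :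
    Sum M U →ₗ[A.obj.obj (op U)] Sum M' U :=
  DirectSum.toModule (A.obj.obj (op U)) (U ⟶ X) _ fun f => (inc M' U f).comp (fibHom φ U f)

lemma sumHom_inc {M' : PresheafOfModules.{u} (A.over X).obj} (φ : M ⟶ M') (U : C) (f : U ⟶ X)
    (m : fib M U f) : sumHom φ U (inc M U f m) = inc M' U f (fibHom φ U f m) := by
  simp [sumHom, inc]

lemma fibHom_res {M' : PresheafOfModules.{u} (A.over X).obj} (φ : M ⟶ M') {U V : C} (h : V ⟶ U)
    (f : U ⟶ X) (m : fib M U f) :
    fibHom φ V (h ≫ f) (res M h f m) = res M' h f (fibHom φ U f m) :=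
  PresheafOfModules.naturality_apply φ (Over.homMk h : Over.mk (h ≫ f) ⟶ Over.mk f).op m

lemma sumHom_sumMap {M' : PresheafOfModules.{u} (A.over X).obj} (φ : M ⟶ M') {U V : C} (h : V ⟶ U)
    (x : Sum M U) : sumHom φ V (sumMap M h x) = sumMap M' h (sumHom φ U x) := by
  induction x using DirectSum.induction_on with
  | zero => simp
  | of f m =>
    change sumHom φ V (sumMap M h (inc M U f m)) = sumMap M' h (sumHom φ U (inc M U f m))
    rw [sumMap_inc, sumHom_inc, sumHom_inc, sumMap_inc, fibHom_res]
  | add x y hx hy => simp only [map_add, hx, hy]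

/-- Functoriality. -/
noncomputable def extMap {M' : PresheafOfModules.{u} (A.over X).obj} (φ : M ⟶ M') :
    extObj M ⟶ extObj M' :=
  PresheafOfModules.homMk
    { app := fun U => AddCommGrpCat.ofHom (sumHom φ U.unop).toAddMonoidHom
      naturality := fun U V h => by
        refine AddCommGrpCat.hom_ext (AddMonoidHom.ext fun x => ?_)
        exact sumHom_sumMap φ h.unop x }
    (fun U r x => (sumHom φ U.unop).map_smul r x)

lemma extMap_app_apply {M' : PresheafOfModules.{u} (A.over X).obj} (φ : M ⟶ M') (U : Cᵒᵖ)
    (x : Sum M U.unop) : (extMap φ).app U x = sumHom φ U.unop x := rfl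

lemma ext_inc {N : PresheafOfModules.{u} A.obj} {β β' : extObj M ⟶ N}
    (h : ∀ (U : C) (f : U ⟶ X) (m : fib M U f),
      β.app (op U) (inc M U f m) = β'.app (op U) (inc M U f m)) :
    β = β' := by
  refine PresheafOfModules.hom_ext fun U => ModuleCat.hom_ext (LinearMap.ext fun x => ?_)
  change Sum M U.unop at x
  induction x using DirectSum.induction_on with
  | zero => exact (map_zero (β.app U).hom).trans (map_zero (β'.app U).hom).symm
  | of f m => exact h U.unop f m
  | add x y hx hy =>
    exact (map_add (β.app U).hom x y).trans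
      ((congrArg₂ (· + ·) hx hy).trans (map_add (β'.app U).hom x y).symm)

variable (X A) in
/-- The extension by zero functor. -/
noncomputable def ext0 : PresheafOfModules.{u} (A.over X).obj ⥤ PresheafOfModules.{u} A.obj where
  obj M := extObj M
  map φ := extMap φ
  map_id M := ext_inc fun U f m => sumHom_inc (𝟙 M) U f m
  map_comp {M M' M''} φ ψ := ext_inc fun U f m => by
    refine (sumHom_inc (φ ≫ ψ) U f m).trans ?_
    change _ = sumHom ψ U (sumHom φ U (inc M U f m))
    rw [sumHom_inc, sumHom_inc]
    rfl

/-- Restriction of presheaves of modules to the site of objects over `X`. -/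
noncomputable abbrev restr (X : C) (A : Sheaf J RingCat.{u}) :
    PresheafOfModules.{u} A.obj ⥤ PresheafOfModules.{u} (A.over X).obj :=
  PresheafOfModules.pushforward (F := Over.forget X) (𝟙 (A.over X).obj)

variable (M) in
lemma inc_map {W W' : Over X} (a : W' ⟶ W) (m : fib M W.left W.hom) :
    inc M W'.left W'.hom ((M.presheaf.map a.op).hom m : fib M W'.left W'.hom) =
      sumMap M a.left (inc M W.left W.hom m) := by
  rw [sumMap_inc]
  exact inc_congr M (Over.w a).symm m a (Over.homMk a.left) rfl

variable (M) in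
/-- The unit. -/
noncomputable def unit : M ⟶ (restr X A).obj (extObj M) :=
  PresheafOfModules.homMk
    { app := fun W => AddCommGrpCat.ofHom (inc M W.unop.left W.unop.hom).toAddMonoidHom
      naturality := fun W W' a => by
        refine AddCommGrpCat.hom_ext (AddMonoidHom.ext fun m => ?_)
        exact inc_map M a.unop m }
    (fun W r m => (inc M W.unop.left W.unop.hom).map_smul r m)

variable {N : PresheafOfModules.{u} A.obj}

/-- A map into a restriction on a fibre. -/
noncomputable def fibDesc (α : M ⟶ (restr X A).obj N) (U : C) (f : U ⟶ X) :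
    fib M U f →ₗ[A.obj.obj (op U)] N.obj (op U) :=
  (α.app (op (Over.mk f))).hom

/-- The transpose on sums. -/
noncomputable def sumDesc (α : M ⟶ (restr X A).obj N) (U : C) :
    Sum M U →ₗ[A.obj.obj (op U)] N.obj (op U) :=
  DirectSum.toModule (A.obj.obj (op U)) (U ⟶ X) _ (fibDesc α U)

lemma sumDesc_inc (α : M ⟶ (restr X A).obj N) (U : C) (f : U ⟶ X) (m : fib M U f) :
    sumDesc α U (inc M U f m) = fibDesc α U f m :=
  DirectSum.toModule_lof (M := fun f => fib M U f) (A.obj.obj (op U)) f m

lemma sumDesc_sumMap (α : M ⟶ (restr X A).obj N) {U V : C} (h : V ⟶ U) (x : Sum M U) :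
    sumDesc α V (sumMap M h x) = (N.presheaf.map h.op).hom (sumDesc α U x) := by
  induction x using DirectSum.induction_on with
  | zero => exact (congrArg _ (map_zero _)).trans ((map_zero _).trans ((congrArg _ (map_zero _)).trans (map_zero _)).symm)
  | of f m =>
    change sumDesc α V (sumMap M h (inc M U f m)) = (N.presheaf.map h.op).hom (sumDesc α U (inc M U f m))
    rw [sumMap_inc, sumDesc_inc, sumDesc_inc]
    exact PresheafOfModules.naturality_apply α (Over.homMk h : Over.mk (h ≫ f) ⟶ Over.mk f).op m
  | add x y hx hy =>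
    rw [map_add, map_add, hx, hy, map_add]
    exact (map_add (N.presheaf.map h.op).hom _ _).symm

/-- The transpose of a map into a restriction. -/
noncomputable def desc (α : M ⟶ (restr X A).obj N) : extObj M ⟶ N :=
  PresheafOfModules.homMk
    { app := fun U => AddCommGrpCat.ofHom (sumDesc α U.unop).toAddMonoidHom
      naturality := fun U V h => by
        refine AddCommGrpCat.hom_ext (AddMonoidHom.ext fun x => ?_)
        exact sumDesc_sumMap α h.unop x }
    (fun U r x => (sumDesc α U.unop).map_smul r x)

variable (X A) in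
/-- Extension by zero is left adjoint to restriction. -/
noncomputable def adjunction : ext0 X A ⊣ restr X A :=
  Adjunction.mkOfHomEquiv
    { homEquiv := fun M N =>
        { toFun := fun β => unit M ≫ (restr X A).map β
          invFun := desc
          left_inv := fun β => ext_inc fun U f m => sumDesc_inc _ U f m
          right_inv := fun α => by
            refine PresheafOfModules.hom_ext fun W => ModuleCat.hom_ext (LinearMap.ext fun m => ?_)
            exact sumDesc_inc α W.unop.left W.unop.hom m }
      homEquiv_naturality_left_symm := fun {M M' N} φ α => ext_inc fun U f m => by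
        refine (sumDesc_inc _ U f m).trans ?_
        change _ = sumDesc α U (sumHom φ U (inc M U f m))
        rw [sumHom_inc, sumDesc_inc]
        rfl
      homEquiv_naturality_right := fun β γ => by
        refine PresheafOfModules.hom_ext fun W => ModuleCat.hom_ext (LinearMap.ext fun m => ?_)
        rfl }

lemma extMap_injective {M' : PresheafOfModules.{u} (A.over X).obj} (φ : M ⟶ M')
    (hφ : ∀ W, Function.Injective (φ.app W)) (U : Cᵒᵖ) : Function.Injective ((extMap φ).app U) := by
  have h : ∀ (x : Sum M U.unop) (g : U.unop ⟶ X),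
      (sumHom φ U.unop x) g = fibHom φ U.unop g (x g) := by
    intro x g
    induction x using DirectSum.induction_on with
    | zero => simp
    | of f m =>
      change sumHom φ U.unop (inc M U.unop f m) g = fibHom φ U.unop g (inc M U.unop f m g)
      rw [sumHom_inc]
      by_cases e : f = g
      · subst e
        simp [inc, DirectSum.lof_eq_of]
      · simp [inc, DirectSum.lof_eq_of, DirectSum.of_eq_of_ne _ _ _ (Ne.symm e)]
    | add x y hx hy => simp only [map_add, DirectSum.add_apply, hx, hy]
  intro x y e
  change Sum M U.unop at x y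
  refine DFinsupp.ext fun g => hφ (op (Over.mk g)) ?_
  exact (h x g).symm.trans ((congrArg (fun t : Sum M' U.unop => t g) e).trans (h y g))

lemma unit_injective (W : (Over X)ᵒᵖ) : Function.Injective ((unit M).app W) :=
  DirectSum.of_injective (β := fun f : W.unop.left ⟶ X => fib M W.unop.left f) W.unop.hom

lemma unit_eq : (adjunction X A).unit.app M = unit M := by
  refine PresheafOfModules.hom_ext fun W => ModuleCat.hom_ext (LinearMap.ext fun m => ?_)
  rfl

end Groth.Agent.Topos.ModExtZero
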