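import Groth.Agent.Topos.OpenClosed
import Mathlib.CategoryTheory.Limits.Comma
import Mathlib.CategoryTheory.Comma.Basic

/-!
# Gluing of a topos from an open subtopos and its closed complement
-/

set_option autoImplicit false
open CategoryTheory CategoryTheory.Limits Opposite CategoryTheory.Functor
universe w v u v' u'

namespace Groth.Agent.Topos.Gluing

open Groth.Agent.Topos.OpenClosed

variable {C : Type u} [SmallCategory C] {J : GrothendieckTopology C} {U : Sheaf J (Type u)}
  (hU : SGA4.IsOpen U)

include hU in
theorem refl_hom_ext {X Y : Sheaf J (Type u)} (hY : SGA4.closedCompl U Y)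
    {f g : (reflObj J U).obj X ⟶ Y}
    (h : (reflInr J U).app X ≫ f = (reflInr J U).app X ≫ g) : f = g :=
  (isPushout hU X).hom_ext (closed_hom_ext hY (𝟙 U) _ _) h

/-- The reflector onto the closed complement. -/
noncomputable def reflector : Sheaf J (Type u) ⥤ (SGA4.closedCompl U).FullSubcategory :=
  (SGA4.closedCompl U).lift (reflObj J U) (reflObj_closed hU)

/-- The reflection adjunction. -/
noncomputable def adjunction : reflector hU ⊣ (SGA4.closedCompl U).ι :=
  Adjunction.mkOfHomEquiv
    { homEquiv := fun X Y =>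
        { toFun := fun f => (reflInr J U).app X ≫ f.hom
          invFun := fun g => ObjectProperty.homMk ((isPushout hU X).desc (closedPoint Y.property) g
            (closedPoint_w Y.property g))
          left_inv := fun f => InducedCategory.hom_ext
            (refl_hom_ext hU Y.property ((isPushout hU X).inr_desc _ _ _))
          right_inv := fun g => (isPushout hU X).inr_desc _ _ _ }
      homEquiv_naturality_left_symm := fun {X' X Y} f g => InducedCategory.hom_ext (by
        refine refl_hom_ext hU Y.property ?_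
        change _ ≫ (isPushout hU X').desc _ _ _ = _ ≫ (reflObj J U).map f ≫ (isPushout hU X).desc _ _ _
        rw [IsPushout.inr_desc, ← NatTrans.naturality_assoc, IsPushout.inr_desc]
        rfl)
      homEquiv_naturality_right := fun {X Y Y'} f g => (Category.assoc ((reflInr J U).app X) f.hom g.hom).symm }

instance reflector_preservesFiniteLimits : PreservesFiniteLimits (reflector hU) := by
  refine ⟨fun K _ _ => ?_⟩
  have : PreservesLimitsOfShape K (reflector hU ⋙ (SGA4.closedCompl U).ι) :=
    inferInstanceAs (PreservesLimitsOfShape K (reflObj J U))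
  exact preservesLimitsOfShape_of_reflects_of_preserves (reflector hU) (SGA4.closedCompl U).ι

include hU in
theorem star_map_isIso_iff {X Y : Sheaf J (Type u)} (m : X ⟶ Y) :
    IsIso ((Over.star U).map m) ↔ IsIso (prod.map (𝟙 U) m) := by
  rw [← isIso_iff_of_reflects_iso ((Over.star U).map m) (Over.forget U)]
  simp
  exact Iff.rfl

theorem reflInr_naturality (X : Sheaf J (Type u)) {c d : C} (g : d ⟶ c) (x : X.obj.obj (op c)) :
    ((reflInr J U).app X).hom.app (op d) (X.obj.map g.op x) =
      ((reflObj J U).obj X).obj.map g.op (((reflInr J U).app X).hom.app (op c) x) :=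
  NatTrans.naturality_apply ((reflInr J U).app X).hom g.op x

include hU in
theorem exists_lift_of_isIso {X X' : Sheaf J (Type u)} (m : X ⟶ X') [IsIso (prod.map (𝟙 U) m)] {c : C}
    (u : U.obj.obj (op c)) (y : X'.obj.obj (op c)) : ∃ x, m.hom.app (op c) x = y := by
  refine ⟨Gen.homEquiv J (prod.lift ((Gen.homEquiv J).symm u) ((Gen.homEquiv J).symm y) ≫
    inv (prod.map (𝟙 U) m) ≫ prod.snd), ?_⟩
  have h : inv (prod.map (𝟙 U) m) ≫ prod.snd ≫ m = prod.snd := by
    rw [IsIso.inv_comp_eq, prod.map_snd]
  rw [← Gen.homEquiv_comp, Category.assoc, Category.assoc, h, prod.lift_snd, Equiv.apply_symm_apply]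

include hU in
theorem injective_of_isIso {X X' : Sheaf J (Type u)} (m : X ⟶ X') [IsIso (prod.map (𝟙 U) m)] {c : C}
    (u : U.obj.obj (op c)) {x x' : X.obj.obj (op c)} (h : m.hom.app (op c) x = m.hom.app (op c) x') :
    x = x' := by
  let t := prod.lift ((Gen.homEquiv J).symm u) ((Gen.homEquiv J).symm x)
  let t' := prod.lift ((Gen.homEquiv J).symm u) ((Gen.homEquiv J).symm x')
  have e : t = t' := by
    rw [← cancel_mono (prod.map (𝟙 U) m)]
    simp only [t, t', prod.lift_map]
    congr 1
    apply (Gen.homEquiv J).injective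
    rw [Gen.homEquiv_comp, Gen.homEquiv_comp, Equiv.apply_symm_apply, Equiv.apply_symm_apply, h]
  have := congrArg (fun s => Gen.homEquiv J (s ≫ prod.snd)) e
  simpa [t, t', prod.lift_snd] using this

include hU in
/-- Morphisms invertible over `U` give cartesian squares with the reflection. -/
theorem isPullback_reflInr {X X' : Sheaf J (Type u)} (m : X ⟶ X') [IsIso (prod.map (𝟙 U) m)] :
    IsPullback m ((reflInr J U).app X) ((reflInr J U).app X') ((reflObj J U).map m) := by
  have w : m ≫ (reflInr J U).app X' = (reflInr J U).app X ≫ (reflObj J U).map m := (reflInr J U).naturality m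
  have hw : ∀ {c : C} (x : X.obj.obj (op c)), ((reflInr J U).app X').hom.app (op c) (m.hom.app (op c) x) =
      ((reflObj J U).map m).hom.app (op c) (((reflInr J U).app X).hom.app (op c) x) := fun {c} x =>
    congrArg (fun φ : X ⟶ (reflObj J U).obj X' => φ.hom.app (op c) x) w
  have huniq : ∀ {c : C} (x x' : X.obj.obj (op c)), m.hom.app (op c) x = m.hom.app (op c) x' →
      ((reflInr J U).app X).hom.app (op c) x = ((reflInr J U).app X).hom.app (op c) x' → x = x' := by
    intro c x x' h₁ h₂
    obtain ⟨S, hS, hS'⟩ := reflInr_kernel X h₂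
    refine ((isSheaf_iff_isSheaf_of_type _ _).1 X.property S hS).isSeparatedFor
      (fun d g _ => X.obj.map g.op x') x x' (fun d g hg => ?_) (fun _ _ _ => rfl)
    rcases hS' g hg with h | ⟨⟨u⟩⟩
    · exact h
    · exact injective_of_isIso hU m u (by rw [NatTrans.naturality_apply, NatTrans.naturality_apply, h₁])
  refine IsPullback.of_map_of_faithful (sheafToPresheaf J (Type u))
    (IsPullback.of_forall_isPullback_app fun cc => ?_)
  obtain ⟨c⟩ := cc
  refine (Types.isPullback_iff _ _ _ _).2 ⟨congrArg (fun φ : X ⟶ (reflObj J U).obj X' => φ.hom.app (op c)) w,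
    fun x x' ⟨h₁, h₂⟩ => huniq x x' h₁ h₂, fun (y : X'.obj.obj (op c)) q (e :
      ((reflInr J U).app X').hom.app (op c) y = ((reflObj J U).map m).hom.app (op c) q) => ?_⟩
  let P : ∀ {d : C}, (d ⟶ c) → X.obj.obj (op d) → Prop := fun {d} g x =>
    m.hom.app (op d) x = X'.obj.map g.op y ∧
      ((reflInr J U).app X).hom.app (op d) x = ((reflObj J U).obj X).obj.map g.op q
  let S : Sieve c := ⟨fun d g => ∃ x, P g x, fun {d d' g} ⟨x, h₁, h₂⟩ k =>
    ⟨X.obj.map k.op x, by rw [NatTrans.naturality_apply, h₁, op_comp, Functor.map_comp_apply],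
      by rw [reflInr_naturality, h₂, op_comp, Functor.map_comp_apply]⟩⟩
  have hS : S ∈ J c := by
    obtain ⟨S₁, hS₁, h⟩ := reflInr_cover X q
    refine J.transitive hS₁ _ fun d g hg => ?_
    have hu : ∀ {d' : C} (k : d' ⟶ d), Nonempty (U.obj.obj (op d')) → S (k ≫ g) := fun {d'} k hne => by
      obtain ⟨u⟩ := hne
      obtain ⟨x, hx⟩ := exists_lift_of_isIso hU m u (X'.obj.map (k ≫ g).op y)
      exact ⟨x, hx, (reflObj_subsingleton X ⟨u⟩).elim _ _⟩
    rcases h g hg with ⟨x, hx⟩ | hne
    · have he : ((reflInr J U).app X').hom.app (op d) (m.hom.app (op d) x) =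
          ((reflInr J U).app X').hom.app (op d) (X'.obj.map g.op y) := by
        rw [hw, hx, reflInr_naturality, e, NatTrans.naturality_apply]
      obtain ⟨S₂, hS₂, h₂⟩ := reflInr_kernel X' he
      refine J.superset_covering (fun d' k hk => ?_) hS₂
      rcases h₂ k hk with hk' | hne
      · refine ⟨X.obj.map k.op x, ?_, ?_⟩
        · rw [NatTrans.naturality_apply, hk', op_comp, Functor.map_comp_apply]
        · rw [reflInr_naturality, hx, op_comp, Functor.map_comp_apply]
      · exact hu k hne
    · refine J.superset_covering (fun d' k _ => hu k ⟨U.obj.map k.op hne.some⟩) (J.top_mem d)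
  let fam : Presieve.FamilyOfElements X.obj S.arrows := fun d g hg => hg.choose
  have hfam : fam.Compatible := fun Y₁ Y₂ Z g₁ g₂ f₁ f₂ h₁ h₂ hgg => huniq _ _
    (by rw [NatTrans.naturality_apply, NatTrans.naturality_apply, h₁.choose_spec.1, h₂.choose_spec.1,
      ← Functor.map_comp_apply, ← Functor.map_comp_apply, ← op_comp, ← op_comp, hgg])
    (by rw [reflInr_naturality, reflInr_naturality, h₁.choose_spec.2, h₂.choose_spec.2,
      ← Functor.map_comp_apply, ← Functor.map_comp_apply, ← op_comp, ← op_comp, hgg])
  obtain ⟨x, hx, -⟩ := (isSheaf_iff_isSheaf_of_type _ _).1 X.property S hS fam hfam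
  refine ⟨x, ?_, ?_⟩
  · refine ((isSheaf_iff_isSheaf_of_type _ _).1 X'.property S hS).isSeparatedFor
      (fun d g _ => X'.obj.map g.op y) _ y (fun d g hg => ?_) (fun _ _ _ => rfl)
    rw [← NatTrans.naturality_apply]
    exact (congrArg _ (hx g hg)).trans hg.choose_spec.1
  · refine ((isSheaf_iff_isSheaf_of_type _ _).1 ((reflObj J U).obj X).property S hS).isSeparatedFor
      (fun d g _ => ((reflObj J U).obj X).obj.map g.op q) _ q (fun d g hg => ?_) (fun _ _ _ => rfl)
    exact (reflInr_naturality X g x).symm.trans ((congrArg _ (hx g hg)).trans hg.choose_spec.2)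

include hU in
theorem isIso_prodMap_of_isPullback {X X' P P' : Sheaf J (Type u)} {m : X ⟶ X'} {a : U ⟶ P} {b : X ⟶ P}
    {a' : U ⟶ P'} {b' : X' ⟶ P'} {k : P ⟶ P'} (hP' : SGA4.closedCompl U P')
    (hb : (prod.fst : U ⨯ X ⟶ U) ≫ a = prod.snd ≫ b) (hb' : (prod.fst : U ⨯ X' ⟶ U) ≫ a' = prod.snd ≫ b')
    (h : IsPullback m b b' k) : IsIso (prod.map (𝟙 U) m) := by
  have e : (prod.snd : U ⨯ X' ⟶ X') ≫ b' = (prod.fst ≫ a) ≫ k := closed_hom_ext hP' prod.fst _ _
  refine ⟨prod.lift prod.fst (h.lift prod.snd (prod.fst ≫ a) e), ?_, ?_⟩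
  · apply Limits.prod.hom_ext
    · simp [prod.lift_fst]
    · rw [Category.assoc, prod.lift_snd, Category.id_comp]
      refine h.hom_ext ?_ ?_
      · simp
      · rw [Category.assoc, h.lift_snd, prod.map_fst_assoc, Category.id_comp, hb]
  · apply Limits.prod.hom_ext
    · simp [prod.lift_fst]
    · simp [prod.lift_snd]

include hU in
theorem isPullback_iff {X X' P P' : Sheaf J (Type u)} {m : X ⟶ X'} {a : U ⟶ P} {b : X ⟶ P}
    {a' : U ⟶ P'} {b' : X' ⟶ P'} (h : IsPushout (prod.fst : U ⨯ X ⟶ U) prod.snd a b)
    (h' : IsPushout (prod.fst : U ⨯ X' ⟶ U) prod.snd a' b') {k : P ⟶ P'} (hk : b ≫ k = m ≫ b') :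
    IsPullback m b b' k ↔ IsIso (prod.map (𝟙 U) m) := by
  refine ⟨isIso_prodMap_of_isPullback hU (closed_of_isPushout hU h') h.w h'.w, fun _ => ?_⟩
  let e := (isPushout hU X).isoIsPushout _ _ h
  let e' := (isPushout hU X').isoIsPushout _ _ h'
  refine (isPullback_reflInr hU m).of_iso (Iso.refl _) (Iso.refl _) e e' (by simp) ?_ ?_ ?_
  · rw [Iso.refl_hom, Category.id_comp]
    exact (isPushout hU X).inr_isoIsPushout_hom _ _ h
  · rw [Iso.refl_hom, Category.id_comp]
    exact (isPushout hU X').inr_isoIsPushout_hom _ _ h'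
  · refine refl_hom_ext hU (closed_of_isPushout hU h') ?_
    have e₁ : (reflInr J U).app X ≫ e.hom = b := (isPushout hU X).inr_isoIsPushout_hom _ _ h
    have e₂ : (reflInr J U).app X' ≫ e'.hom = b' := (isPushout hU X').inr_isoIsPushout_hom _ _ h'
    have w : m ≫ (reflInr J U).app X' = (reflInr J U).app X ≫ (reflObj J U).map m := (reflInr J U).naturality m
    rw [← reassoc_of% w, e₂, ← Category.assoc, e₁, hk]

include hU in
theorem jointly_conservative {X Y : Sheaf J (Type u)} (m : X ⟶ Y) [IsIso (prod.map (𝟙 U) m)]
    [IsIso ((reflObj J U).map m)] : IsIso m :=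
  (isPullback_reflInr hU m).isIso_fst_of_isIso

theorem preservesLimitsOfShape_forget (I : Type u) [Nonempty I] (hU : SGA4.IsOpen U) :
    PreservesLimitsOfShape (Discrete I) (Over.forget U) := by
  refine ⟨fun {F} => ⟨fun {c} hc => ?_⟩⟩
  obtain ⟨i₀⟩ := ‹Nonempty I›
  let S : ∀ s : Cone (F ⋙ Over.forget U), Cone F := fun s =>
    { pt := Over.mk (s.π.app ⟨i₀⟩ ≫ (F.obj ⟨i₀⟩).hom)
      π := { app := fun j => Over.homMk (s.π.app j) (hom_eq hU _ _)
             naturality := fun i j φ => Over.OverMorphism.ext (by simpa using s.w φ |>.symm) } }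
  exact ⟨{
    lift := fun s => (hc.lift (S s)).left
    fac := fun s j => congrArg (fun φ => φ.left) (hc.fac (S s) j)
    uniq := fun s m hm => congrArg (fun φ => φ.left)
      (hc.uniq (S s) (Over.homMk m (hom_eq hU _ _)) fun j => Over.OverMorphism.ext (hm j)) }⟩

section glue

variable [(Over.star U).IsLeftAdjoint]

include hU in
theorem star_counit_isIso : IsIso (Adjunction.ofIsLeftAdjoint (Over.star U)).counit := by
  let t : Adjunction.Triple (Over.forget U) (Over.star U) (Over.star U).rightAdjoint :=
    ⟨Over.forgetAdjStar U, Adjunction.ofIsLeftAdjoint (Over.star U)⟩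
  have hff : (Over.forget U).FullyFaithful :=
    { preimage := fun f => Over.homMk f (hom_eq hU _ _) }
  have := (t.fullyFaithfulEquiv hff).full
  have := (t.fullyFaithfulEquiv hff).faithful
  exact inferInstanceAs (IsIso t.adj₂.counit)

include hU in
theorem star_map_unit_isIso (X : Sheaf J (Type u)) :
    IsIso (prod.map (𝟙 U) ((Adjunction.ofIsLeftAdjoint (Over.star U)).unit.app X)) := by
  rw [← star_map_isIso_iff hU]
  have := star_counit_isIso hU
  have h := (Adjunction.ofIsLeftAdjoint (Over.star U)).left_triangle_components X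
  rw [IsIso.eq_inv_of_inv_hom_id (f := (Adjunction.ofIsLeftAdjoint (Over.star U)).counit.app ((Over.star U).obj X)) h]
  infer_instance

/-- The comparison functor to the glued category. -/
noncomputable def glue : Sheaf J (Type u) ⥤
    Comma (𝟭 (SGA4.closedCompl U).FullSubcategory) ((Over.star U).rightAdjoint ⋙ reflector hU) where
  obj X :=
    { left := (reflector hU).obj X
      right := (Over.star U).obj X
      hom := (reflector hU).map ((Adjunction.ofIsLeftAdjoint (Over.star U)).unit.app X) }
  map {X Y} f :=
    { left := (reflector hU).map f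
      right := (Over.star U).map f
      w := by
        refine Eq.trans ?_ (((reflector hU).map_comp _ _))
        refine Eq.trans ?_ (congrArg _ ((Adjunction.ofIsLeftAdjoint (Over.star U)).unit.naturality f))
        exact ((reflector hU).map_comp _ _).symm }

include hU in
theorem reflInr_isIso {Y : Sheaf J (Type u)} (hY : SGA4.closedCompl U Y) : IsIso ((reflInr J U).app Y) :=
  inr_isIso_of_closed (isPushout hU Y) hY

include hU in
theorem reflObj_map_reflInr (T : Sheaf J (Type u)) :
    (reflObj J U).map ((reflInr J U).app T) = (reflInr J U).app ((reflObj J U).obj T) :=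
  refl_hom_ext hU (reflObj_closed hU _) ((reflInr J U).naturality ((reflInr J U).app T)).symm

include hU in
theorem isPullback_unit (X : Sheaf J (Type u)) :
    IsPullback ((Adjunction.ofIsLeftAdjoint (Over.star U)).unit.app X) ((reflInr J U).app X)
      ((reflInr J U).app _) ((reflObj J U).map ((Adjunction.ofIsLeftAdjoint (Over.star U)).unit.app X)) :=
  have := star_map_unit_isIso hU X
  isPullback_reflInr hU _

instance glue_faithful : (glue hU).Faithful where
  map_injective {X Y} f g h := by
    refine (isPullback_unit hU Y).hom_ext ?_ ?_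
    · have h₁ := (Adjunction.ofIsLeftAdjoint (Over.star U)).unit.naturality f
      have h₂ := (Adjunction.ofIsLeftAdjoint (Over.star U)).unit.naturality g
      simp only [Functor.id_map, Functor.comp_map] at h₁ h₂
      have e : (Over.star U).map f = (Over.star U).map g := congrArg CommaMorphism.right h
      rw [h₁, h₂, e]
    · have h₁ := (reflInr J U).naturality f
      have h₂ := (reflInr J U).naturality g
      simp only [Functor.id_map] at h₁ h₂
      have e : (reflObj J U).map f = (reflObj J U).map g :=
        congrArg (fun φ => φ.hom) (congrArg CommaMorphism.left h)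
      rw [h₁, h₂, e]

instance glue_full : (glue hU).Full where
  map_surjective {X Y} φ := by
    let adj := Adjunction.ofIsLeftAdjoint (Over.star U)
    let b : (Over.star U).obj X ⟶ (Over.star U).obj Y := φ.right
    let a : (reflObj J U).obj X ⟶ (reflObj J U).obj Y := φ.left.hom
    have hw : a ≫ (reflObj J U).map (adj.unit.app Y) =
        (reflObj J U).map (adj.unit.app X) ≫ (reflObj J U).map ((Over.star U).rightAdjoint.map b) :=
      congrArg (fun ψ => ψ.hom) φ.w
    have n₁ : ∀ {P Q : Sheaf J (Type u)} (g : P ⟶ Q),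
        g ≫ (reflInr J U).app Q = (reflInr J U).app P ≫ (reflObj J U).map g :=
      fun g => (reflInr J U).naturality g
    have w : (adj.unit.app X ≫ (Over.star U).rightAdjoint.map b) ≫ (reflInr J U).app _ =
        ((reflInr J U).app X ≫ a) ≫ (reflObj J U).map (adj.unit.app Y) := by
      rw [Category.assoc, Category.assoc, hw, n₁]
      exact (Category.assoc _ _ _).symm.trans
        ((congrArg (· ≫ (reflObj J U).map ((Over.star U).rightAdjoint.map b)) (n₁ (adj.unit.app X))).trans
          (Category.assoc _ _ _))
    let f : X ⟶ Y := (isPullback_unit hU Y).lift _ _ w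
    have f₁ : f ≫ adj.unit.app Y = adj.unit.app X ≫ (Over.star U).rightAdjoint.map b :=
      (isPullback_unit hU Y).lift_fst _ _ _
    have f₂ : f ≫ (reflInr J U).app Y = (reflInr J U).app X ≫ a := (isPullback_unit hU Y).lift_snd _ _ _
    refine ⟨f, CommaMorphism.ext (InducedCategory.hom_ext (refl_hom_ext hU (reflObj_closed hU _) ?_)) ?_⟩
    · exact (n₁ f).symm.trans f₂
    · apply (adj.homEquiv _ _).injective
      have hn : f ≫ adj.unit.app Y = adj.unit.app X ≫ (Over.star U).rightAdjoint.map ((Over.star U).map f) :=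
        adj.unit.naturality f
      rw [Adjunction.homEquiv_unit, Adjunction.homEquiv_unit]
      exact hn.symm.trans f₁

instance glue_essSurj : (glue hU).EssSurj where
  mem_essImage W := by
    let adj := Adjunction.ofIsLeftAdjoint (Over.star U)
    let T := (Over.star U).rightAdjoint.obj W.right
    let Y := W.left.obj
    let h : Y ⟶ (reflObj J U).obj T := W.hom.hom
    let X := pullback ((reflInr J U).app T) h
    have sq : IsPullback (pullback.fst ((reflInr J U).app T) h) (pullback.snd ((reflInr J U).app T) h)
        ((reflInr J U).app T) h := IsPullback.of_hasPullback _ _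
    have : IsIso ((reflInr J U).app Y) := reflInr_isIso hU W.left.property
    have : IsIso ((reflInr J U).app ((reflObj J U).obj T)) := reflInr_isIso hU (reflObj_closed hU T)
    have hsh : IsIso ((Over.star U).map h) := by
      rw [star_map_isIso_iff hU]
      have : IsIso (prod.fst : U ⨯ Y ⟶ U) := W.left.property
      have : IsIso (prod.fst : U ⨯ (reflObj J U).obj T ⟶ U) := reflObj_closed hU T
      exact IsIso.of_isIso_fac_right (show prod.map (𝟙 U) h ≫ prod.fst = prod.fst by simp)
    have : IsIso ((Over.star U).map (pullback.fst ((reflInr J U).app T) h)) :=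
      (sq.map (Over.star U)).isIso_fst_of_isIso
    have : IsIso ((reflObj J U).map ((reflInr J U).app T)) := by
      rw [reflObj_map_reflInr hU]; infer_instance
    have : IsIso ((reflObj J U).map (pullback.snd ((reflInr J U).app T) h)) :=
      (sq.map (reflObj J U)).isIso_snd_of_isIso
    have := star_counit_isIso hU
    let b : (Over.star U).obj X ≅ W.right :=
      asIso ((Over.star U).map (pullback.fst ((reflInr J U).app T) h) ≫ adj.counit.app W.right)
    let a₀ : (reflObj J U).obj X ≅ Y :=
      asIso ((reflObj J U).map (pullback.snd ((reflInr J U).app T) h) ≫ inv ((reflInr J U).app Y))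
    let a : (reflector hU).obj X ≅ W.left := (SGA4.closedCompl U).fullyFaithfulι.preimageIso a₀
    refine ⟨X, ⟨Comma.isoMk a b ?_⟩⟩
    refine InducedCategory.hom_ext (refl_hom_ext hU (reflObj_closed hU T) ?_)
    change (reflInr J U).app X ≫ a₀.hom ≫ h = (reflInr J U).app X ≫
      (reflObj J U).map (adj.unit.app X) ≫ (reflObj J U).map ((Over.star U).rightAdjoint.map b.hom)
    have hb : adj.unit.app X ≫ (Over.star U).rightAdjoint.map b.hom = pullback.fst ((reflInr J U).app T) h := by
      refine (adj.homEquiv_unit X W.right b.hom).symm.trans ?_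
      exact (adj.homEquiv X W.right).apply_eq_iff_eq_symm_apply.2 (adj.homEquiv_counit X W.right _).symm
    have n₁ : ∀ {P Q : Sheaf J (Type u)} (g : P ⟶ Q),
        g ≫ (reflInr J U).app Q = (reflInr J U).app P ≫ (reflObj J U).map g :=
      fun g => (reflInr J U).naturality g
    have e₁ : (reflInr J U).app X ≫ a₀.hom = pullback.snd ((reflInr J U).app T) h := by
      change (reflInr J U).app X ≫ (reflObj J U).map (pullback.snd ((reflInr J U).app T) h) ≫ inv _ = _
      rw [← Category.assoc, ← n₁]
      exact (Category.assoc _ _ _).trans (by rw [IsIso.hom_inv_id]; exact Category.comp_id _)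
    have e₂ : (reflInr J U).app X ≫ (reflObj J U).map (adj.unit.app X) ≫
        (reflObj J U).map ((Over.star U).rightAdjoint.map b.hom) =
        pullback.fst ((reflInr J U).app T) h ≫ (reflInr J U).app T := by
      refine Eq.trans ?_ ((n₁ (adj.unit.app X ≫ (Over.star U).rightAdjoint.map b.hom)).symm.trans
        (congrArg (· ≫ (reflInr J U).app T) hb))
      exact congrArg ((reflInr J U).app X ≫ ·) ((reflObj J U).map_comp _ _).symm
    exact (Category.assoc _ _ _).symm.trans
      ((congrArg (· ≫ h) e₁).trans (sq.w.symm.trans e₂.symm))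

instance : (glue hU).IsEquivalence where

end glue

end Groth.Agent.Topos.Gluing
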