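import Groth.Agent.Topos.Gen
import Mathlib.CategoryTheory.Sites.LocallyBijective

/-!
# Coproduct decompositions in a topos and in a site
-/

set_option autoImplicit false
open CategoryTheory CategoryTheory.Limits Opposite
universe w v u

namespace Groth.Agent.Topos.Coprod

open Groth.Agent.Topos.Cover Groth.Agent.Topos.Gen

section general

variable {E : Type v} [Category.{u} E] [HasFiniteLimits E]

theorem mono_iff_isIso_diagonal_of_isPullback {P A B : E} {f : A ⟶ B} {p₁ p₂ : P ⟶ A}
    (h : IsPullback p₁ p₂ f f) (d : A ⟶ P) (h₁ : d ≫ p₁ = 𝟙 A) (h₂ : d ≫ p₂ = 𝟙 A) :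
    Mono f ↔ IsIso d := by
  constructor
  · intro _
    have : IsIso p₁ := h.isIso_fst_of_mono
    exact IsIso.of_isIso_fac_right h₁
  · intro _
    have : p₁ = p₂ := by rw [← cancel_epi d, h₁, h₂]
    refine ⟨fun {T} g g' e => ?_⟩
    exact (h.lift_fst g g' e).symm.trans ((congrArg (h.lift g g' e ≫ ·) this).trans (h.lift_snd g g' e))

/-- A cofan in a topos is a coproduct iff it is covering, consists of monomorphisms and has
initial pairwise intersections. -/
theorem isColimit_cofan_iff (hE : Axioms E) {ι : Type u} {A : ι → E} {B : E} (s : ∀ i, A i ⟶ B) :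
    Nonempty (IsColimit (Cofan.mk B s)) ↔
      Covering s ∧ (∀ i, Mono (s i)) ∧
        ∀ i j, i ≠ j → Nonempty (IsInitial (pullback (s i) (s j))) := by
  constructor
  · rintro ⟨hc⟩
    obtain ⟨-, -, hd, -⟩ := hE.exists_cofan A
    exact ⟨covering_cofan hc, fun i => hd.mono_inj hc i,
      fun i j hij => (hd.nonempty_isInitial_of_ne hc hij (PullbackCone.mk _ _ pullback.condition)
        (pullbackIsPullback (s i) (s j)))⟩
  · rintro ⟨hcov, hmono, hdis⟩
    have hex : ∀ c : Cofan A, ∃ b : B ⟶ c.pt, ∀ i, s i ≫ b = c.inj i := by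
      intro c
      refine hE.exists_desc hcov _ fun i j T g g' e => ?_
      by_cases hij : i = j
      · subst hij
        rw [(cancel_mono (s i)).1 e]
      · obtain ⟨hI⟩ := hdis i j hij
        have := hE.isIso_of_to_isInitial hI (pullback.lift g g' e)
          (equalizer.ι (g ≫ c.inj i) (g' ≫ c.inj j)) inferInstance
        exact (cancel_epi (equalizer.ι (g ≫ c.inj i) (g' ≫ c.inj j))).1 (equalizer.condition _ _)
    choose b hb using hex
    exact ⟨Cofan.IsColimit.mk _ b hb fun c m hm =>
      covering_hom_ext hcov fun i => (hm i).trans (hb c i).symm⟩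

end general

variable {C : Type u} [SmallCategory C] (J : GrothendieckTopology C)

theorem mem_of_isIso_map {X : C} (S : Sieve X)
    (h : IsIso ((presheafToSheaf J (Type u)).map S.functorInclusion)) : S ∈ J X := by
  have hls := ((J.W_iff_isLocallyBijective S.functorInclusion).1 ((J.W_iff _).2 h)).2
  have hm := Presheaf.imageSieve_mem J S.functorInclusion
    (show (yoneda.obj X).obj (op X) from 𝟙 X)
  refine J.superset_covering ?_ hm
  rintro Z g ⟨⟨t, ht⟩, e⟩
  have e' : t = g ≫ 𝟙 _ := e
  rw [Category.comp_id] at e'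
  exact e' ▸ ht

theorem covering_map_iff {X : C} {ι : Type w} (Y : ι → C) (s : ∀ i, Y i ⟶ X) :
    Covering (fun i => (presheafToSheaf J (Type u)).map (yoneda.map (s i))) ↔
      Sieve.ofArrows Y s ∈ J X := by
  constructor
  · intro h
    refine mem_of_isIso_map J _ (h _ inferInstance fun i => ?_)
    refine ⟨(presheafToSheaf J (Type u)).map (yonedaEquiv.symm ⟨s i, Sieve.ofArrows_mk Y s i⟩), ?_⟩
    rw [← Functor.map_comp]
    congr 1
  · intro h M m hm hfac
    refine covering_of_mem J h m hm ?_
    rintro ⟨W, f, hf⟩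
    obtain ⟨i, a, rfl⟩ := (Sieve.mem_ofArrows_iff Y s f).1 hf
    obtain ⟨g, hg⟩ := hfac i
    exact ⟨(presheafToSheaf J (Type u)).map (yoneda.map a) ≫ g, by
      rw [Category.assoc, hg, ← Functor.map_comp, ← Functor.map_comp]⟩

end Groth.Agent.Topos.Coprod
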