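import Mathlib

/-!
Left Kan extension of presheaves along `u` on representables: `lan (y X) ≅ y (u X)`, and the unit
of `lan ⊣ restriction` on ind-objects.
-/

set_option autoImplicit false
universe u

namespace Groth.Agent.Topos.LanYoneda

open CategoryTheory CategoryTheory.Limits Opposite

variable {C : Type u} [SmallCategory C] {C' : Type u} [SmallCategory C'] (u : C ⥤ C')

/-- `y X ⟶ u^* y (u X)`. -/
def beta (X : C) : yoneda.obj X ⟶ u.op ⋙ yoneda.obj (u.obj X) :=
  yonedaEquiv.symm (𝟙 (u.obj X))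

lemma beta_app {X : C} {Z : Cᵒᵖ} (g : Z.unop ⟶ X) : (beta u X).app Z g = u.map g := by
  change u.map g ≫ 𝟙 _ = _
  simp

/-- transpose of `beta` -/
noncomputable def betaHat (X : C) : u.op.lan.obj (yoneda.obj X) ⟶ yoneda.obj (u.obj X) :=
  ((u.op.lanAdjunction (Type u)).homEquiv _ _).symm (beta u X)

lemma homEquiv_betaHat_comp (X : C) {P : C'ᵒᵖ ⥤ Type u} (h : yoneda.obj (u.obj X) ⟶ P) :
    yonedaEquiv (((u.op.lanAdjunction (Type u)).homEquiv (yoneda.obj X) P) (betaHat u X ≫ h)) =
      yonedaEquiv h := by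
  rw [Adjunction.homEquiv_naturality_right, betaHat, Equiv.apply_symm_apply]
  change h.app _ (u.map (𝟙 X) ≫ 𝟙 _) = h.app _ (𝟙 _)
  simp

instance isIso_betaHat (X : C) : IsIso (betaHat u X) := by
  rw [isIso_iff_coyoneda_map_bijective]
  intro P
  constructor
  · intro h h' e
    apply yonedaEquiv.injective
    rw [← homEquiv_betaHat_comp, ← homEquiv_betaHat_comp]
    exact congrArg (fun t => yonedaEquiv ((u.op.lanAdjunction (Type u)).homEquiv _ _ t)) e
  · intro t
    refine ⟨yonedaEquiv.symm (yonedaEquiv ((u.op.lanAdjunction (Type u)).homEquiv _ _ t) :), ?_⟩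
    apply ((u.op.lanAdjunction (Type u)).homEquiv _ _).injective
    apply yonedaEquiv.injective
    refine (homEquiv_betaHat_comp u X _).trans ?_
    exact Equiv.apply_symm_apply _ _

lemma unit_comp_betaHat (X : C) :
    (u.op.lanAdjunction (Type u)).unit.app (yoneda.obj X) ≫
      Functor.whiskerLeft u.op (betaHat u X) = beta u X := by
  have := (u.op.lanAdjunction (Type u)).homEquiv_unit (f := betaHat u X)
  rw [betaHat, Equiv.apply_symm_apply] at this
  exact this.symm

lemma betaHat_unit_apply {X : C} {Z : Cᵒᵖ} (g : Z.unop ⟶ X) :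
    (betaHat u X).app (u.op.obj Z)
      (((u.op.lanAdjunction (Type u)).unit.app (yoneda.obj X)).app Z g) = u.map g := by
  rw [← beta_app u g, ← unit_comp_betaHat u X]
  rfl

lemma unit_yoneda_injective [u.Faithful] (X : C) (Z : Cᵒᵖ) :
    Function.Injective ⇑(((u.op.lanAdjunction (Type u)).unit.app (yoneda.obj X)).app Z) := by
  intro g g' e
  apply u.map_injective
  rw [← betaHat_unit_apply, ← betaHat_unit_apply, e]

/-- If `u` is faithful the unit is injective at ind-objects. -/
lemma unit_injective_of_isIndObject [u.Faithful] {G : Cᵒᵖ ⥤ Type u} (hG : IsIndObject G)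
    (Z : Cᵒᵖ) : Function.Injective ⇑(((u.op.lanAdjunction (Type u)).unit.app G).app Z) := by
  obtain ⟨P⟩ := hG.nonempty_presentation
  let c : Cocone (P.F ⋙ yoneda) := Cocone.mk G P.ι
  have hc : IsColimit c := P.isColimit
  let η := (u.op.lanAdjunction (Type u)).unit
  let W : (Cᵒᵖ ⥤ Type u) ⥤ Cᵒᵖ ⥤ Type u :=
    u.op.lan ⋙ (Functor.whiskeringLeft _ _ (Type u)).obj u.op
  let ev := (evaluation Cᵒᵖ (Type u)).obj Z
  have h1 : IsColimit (ev.mapCocone c) := isColimitOfPreserves ev hc
  have : PreservesColimitsOfShape P.I (u.op.lan : (Cᵒᵖ ⥤ Type u) ⥤ C'ᵒᵖ ⥤ Type u) :=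
    (u.op.lanAdjunction (Type u)).leftAdjoint_preservesColimits.1
  have h2 : IsColimit ((W ⋙ ev).mapCocone c) := isColimitOfPreserves (W ⋙ ev) hc
  intro x y e
  obtain ⟨i, x', rfl⟩ := Types.jointly_surjective _ h1 x
  obtain ⟨j, y', rfl⟩ := Types.jointly_surjective _ h1 y
  have ex := ConcreteCategory.congr_hom (congr_app (η.naturality (c.ι.app i)) Z) x'
  have ey := ConcreteCategory.congr_hom (congr_app (η.naturality (c.ι.app j)) Z) y'
  have hxy : ((W ⋙ ev).mapCocone c).ι.app i ((η.app _).app Z x') =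
      ((W ⋙ ev).mapCocone c).ι.app j ((η.app _).app Z y') := ex.symm.trans (e.trans ey)
  obtain ⟨k, f, g, hk⟩ := (Types.FilteredColimit.isColimit_eq_iff _ h2).1 hxy
  have fx := ConcreteCategory.congr_hom (congr_app (η.naturality ((P.F ⋙ yoneda).map f)) Z) x'
  have gy := ConcreteCategory.congr_hom (congr_app (η.naturality ((P.F ⋙ yoneda).map g)) Z) y'
  have := unit_yoneda_injective u (P.F.obj k) Z (fx.trans (hk.trans gy.symm))
  exact (Types.FilteredColimit.isColimit_eq_iff _ h1).2 ⟨k, f, g, this⟩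

end Groth.Agent.Topos.LanYoneda
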