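import Groth.Agent.Topos.Cover
import Mathlib.CategoryTheory.Sites.SheafOfTypes
import Mathlib.CategoryTheory.Sites.Canonical
import Mathlib.Logic.Small.Basic

/-!
# Giraud's theorem

A category satisfying Giraud's axioms with a small family of generators is equivalent to the category of
sheaves of sets on the full subcategory of the generators.
-/

set_option autoImplicit false
open CategoryTheory CategoryTheory.Limits Opposite
universe w v u

namespace Groth.Agent.Topos.Giraud

open Groth.Agent.DescCatLib Groth.Agent.Topos.Cover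

variable {E : Type v} [Category.{u} E] {C : Type u} [SmallCategory C]
  (ι : C ⥤ E)

/-- The family of all morphisms from the generators to `X` is covering. -/
def Generates : Prop :=
  ∀ X : E, Covering (fun p : Σ k : C, (ι.obj k ⟶ X) => p.2)

/-- A sieve is covering when its image in `E` is a covering family. -/
abbrev SieveCovering {k : C} (S : Sieve k) : Prop :=
  Covering (fun p : Σ k' : C, {f : k' ⟶ k // S f} => ι.map p.2.1)

variable [HasFiniteLimits E] [ι.Full] [ι.Faithful] {ι} (hE : Axioms E) (hG : Generates ι)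

/-- The topology induced on the generators. -/
def topology : GrothendieckTopology C where
  sieves k := {S | SieveCovering ι S}
  top_mem' k := by
    intro M m _ h
    obtain ⟨g, hg⟩ := h ⟨k, 𝟙 k, trivial⟩
    have hg' : g ≫ m = 𝟙 _ := by simpa using hg
    exact ⟨⟨g, by rw [← cancel_mono m, Category.assoc, hg']; simp, hg'⟩⟩
  pullback_stable' := by
    intro k k' S g hS M m _ h
    refine hE.covering_pullback' hS (ι.map g) m inferInstance fun p T t x ht => ?_
    have : IsIso (pullback.fst t m) := by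
      refine hG T _ inferInstance fun q => ?_
      obtain ⟨a, ha⟩ := h ⟨q.1, ι.preimage (q.2 ≫ t), by
        change S _
        have : ι.preimage (q.2 ≫ t) ≫ g = ι.preimage (q.2 ≫ x) ≫ p.2.1 := ι.map_injective (by simp [ht])
        rw [this]
        exact S.downward_closed p.2.2 _⟩
      exact ⟨pullback.lift q.2 a (by simpa using ha.symm), pullback.lift_fst _ _ _⟩
    exact ⟨inv (pullback.fst t m) ≫ pullback.snd t m, by
      rw [Category.assoc, ← pullback.condition, IsIso.inv_hom_id_assoc]⟩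
  transitive' := by
    intro k S hS R hR M m _ h
    refine hS m inferInstance fun p => ?_
    have : IsIso (pullback.fst (ι.map p.2.1) m) := by
      refine hR p.2.2 _ inferInstance fun q => ?_
      obtain ⟨a, ha⟩ := h ⟨q.1, q.2.1 ≫ p.2.1, q.2.2⟩
      exact ⟨pullback.lift (ι.map q.2.1) a (by simpa using ha.symm), pullback.lift_fst _ _ _⟩
    exact ⟨inv (pullback.fst (ι.map p.2.1) m) ≫ pullback.snd _ m, by
      rw [Category.assoc, ← pullback.condition, IsIso.inv_hom_id_assoc]⟩

theorem mem_topology {k : C} (S : Sieve k) : S ∈ topology hE hG k ↔ SieveCovering ι S := Iff.rfl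

/-- Morphisms `ι k ⟶ Y` lift locally along any covering family. -/
theorem lifts_mem {σ : Type u} {X : σ → E} {Y : E} {f : ∀ i, X i ⟶ Y} (hf : Covering f) {k : C}
    (q : ι.obj k ⟶ Y) (S : Sieve k)
    (hS : ∀ (k' : C) (h : k' ⟶ k) (i : σ) (a : ι.obj k' ⟶ X i), ι.map h ≫ q = a ≫ f i → S h) :
    S ∈ topology hE hG k := by
  intro M m _ hm
  refine hE.covering_pullback' hf q m inferInstance fun i T t x ht => ?_
  have : IsIso (pullback.fst t m) := by
    refine hG T _ inferInstance fun p => ?_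
    obtain ⟨a, ha⟩ := hm ⟨p.1, ι.preimage (p.2 ≫ t), hS _ _ i (p.2 ≫ x) (by simp [ht])⟩
    exact ⟨pullback.lift p.2 a (by simpa using ha.symm), pullback.lift_fst _ _ _⟩
  exact ⟨inv (pullback.fst t m) ≫ pullback.snd t m, by
    rw [Category.assoc, ← pullback.condition, IsIso.inv_hom_id_assoc]⟩

include hE hG in
/-- Two morphisms out of an object agree if they agree on all generalised points from generators. -/
theorem hom_ext_gen {X Y : E} {a b : X ⟶ Y} (h : ∀ (k : C) (t : ι.obj k ⟶ X), t ≫ a = t ≫ b) :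
    a = b :=
  covering_hom_ext (hG X) fun p => h p.1 p.2

include hE hG in
/-- Descent, with compatibility tested only on generators. -/
theorem exists_desc_gen {σ : Type u} {X : σ → E} {Y Z : E} {f : ∀ i, X i ⟶ Y} (hf : Covering f)
    (a : ∀ i, X i ⟶ Z)
    (h : ∀ i j (k : C) (g : ι.obj k ⟶ X i) (g' : ι.obj k ⟶ X j),
      g ≫ f i = g' ≫ f j → g ≫ a i = g' ≫ a j) :
    ∃ b : Y ⟶ Z, ∀ i, f i ≫ b = a i := by
  refine hE.exists_desc hf a fun i j T g g' hg => hom_ext_gen hE hG fun k t => ?_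
  simpa using h i j k (t ≫ g) (t ≫ g') (by simp [hg])

/-- The presheaf of points of `X` on the generators. -/
abbrev pts (X : E) : Cᵒᵖ ⥤ Type u := ι.op ⋙ yoneda.obj X

theorem isSheaf_pts (X : E) : Presieve.IsSheaf (topology hE hG) (pts (ι := ι) X) := by
  intro k S hS x hx
  obtain ⟨b, hb⟩ := exists_desc_gen hE hG hS (fun p => x p.2.1 p.2.2) fun p p' k₀ g g' hgg => by
    have := hx (ι.preimage g) (ι.preimage g') p.2.2 p'.2.2 (ι.map_injective (by simp [hgg]))
    simpa using this
  exact ⟨b, fun k' f hf => hb ⟨k', f, hf⟩, fun b' hb' =>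
    covering_hom_ext hS fun p => (hb' p.2.1 p.2.2).trans (hb p).symm⟩

/-- The comparison functor. -/
def toSheaf : E ⥤ Sheaf (topology hE hG) (Type u) where
  obj X := ⟨pts (ι := ι) X, (isSheaf_iff_isSheaf_of_type _ _).2 (isSheaf_pts hE hG X)⟩
  map f := ⟨Functor.whiskerLeft ι.op (yoneda.map f)⟩

instance : (toSheaf hE hG).Faithful where
  map_injective {X Y} a b h := hom_ext_gen hE hG fun k t => by
    have := congrArg (fun φ => φ.hom.app (op k) t) h
    exact this

instance : (toSheaf hE hG).Full where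
  map_surjective {X Y} φ := by
    obtain ⟨b, hb⟩ := exists_desc_gen hE hG (hG X) (fun p => φ.hom.app (op p.1) p.2) fun p p' k g g' hg => by
      have h₁ : φ.hom.app (op k) (ι.map (ι.preimage g) ≫ p.2) =
          ι.map (ι.preimage g) ≫ φ.hom.app (op p.1) p.2 :=
        NatTrans.naturality_apply φ.hom (ι.preimage g).op p.2
      have h₂ : φ.hom.app (op k) (ι.map (ι.preimage g') ≫ p'.2) =
          ι.map (ι.preimage g') ≫ φ.hom.app (op p'.1) p'.2 :=
        NatTrans.naturality_apply φ.hom (ι.preimage g').op p'.2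
      rw [Functor.map_preimage] at h₁ h₂
      exact h₁.symm.trans ((congrArg (φ.hom.app (op k)) hg).trans h₂)
    exact ⟨b, by ext k t; exact hb ⟨k.unop, t⟩⟩

section EssSurj

variable (F : Sheaf (topology hE hG) (Type u)) (c : Cofan (fun i : Σ k : C, F.obj.obj (op k) => ι.obj i.1))
  (hc : IsColimit c) (hd : CoproductDisjoint (fun i : Σ k : C, F.obj.obj (op k) => ι.obj i.1))

/-- Sieve of local lifts to a summand. -/
def liftSieve {k : C} (q : ι.obj k ⟶ c.pt) : Sieve k where
  arrows k' h := ∃ (i : Σ k : C, F.obj.obj (op k)) (a : k' ⟶ i.1), ι.map h ≫ q = ι.map a ≫ c.inj i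
  downward_closed := by
    rintro Y Z h ⟨i, a, ha⟩ g
    exact ⟨i, g ≫ a, by simp [ha]⟩

include hc in
theorem liftSieve_mem {k : C} (q : ι.obj k ⟶ c.pt) : liftSieve hE hG F c q ∈ topology hE hG k :=
  lifts_mem hE hG (covering_cofan hc) q _ fun _ _ i a h => ⟨i, ι.preimage a, by simpa using h⟩

include hc hd in
theorem wellDefined {k : C} {i j : Σ k : C, F.obj.obj (op k)} (a : k ⟶ i.1) (b : k ⟶ j.1)
    (h : ι.map a ≫ c.inj i = ι.map b ≫ c.inj j) : F.obj.map a.op i.2 = F.obj.map b.op j.2 := by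
  by_cases hij : i = j
  · subst hij
    have := hd.mono_inj hc i
    rw [ι.map_injective ((cancel_mono (c.inj i)).1 h)]
  · obtain ⟨hI⟩ := hd.nonempty_isInitial_of_ne hc hij _ (pullback.isLimit (c.inj i) (c.inj j))
    have hbot : (⊥ : Sieve k) ∈ topology hE hG k := fun M m hm _ =>
      hE.isIso_of_to_isInitial hI (pullback.lift (ι.map a) (ι.map b) h) m hm
    exact Presieve.IsSheafFor.isSeparatedFor
      ((isSheaf_iff_isSheaf_of_type _ _).1 F.property _ hbot)
      (fun _ _ h => h.elim) _ _ (fun _ _ h => h.elim) (fun _ _ h => h.elim)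

include hc hd in
/-- Evaluation of points of the coproduct. -/
theorem exists_eval {k : C} (q : ι.obj k ⟶ c.pt) :
    ∃ v : F.obj.obj (op k), ∀ (k' : C) (h : k' ⟶ k) (i : Σ k : C, F.obj.obj (op k)) (a : k' ⟶ i.1),
      ι.map h ≫ q = ι.map a ≫ c.inj i → F.obj.map h.op v = F.obj.map a.op i.2 := by
  let x : Presieve.FamilyOfElements F.obj (liftSieve hE hG F c q).arrows :=
    fun k' h hh => F.obj.map hh.choose_spec.choose.op hh.choose.2
  have hx : x.Compatible := by
    intro Y₁ Y₂ Z g₁ g₂ f₁ f₂ h₁ h₂ hg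
    simp only [x, ← Functor.map_comp_apply, ← op_comp]
    refine wellDefined hE hG F c hc hd _ _ ?_
    have e₁ := congrArg (ι.map g₁ ≫ ·) h₁.choose_spec.choose_spec
    have e₂ := congrArg (ι.map g₂ ≫ ·) h₂.choose_spec.choose_spec
    simp only [← Category.assoc, ← Functor.map_comp, hg] at e₁ e₂
    exact e₁.symm.trans e₂
  obtain ⟨v, hv, -⟩ := (isSheaf_iff_isSheaf_of_type _ _).1 F.property _ (liftSieve_mem hE hG F c hc q) x hx
  refine ⟨v, fun k' h i a e => ?_⟩
  have hh : (liftSieve hE hG F c q).arrows h := ⟨i, a, e⟩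
  rw [hv h hh]
  exact wellDefined hE hG F c hc hd _ _ (hh.choose_spec.choose_spec.symm.trans e)

/-- Evaluation of points of the coproduct. -/
noncomputable def eval {k : C} (q : ι.obj k ⟶ c.pt) : F.obj.obj (op k) :=
  (exists_eval hE hG F c hc hd q).choose

theorem eval_spec {k k' : C} (q : ι.obj k ⟶ c.pt) (h : k' ⟶ k) (i : Σ k : C, F.obj.obj (op k))
    (a : k' ⟶ i.1) (e : ι.map h ≫ q = ι.map a ≫ c.inj i) :
    F.obj.map h.op (eval hE hG F c hc hd q) = F.obj.map a.op i.2 :=
  (exists_eval hE hG F c hc hd q).choose_spec k' h i a e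

theorem sheaf_ext {k : C} {S : Sieve k} (hS : S ∈ topology hE hG k) {x y : F.obj.obj (op k)}
    (h : ∀ (k' : C) (f : k' ⟶ k), S f → F.obj.map f.op x = F.obj.map f.op y) : x = y :=
  ((isSheaf_iff_isSheaf_of_type _ _).1 F.property _ hS).isSeparatedFor
    (fun _ f hf => F.obj.map f.op y) x y (fun _ f hf => h _ f hf) (fun _ _ _ => rfl)

theorem eval_map {k k' : C} (g : k' ⟶ k) (q : ι.obj k ⟶ c.pt) :
    eval hE hG F c hc hd (ι.map g ≫ q) = F.obj.map g.op (eval hE hG F c hc hd q) := by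
  refine sheaf_ext hE hG F (liftSieve_mem hE hG F c hc (ι.map g ≫ q)) fun k'' h hh => ?_
  obtain ⟨i, a, e⟩ := hh
  rw [eval_spec hE hG F c hc hd _ h i a e, ← Functor.map_comp_apply, ← op_comp,
    eval_spec hE hG F c hc hd q (h ≫ g) i a (by simpa using e)]

theorem eval_inj (i : Σ k : C, F.obj.obj (op k)) : eval hE hG F c hc hd (c.inj i) = i.2 := by
  simpa using eval_spec hE hG F c hc hd (c.inj i) (𝟙 i.1) i (𝟙 i.1) rfl

include hc hd in
theorem exists_preimage : ∃ B : E, Nonempty ((toSheaf hE hG).obj B ≅ F) := by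
  let v {k : C} (q : ι.obj k ⟶ c.pt) := eval hE hG F c hc hd q
  let σ : Type u := Σ (i j : Σ k : C, F.obj.obj (op k)) (k : C),
    {ab : (k ⟶ i.1) × (k ⟶ j.1) // F.obj.map ab.1.op i.2 = F.obj.map ab.2.op j.2}
  obtain ⟨d, hd', -, -⟩ := hE.exists_cofan (fun s : σ => ι.obj s.2.2.1)
  obtain ⟨R, e, r, he, hr, her⟩ := hE.exists_image
    (Cofan.IsColimit.desc hd' fun s : σ =>
      prod.lift (ι.map s.2.2.2.1.1 ≫ c.inj s.1) (ι.map s.2.2.2.1.2 ≫ c.inj s.2.1))
  have hcomp : ∀ s : σ, d.inj s ≫ e ≫ r =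
      prod.lift (ι.map s.2.2.2.1.1 ≫ c.inj s.1) (ι.map s.2.2.2.1.2 ≫ c.inj s.2.1) :=
    fun s => by rw [her, Cofan.IsColimit.fac]
  have hcov : Covering (fun s : σ => d.inj s ≫ e) := by
    intro M m _ hm
    refine covering_of_uee e he m inferInstance fun _ => ?_
    choose g hg using hm
    exact ⟨Cofan.IsColimit.desc hd' g, Cofan.IsColimit.hom_ext hd' _ _ fun s => by simp [hg]⟩
  -- points of `R` on generators
  have key : ∀ {k : C} (q₁ q₂ : ι.obj k ⟶ c.pt),
      (∃ z, z ≫ r = prod.lift q₁ q₂) ↔ v q₁ = v q₂ := by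
    intro k q₁ q₂
    constructor
    · rintro ⟨z, hz⟩
      refine sheaf_ext hE hG F (lifts_mem hE hG hcov z
        ⟨fun k' h => ∃ (s : σ) (a : ι.obj k' ⟶ ι.obj s.2.2.1), ι.map h ≫ z = a ≫ d.inj s ≫ e, by
          rintro Y Z h ⟨s, a, ha⟩ g
          exact ⟨s, ι.map g ≫ a, by simp [ha]⟩⟩ fun k' h i a ha => ⟨i, a, ha⟩) ?_
      rintro k' h ⟨s, a, ha⟩
      have := congrArg (· ≫ r) ha
      simp only [Category.assoc, hz, hcomp] at this
      have h₁ : ι.map h ≫ q₁ = ι.map (ι.preimage a ≫ s.2.2.2.1.1) ≫ c.inj s.1 := by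
        simpa [prod.lift_fst] using congrArg (· ≫ prod.fst) this
      have h₂ : ι.map h ≫ q₂ = ι.map (ι.preimage a ≫ s.2.2.2.1.2) ≫ c.inj s.2.1 := by
        simpa [prod.lift_snd] using congrArg (· ≫ prod.snd) this
      rw [eval_spec hE hG F c hc hd _ _ _ _ h₁, eval_spec hE hG F c hc hd _ _ _ _ h₂]
      simp only [op_comp, Functor.map_comp_apply, s.2.2.2.2]
    · intro hv
      have : IsIso (pullback.fst (prod.lift q₁ q₂) r) := by
        refine (topology hE hG).intersection_covering (liftSieve_mem hE hG F c hc q₁)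
          (liftSieve_mem hE hG F c hc q₂) _ inferInstance ?_
        rintro ⟨k', h, ⟨i, a, ha⟩, ⟨j, b, hb⟩⟩
        have hab : F.obj.map a.op i.2 = F.obj.map b.op j.2 := by
          rw [← eval_spec hE hG F c hc hd q₁ h i a ha, ← eval_spec hE hG F c hc hd q₂ h j b hb]
          exact congrArg _ hv
        refine ⟨pullback.lift (ι.map h) (d.inj ⟨i, j, k', ⟨(a, b), hab⟩⟩ ≫ e) ?_, pullback.lift_fst _ _ _⟩
        rw [Category.assoc, hcomp, prod.comp_lift]
        exact congrArg₂ prod.lift ha hb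
      exact ⟨inv (pullback.fst (prod.lift q₁ q₂) r) ≫ pullback.snd _ r, by
        rw [Category.assoc, ← pullback.condition, IsIso.inv_hom_id_assoc]⟩
  have keyT : ∀ {T : E} (a b : T ⟶ c.pt),
      (∃ f : T ⟶ R, f ≫ r ≫ prod.fst = a ∧ f ≫ r ≫ prod.snd = b) ↔
        ∀ (k : C) (t : ι.obj k ⟶ T), v (t ≫ a) = v (t ≫ b) := by
    intro T a b
    constructor
    · rintro ⟨f, rfl, rfl⟩ k t
      refine (key _ _).1 ⟨t ≫ f, ?_⟩
      ext <;> simp [prod.lift_fst, prod.lift_snd]
    · intro h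
      have : IsIso (pullback.fst (prod.lift a b) r) := hG T _ inferInstance fun p => by
        obtain ⟨z, hz⟩ := (key _ _).2 (h p.1 p.2)
        exact ⟨pullback.lift p.2 z (by rw [prod.comp_lift, hz]), pullback.lift_fst _ _ _⟩
      refine ⟨inv (pullback.fst (prod.lift a b) r) ≫ pullback.snd _ r, ?_, ?_⟩
      · rw [Category.assoc, ← Category.assoc _ r, ← pullback.condition, Category.assoc,
          IsIso.inv_hom_id_assoc, prod.lift_fst]
      · rw [Category.assoc, ← Category.assoc _ r, ← pullback.condition, Category.assoc,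
          IsIso.inv_hom_id_assoc, prod.lift_snd]
  have hR : SGA4.IsEquivRel (r ≫ prod.fst) (r ≫ prod.snd) := by
    intro T
    refine ⟨fun f g h => ?_, ⟨fun a => (keyT a a).2 fun _ _ => rfl, fun h => ?_, fun h h' => ?_⟩⟩
    · rw [← cancel_mono r]
      ext
      · simpa using congrArg Prod.fst h
      · simpa using congrArg Prod.snd h
    · exact (keyT _ _).2 fun k t => ((keyT _ _).1 h k t).symm
    · exact (keyT _ _).2 fun k t => ((keyT _ _).1 h k t).trans ((keyT _ _).1 h' k t)
  obtain ⟨B, π, hsq, -, hπ⟩ := hE.quot _ _ _ _ hR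
  have hπ' := hE.uee_of_quot hπ hsq
  have hπc : Covering (fun _ : PUnit.{u+1} => π) := fun M m hm h =>
    covering_of_uee π hπ' m hm fun _ => h PUnit.unit
  have hwd : ∀ {k : C} (q₁ q₂ : ι.obj k ⟶ c.pt), q₁ ≫ π = q₂ ≫ π → v q₁ = v q₂ := by
    intro k q₁ q₂ h
    refine (key q₁ q₂).1 ⟨hsq.lift q₁ q₂ h, ?_⟩
    ext
    · rw [Category.assoc, prod.lift_fst]; exact hsq.lift_fst _ _ _
    · rw [Category.assoc, prod.lift_snd]; exact hsq.lift_snd _ _ _
  let Sb {k : C} (b : ι.obj k ⟶ B) : Sieve k :=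
    ⟨fun k' h => ∃ q, ι.map h ≫ b = q ≫ π, by
      rintro Y Z h ⟨q, hq⟩ g
      exact ⟨ι.map g ≫ q, by simp [hq]⟩⟩
  have hSb : ∀ {k : C} (b : ι.obj k ⟶ B), Sb b ∈ topology hE hG k := fun b =>
    lifts_mem hE hG hπc b _ fun _ _ _ a ha => ⟨a, ha⟩
  have hex : ∀ {k : C} (b : ι.obj k ⟶ B), ∃ x : F.obj.obj (op k),
      ∀ (k' : C) (h : k' ⟶ k) (q : ι.obj k' ⟶ c.pt), ι.map h ≫ b = q ≫ π → F.obj.map h.op x = v q := by
    intro k b
    let x : Presieve.FamilyOfElements F.obj (Sb b).arrows := fun k' h hh => v hh.choose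
    have hx : x.Compatible := by
      intro Y₁ Y₂ Z g₁ g₂ f₁ f₂ h₁ h₂ hg
      simp only [x, v, ← eval_map]
      refine hwd _ _ ?_
      have e₁ := congrArg (ι.map g₁ ≫ ·) h₁.choose_spec
      have e₂ := congrArg (ι.map g₂ ≫ ·) h₂.choose_spec
      simp only [← Category.assoc, ← Functor.map_comp, hg] at e₁ e₂
      exact e₁.symm.trans e₂
    obtain ⟨y, hy, -⟩ := (isSheaf_iff_isSheaf_of_type _ _).1 F.property _ (hSb b) x hx
    refine ⟨y, fun k' h q hq => ?_⟩
    have hh : (Sb b).arrows h := ⟨q, hq⟩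
    rw [hy h hh]
    exact hwd _ _ (hh.choose_spec.symm.trans hq)
  choose w hw using @hex
  have hnat : ∀ {k k' : C} (g : k' ⟶ k) (b : ι.obj k ⟶ B), w (ι.map g ≫ b) = F.obj.map g.op (w b) := by
    intro k k' g b
    refine sheaf_ext hE hG F (hSb (ι.map g ≫ b)) fun k'' h hh => ?_
    obtain ⟨q, hq⟩ := hh
    rw [hw _ _ h q hq, ← Functor.map_comp_apply, ← op_comp, hw b _ (h ≫ g) q (by simpa using hq)]
  have hbij : ∀ k : C, Function.Bijective (fun b : ι.obj k ⟶ B => w b) := by
    intro k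
    refine ⟨fun b b' hbb => ?_, fun x => ⟨c.inj ⟨k, x⟩ ≫ π, ?_⟩⟩
    · refine covering_hom_ext ((topology hE hG).intersection_covering (hSb b) (hSb b')) ?_
      rintro ⟨k', h, ⟨q, hq⟩, ⟨q', hq'⟩⟩
      obtain ⟨z, hz⟩ := (key q q').2 (by
        rw [← hw b _ h q hq, ← hw b' _ h q' hq']
        exact congrArg _ hbb)
      have hz₁ : z ≫ r ≫ prod.fst = q := by rw [← Category.assoc, hz, prod.lift_fst]
      have hz₂ : z ≫ r ≫ prod.snd = q' := by rw [← Category.assoc, hz, prod.lift_snd]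
      refine hq.trans (Eq.trans ?_ hq'.symm)
      rw [← hz₁, ← hz₂]
      simpa only [Category.assoc] using congrArg (z ≫ ·) hsq.w
    · have := hw (c.inj ⟨k, x⟩ ≫ π) _ (𝟙 k) (c.inj ⟨k, x⟩) (by simp)
      simpa [v, eval_inj] using this
  refine ⟨B, ⟨(fullyFaithfulSheafToPresheaf _ _).preimageIso ?_⟩⟩
  refine NatIso.ofComponents (fun k => (Equiv.ofBijective _ (hbij k.unop)).toIso) fun {k k'} g => ?_
  ext b
  exact hnat g.unop b

end EssSurj

instance : (toSheaf hE hG).EssSurj where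
  mem_essImage F := by
    obtain ⟨c, hc, hd, -⟩ := hE.exists_cofan (fun i : Σ k : C, F.obj.obj (op k) => ι.obj i.1)
    exact exists_preimage hE hG F c hc hd

instance : (toSheaf hE hG).IsEquivalence where

include hE hG in
theorem isTopos : SGA4.IsTopos.{v, u} E :=
  ⟨C, inferInstance, topology hE hG, ⟨(toSheaf hE hG).asEquivalence⟩⟩

omit [HasFiniteLimits E] in
theorem generates_of_isDetecting {κ : Type u} (G : κ → E) (hd : (ObjectProperty.ofObj G).IsDetecting) :
    Generates (inducedFunctor G) := by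
  intro X M m _ h
  refine hd m ?_
  rintro _ ⟨k⟩ t
  obtain ⟨a, ha⟩ := h ⟨k, t⟩
  exact ⟨a, ha, fun a' ha' => (cancel_mono m).1 (ha'.trans ha.symm)⟩

/-- **Giraud's theorem.** -/
theorem giraud {E : Type v} [Category.{u} E] [HasFiniteLimits E] (hE : Axioms E)
    (P : ObjectProperty E) [ObjectProperty.Small.{u} P] (hd : P.IsDetecting) :
    SGA4.IsTopos.{v, u} E := by
  let G : Shrink.{u} (Subtype P) → E := fun k => ((equivShrink _).symm k).1
  have hG : (ObjectProperty.ofObj G).IsDetecting := by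
    intro X Y f h
    refine hd f fun Z hZ => h _ ?_
    have := ObjectProperty.ofObj_apply G (equivShrink _ ⟨Z, hZ⟩)
    simpa [G] using this
  exact isTopos hE (generates_of_isDetecting G hG)

end Groth.Agent.Topos.Giraud
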