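import Groth.Agent.Topos.Sheaf
import Groth.Agent.Topos.Giraud

/-!
# Generators of a sheaf topos
-/

set_option autoImplicit false
open CategoryTheory CategoryTheory.Limits Opposite
universe w v u v' u'

namespace Groth.Agent.Topos.Gen

open Groth.Agent.DescCatLib Groth.Agent.Topos.Cover

section general

variable {E : Type v} [Category.{u} E]

/-- A colimit cocone gives a covering family. -/
theorem covering_colimit {J : Type u'} [Category.{v'} J] {F : J ⥤ E} {c : Cocone F} (hc : IsColimit c) :
    Covering (fun j => c.ι.app j) := by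
  intro M m _ h
  choose g hg using h
  let s : Cocone F :=
    { pt := M
      ι :=
        { app := g
          naturality := fun i j φ => by
            dsimp
            rw [Category.comp_id, ← cancel_mono m, Category.assoc]
            exact ((congrArg (F.map φ ≫ ·) (hg j)).trans (c.w φ)).trans (hg i).symm } }
  have h₁ : hc.desc s ≫ m = 𝟙 _ := hc.hom_ext fun j => by
    rw [hc.fac_assoc]
    exact (hg j).trans (Category.comp_id _).symm
  exact ⟨⟨hc.desc s, by rw [← cancel_mono m, Category.assoc, h₁]; simp, h₁⟩⟩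

/-- A family of objects from which every object is covered is detecting. -/
theorem isDetecting_of_covering [HasFiniteLimits E] {κ : Type u'} (G : κ → E)
    (h : ∀ Y : E, Covering (fun p : Σ k, (G k ⟶ Y) => p.2)) :
    (ObjectProperty.ofObj G).IsDetecting := by
  intro X Y f hf
  have : Mono f := ⟨fun {T} a b hab => covering_hom_ext (h T) fun p =>
    (hf _ ⟨p.1⟩ (p.2 ≫ a ≫ f)).unique (Category.assoc _ _ _) (by rw [Category.assoc, hab])⟩
  exact h Y f inferInstance fun p => (hf _ ⟨p.1⟩ p.2).exists

end general

variable {C : Type u} [SmallCategory C] (J : GrothendieckTopology C)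

/-- The sheaf generated by an object of the site. -/
noncomputable abbrev gen (X : C) : Sheaf J (Type u) := (presheafToSheaf J (Type u)).obj (yoneda.obj X)

/-- Maps out of generators are sections. -/
noncomputable def homEquiv {X : C} {F : Sheaf J (Type u)} : (gen J X ⟶ F) ≃ F.obj.obj (op X) :=
  ((sheafificationAdjunction J (Type u)).homEquiv _ _).trans yonedaEquiv

theorem homEquiv_comp {X : C} {F G : Sheaf J (Type u)} (t : gen J X ⟶ F) (f : F ⟶ G) :
    homEquiv J (t ≫ f) = f.hom.app (op X) (homEquiv J t) := by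
  simp only [homEquiv, Equiv.trans_apply, Adjunction.homEquiv_naturality_right, yonedaEquiv_comp]
  rfl

theorem homEquiv_map {X Y : C} {F : Sheaf J (Type u)} (g : Y ⟶ X) (t : gen J X ⟶ F) :
    homEquiv J ((presheafToSheaf J (Type u)).map (yoneda.map g) ≫ t) = F.obj.map g.op (homEquiv J t) := by
  simp only [homEquiv, Equiv.trans_apply, Adjunction.homEquiv_naturality_left, yonedaEquiv_naturality]

theorem isIso_of_bijective {F G : Sheaf J (Type u)} (f : F ⟶ G)
    (h : ∀ X : C, Function.Bijective (f.hom.app (op X))) : IsIso f := by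
  have : ∀ U, IsIso (f.hom.app U) := fun U => (isIso_iff_bijective _).2 (h U.unop)
  have : IsIso ((sheafToPresheaf J (Type u)).map f) := NatIso.isIso_of_isIso_app f.hom
  exact isIso_of_reflects_iso f (sheafToPresheaf J (Type u))

/-- All maps from generators cover. -/
theorem covering_gen (F : Sheaf J (Type u)) : Covering (fun p : Σ X : C, (gen J X ⟶ F) => p.2) := by
  intro M m _ h
  refine isIso_of_bijective J m fun X => ⟨?_, fun s => ?_⟩
  · have : Mono ((sheafToPresheaf J (Type u)).map m) := inferInstance
    exact Presheaf.app_injective ((sheafToPresheaf J (Type u)).map m) (op X)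
  · obtain ⟨g, hg⟩ := h ⟨X, (homEquiv J).symm s⟩
    exact ⟨homEquiv J g, by rw [← homEquiv_comp, hg, Equiv.apply_symm_apply]⟩

/-- A covering sieve gives a covering family of sheaves. -/
theorem covering_of_mem {X : C} {S : Sieve X} (hS : S ∈ J X) :
    Covering (fun p : Σ Y : C, {f : Y ⟶ X // S f} =>
      (presheafToSheaf J (Type u)).map (yoneda.map p.2.1)) := by
  intro M m hm h
  have hinj : ∀ U : C, Function.Injective (m.hom.app (op U)) := fun U =>
    have : Mono ((sheafToPresheaf J (Type u)).map m) := inferInstance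
    Presheaf.app_injective ((sheafToPresheaf J (Type u)).map m) (op U)
  choose g hg using h
  let e := homEquiv J (𝟙 (gen J X))
  have hx : ∀ (Y : C) (f : Y ⟶ X) (hf : S f),
      m.hom.app (op Y) (homEquiv J (g ⟨Y, f, hf⟩)) = (gen J X).obj.map f.op e := fun Y f hf => by
    rw [← homEquiv_comp, ← homEquiv_map, Category.comp_id]
    exact congrArg _ (hg ⟨Y, f, hf⟩)
  let x : Presieve.FamilyOfElements M.obj S.arrows := fun Y f hf => homEquiv J (g ⟨Y, f, hf⟩)
  have hxc : x.Compatible := fun Y₁ Y₂ Z g₁ g₂ f₁ f₂ h₁ h₂ hgg => hinj Z (by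
    rw [NatTrans.naturality_apply, NatTrans.naturality_apply, hx, hx, ← Functor.map_comp_apply,
      ← Functor.map_comp_apply, ← op_comp, ← op_comp, hgg])
  obtain ⟨y, hy, -⟩ := (isSheaf_iff_isSheaf_of_type _ _).1 M.property S hS x hxc
  have hy' : m.hom.app (op X) y = e :=
    ((isSheaf_iff_isSheaf_of_type _ _).1 (gen J X).property S hS).isSeparatedFor
      (fun Y f _ => (gen J X).obj.map f.op e) _ _
      (fun Y f hf => by rw [← NatTrans.naturality_apply, hy f hf]; exact hx Y f hf) (fun _ _ _ => rfl)
  have hsec : (homEquiv J).symm y ≫ m = 𝟙 _ := (homEquiv J).injective (by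
    rw [homEquiv_comp, Equiv.apply_symm_apply, hy'])
  exact ⟨⟨(homEquiv J).symm y, by rw [← cancel_mono m, Category.assoc, hsec]; simp, hsec⟩⟩

theorem axioms : Axioms (Sheaf J (Type u)) :=
  ⟨(Sheaf.axioms J).1, (Sheaf.axioms J).2⟩

theorem isDetecting_gen : (ObjectProperty.ofObj (gen J)).IsDetecting :=
  isDetecting_of_covering _ (covering_gen J)

/-- The sheaves of a topologically generating family detect isomorphisms. -/
theorem isDetecting_gen_of_topGenerating {σ : Type u'} (G : σ → C)
    (hG : ∀ X : C, ∃ S ∈ J X, ∀ ⦃Y : C⦄ (f : Y ⟶ X), S f →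
      ∃ (s : σ) (a : Y ⟶ G s) (b : G s ⟶ X), a ≫ b = f) :
    (ObjectProperty.ofObj fun s => gen J (G s)).IsDetecting := by
  refine isDetecting_of_covering _ fun F M m hm h => covering_gen J F m hm fun p => ?_
  obtain ⟨S, hS, hS'⟩ := hG p.1
  have : IsIso (pullback.fst p.2 m) := by
    refine covering_of_mem J hS _ inferInstance fun q => ?_
    obtain ⟨s, a, b, hab⟩ := hS' q.2.1 q.2.2
    obtain ⟨l, hl⟩ := h ⟨s, (presheafToSheaf J (Type u)).map (yoneda.map b) ≫ p.2⟩
    refine ⟨(presheafToSheaf J (Type u)).map (yoneda.map a) ≫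
      pullback.lift ((presheafToSheaf J (Type u)).map (yoneda.map b)) l hl.symm, ?_⟩
    rw [Category.assoc, pullback.lift_fst, ← Functor.map_comp, ← Functor.map_comp, hab]
  exact ⟨inv (pullback.fst p.2 m) ≫ pullback.snd p.2 m, by
    rw [Category.assoc, ← pullback.condition, IsIso.inv_hom_id_assoc]⟩

end Groth.Agent.Topos.Gen
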