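import Groth.Agent.Topos.Gen
import Mathlib.CategoryTheory.Sites.Canonical
import Mathlib.CategoryTheory.Limits.Yoneda
import Mathlib.CategoryTheory.Limits.Types.Limits
import Mathlib.CategoryTheory.Limits.Shapes.Opposites.Products

/-!
# The canonical topology of a category satisfying Giraud's axioms
-/

set_option autoImplicit false
open CategoryTheory CategoryTheory.Limits Opposite
universe w v u v' u' w' v₂ u₂

namespace Groth.Agent.Topos.Canonical

open Groth.Agent.DescCatLib Groth.Agent.Topos.Cover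

variable {E : Type v} [Category.{u} E] [HasFiniteLimits E] (hE : Axioms E)
  {κ : Type u} {G : κ → E} (hG : ∀ Y : E, Covering (fun p : Σ k, (G k ⟶ Y) => p.2))

/-- The family of all arrows of a sieve. -/
abbrev arrows {Y : E} (R : Sieve Y) : Prop :=
  Covering (fun p : Σ X : E, {f : X ⟶ Y // R f} => p.2.1)

/-- The small family of arrows of a sieve out of generators. -/
abbrev genArrows (G : κ → E) {Y : E} (R : Sieve Y) : Prop :=
  Covering (fun p : Σ k, {f : G k ⟶ Y // R f} => p.2.1)

include hG in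
theorem genArrows_iff {Y : E} (R : Sieve Y) : genArrows G R ↔ arrows R := by
  refine ⟨fun h M m hm hR => h m hm fun p => hR ⟨_, p.2⟩, fun h M m hm hR => h m hm fun p => ?_⟩
  have : IsIso (pullback.fst p.2.1 m) := hG p.1 _ inferInstance fun q => by
    obtain ⟨l, hl⟩ := hR ⟨q.1, q.2 ≫ p.2.1, R.downward_closed p.2.2 _⟩
    exact ⟨pullback.lift q.2 l hl.symm, pullback.lift_fst _ _ _⟩
  exact ⟨inv (pullback.fst p.2.1 m) ≫ pullback.snd p.2.1 m, by
    rw [Category.assoc, ← pullback.condition, IsIso.inv_hom_id_assoc]⟩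

include hE hG in
/-- The covering sieves form a topology. -/
theorem arrows_pullback {Y Y' : E} {R : Sieve Y} (h : arrows R) (g : Y' ⟶ Y) : arrows (R.pullback g) := by
  intro M m hm hR
  refine hE.covering_pullback' ((genArrows_iff hG R).2 h) g m hm fun p T t x ht => ?_
  exact hR ⟨T, t, by
    change R (t ≫ g)
    rw [ht]
    exact R.downward_closed p.2.2 x⟩

/-- The covering sieves form a topology. -/
def topology : GrothendieckTopology E where
  sieves Y := {R | arrows R}
  top_mem' Y := by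
    intro M m hm h
    obtain ⟨g, hg⟩ := h ⟨Y, 𝟙 Y, trivial⟩
    exact ⟨⟨g, by rw [← cancel_mono m, Category.assoc, hg, Category.comp_id, Category.id_comp], hg⟩⟩
  pullback_stable' := fun Y Y' R g h => arrows_pullback hE hG h g
  transitive' := by
    intro Y S hS R hR M m hm h
    refine hS m hm fun p => ?_
    have : IsIso (pullback.fst p.2.1 m) := hR p.2.2 _ inferInstance fun q => by
      obtain ⟨l, hl⟩ := h ⟨q.1, q.2.1 ≫ p.2.1, q.2.2⟩
      exact ⟨pullback.lift q.2.1 l hl.symm, pullback.lift_fst _ _ _⟩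
    exact ⟨inv (pullback.fst p.2.1 m) ≫ pullback.snd p.2.1 m, by
      rw [Category.assoc, ← pullback.condition, IsIso.inv_hom_id_assoc]⟩

theorem mem_topology {Y : E} (R : Sieve Y) : R ∈ topology hE hG Y ↔ arrows R := Iff.rfl

include hE hG in
theorem canonicalTopology_eq : Sheaf.canonicalTopology E = topology hE hG := by
  refine le_antisymm (fun Y R hR => ?_) (Sheaf.le_finestTopology _ _ ?_)
  · intro M m hm h
    choose g hg using h
    have hc : Presieve.FamilyOfElements.Compatible (P := yoneda.obj M)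
        (fun X f hf => g ⟨X, f, hf⟩ : Presieve.FamilyOfElements (yoneda.obj M) R.arrows) := by
      intro Y₁ Y₂ Z g₁ g₂ f₁ f₂ h₁ h₂ e
      change g₁ ≫ g ⟨Y₁, f₁, h₁⟩ = g₂ ≫ g ⟨Y₂, f₂, h₂⟩
      rw [← cancel_mono m, Category.assoc, Category.assoc, hg, hg]
      exact e
    obtain ⟨s, hs, -⟩ := Sheaf.isSheaf_yoneda_obj M R hR _ hc
    have hsm : s ≫ m = 𝟙 Y := (Sheaf.isSheaf_yoneda_obj Y R hR).isSeparatedFor
      (fun X f _ => f) _ _ (fun X f hf => by
        change f ≫ s ≫ m = f
        rw [← Category.assoc, show f ≫ s = g ⟨X, f, hf⟩ from hs f hf]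
        exact hg ⟨X, f, hf⟩) (fun X f hf => Category.comp_id f)
    exact ⟨⟨s, by rw [← cancel_mono m, Category.assoc, hsm]; simp, hsm⟩⟩
  · rintro _ ⟨Z, rfl⟩ Y R hR x hx
    obtain ⟨b, hb⟩ := hE.exists_desc ((genArrows_iff hG R).2 hR) (fun p => x p.2.1 p.2.2)
      fun p p' T g g' e => hx g g' p.2.2 p'.2.2 e
    refine ⟨b, fun X f hf => covering_hom_ext (hG X) fun q => ?_, fun b' hb' => ?_⟩
    · change q.2 ≫ f ≫ b = q.2 ≫ x f hf
      rw [← Category.assoc, hb ⟨q.1, q.2 ≫ f, R.downward_closed hf _⟩]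
      simpa using hx (𝟙 _) q.2 (R.downward_closed hf q.2) hf (Category.id_comp _)
    · exact covering_hom_ext ((genArrows_iff hG R).2 hR) fun p => (hb' _ p.2.2).trans (hb p).symm

section values

variable {P : Eᵒᵖ ⥤ Type w}

include hE hG in
theorem injective_of_covering (hP : Presieve.IsSheaf (topology hE hG) P) {σ : Type w'} {Y : E} {X : σ → E}
    {f : ∀ i, X i ⟶ Y} (hf : Covering f) {a b : P.obj (op Y)}
    (h : ∀ i, P.map (f i).op a = P.map (f i).op b) : a = b := by
  let R : Sieve Y := ⟨fun Z g => P.map g.op a = P.map g.op b, fun {Z W g} hg k => by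
    simp only [op_comp, Functor.map_comp_apply, hg]⟩
  have hR : R ∈ topology hE hG Y := fun M m hm hR => hf m hm fun i => hR ⟨X i, f i, h i⟩
  exact (hP R hR).isSeparatedFor (fun Z g _ => P.map g.op b) a b (fun Z g hg => hg) fun _ _ _ => rfl

include hE hG in
theorem exists_glue (hP : Presieve.IsSheaf (topology hE hG) P) {σ : Type w'} {Y : E} {X : σ → E}
    {f : ∀ i, X i ⟶ Y} (hf : Covering f) (y : ∀ i, P.obj (op (X i)))
    (h : ∀ i j (T : E) (g : T ⟶ X i) (g' : T ⟶ X j),
      g ≫ f i = g' ≫ f j → P.map g.op (y i) = P.map g'.op (y j)) :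
    ∃ x : P.obj (op Y), ∀ i, P.map (f i).op x = y i := by
  let R : Sieve Y := ⟨fun Z g => ∃ (i : σ) (l : Z ⟶ X i), l ≫ f i = g, fun {Z W g} ⟨i, l, hl⟩ k =>
    ⟨i, k ≫ l, by rw [Category.assoc, hl]⟩⟩
  have hR : R ∈ topology hE hG Y := fun M m hm hR =>
    hf m hm fun i => hR ⟨X i, f i, i, 𝟙 _, Category.id_comp _⟩
  let x : Presieve.FamilyOfElements P R.arrows :=
    fun Z g hg => P.map hg.choose_spec.choose.op (y hg.choose)
  have hx : x.Compatible := by
    intro Y₁ Y₂ Z g₁ g₂ f₁ f₂ h₁ h₂ e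
    simp only [x, ← Functor.map_comp_apply, ← op_comp]
    refine h _ _ _ _ _ ?_
    rw [Category.assoc, Category.assoc, h₁.choose_spec.choose_spec, h₂.choose_spec.choose_spec, e]
  obtain ⟨z, hz, -⟩ := hP R hR x hx
  refine ⟨z, fun i => ?_⟩
  have hi : R.arrows (f i) := ⟨i, 𝟙 _, Category.id_comp _⟩
  rw [hz (f i) hi]
  refine (h _ i (X i) _ (𝟙 _) (hi.choose_spec.choose_spec.trans (Category.id_comp _).symm)).trans ?_
  simp

include hE hG in
/-- A sheaf takes disjoint coproducts to products. -/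
theorem exists_glue_cofan (hP : Presieve.IsSheaf (topology hE hG) P) {σ : Type w'} {X : σ → E} {c : Cofan X}
    (hc : IsColimit c) (hd : CoproductDisjoint X) (y : ∀ i, P.obj (op (X i))) :
    ∃ x : P.obj (op c.pt), ∀ i, P.map (c.inj i).op x = y i := by
  refine exists_glue hE hG hP (covering_cofan hc) y fun i j T g g' e => ?_
  by_cases hij : i = j
  · subst hij
    have := hd.mono_inj hc i
    rw [(cancel_mono (c.inj i)).1 e]
  · obtain ⟨hI⟩ := hd.nonempty_isInitial_of_ne hc hij _ (pullback.isLimit (c.inj i) (c.inj j))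
    exact injective_of_covering hE hG hP (σ := PEmpty.{u + 1}) (f := fun z => z.elim) (X := fun z => z.elim)
      (fun M m hm _ => hE.isIso_of_to_isInitial hI (pullback.lift g g' e) m hm) fun z => z.elim

include hE hG in
/-- A sheaf takes colimits to limits. -/
theorem preservesLimits_of_isSheaf (hP : Presieve.IsSheaf (topology hE hG) P) :
    PreservesLimitsOfSize.{u, u} P := by
  refine ⟨fun {I} _ => ⟨fun {K} => ⟨fun {c} hc => (Types.isLimit_iff _).2 fun s hs => ?_⟩⟩⟩
  have hc' : IsColimit (coconeLeftOpOfCone c) := isColimitCoconeLeftOpOfCone K hc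
  have hcov : Covering (fun i : I => (c.π.app i).unop) := fun M m hm h =>
    Gen.covering_colimit hc' m hm fun i => h i.unop
  suffices hcompat : ∀ (i j : I) (T : E) (g : T ⟶ (K.obj i).unop) (g' : T ⟶ (K.obj j).unop),
      g ≫ (c.π.app i).unop = g' ≫ (c.π.app j).unop → P.map g.op (s i) = P.map g'.op (s j) by
    obtain ⟨x, hx⟩ := exists_glue hE hG hP hcov (fun i => (show P.obj (op (K.obj i).unop) from s i)) hcompat
    exact ⟨x, hx, fun x' hx' => injective_of_covering hE hG hP hcov fun i => (hx' i).trans (hx i).symm⟩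
  obtain ⟨p, hp, hdisj, -⟩ := hE.exists_cofan (fun i : I => (K.obj i).unop)
  obtain ⟨y, hy⟩ := exists_glue_cofan hE hG hP hp hdisj s
  let σ : Type u := Σ k, {ab : (G k ⟶ p.pt) × (G k ⟶ p.pt) // P.map ab.1.op y = P.map ab.2.op y}
  obtain ⟨d, hd', -, -⟩ := hE.exists_cofan (fun s : σ => G s.1)
  obtain ⟨R, e, r, he, hr, her⟩ := hE.exists_image
    (Cofan.IsColimit.desc hd' fun s : σ => prod.lift s.2.1.1 s.2.1.2)
  have hcovR : Covering (fun s : σ => d.inj s ≫ e) := by
    intro M m _ hm
    refine covering_of_uee e he m inferInstance fun _ => ?_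
    choose g hg using hm
    exact ⟨Cofan.IsColimit.desc hd' g, Cofan.IsColimit.hom_ext hd' _ _ fun s => by simp [hg]⟩
  have keyT : ∀ {T : E} (a b : T ⟶ p.pt),
      (∃ f : T ⟶ R, f ≫ r ≫ prod.fst = a ∧ f ≫ r ≫ prod.snd = b) ↔ P.map a.op y = P.map b.op y := by
    intro T a b
    constructor
    · rintro ⟨f, rfl, rfl⟩
      refine injective_of_covering hE hG hP (hE.covering_pullback hcovR f) fun s => ?_
      simp only [← Functor.map_comp_apply, ← op_comp]
      have h₁ : pullback.fst f (d.inj s ≫ e) ≫ f ≫ r ≫ prod.fst = pullback.snd f (d.inj s ≫ e) ≫ s.2.1.1 := by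
        rw [pullback.condition_assoc, Category.assoc, reassoc_of% her, Cofan.IsColimit.fac_assoc, prod.lift_fst]
      have h₂ : pullback.fst f (d.inj s ≫ e) ≫ f ≫ r ≫ prod.snd = pullback.snd f (d.inj s ≫ e) ≫ s.2.1.2 := by
        rw [pullback.condition_assoc, Category.assoc, reassoc_of% her, Cofan.IsColimit.fac_assoc, prod.lift_snd]
      rw [h₁, h₂]
      simp only [op_comp, Functor.map_comp_apply, s.2.2]
    · intro h
      have : IsIso (pullback.fst (prod.lift a b) r) := hG T _ inferInstance fun q => by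
        refine ⟨pullback.lift q.2 (d.inj ⟨q.1, (q.2 ≫ a, q.2 ≫ b), by
          simp only [op_comp, Functor.map_comp_apply, h]⟩ ≫ e) ?_, pullback.lift_fst _ _ _⟩
        rw [Category.assoc, her, Cofan.IsColimit.fac, prod.comp_lift]
      refine ⟨inv (pullback.fst (prod.lift a b) r) ≫ pullback.snd _ r, ?_, ?_⟩
      · rw [Category.assoc, ← Category.assoc _ r, ← pullback.condition, Category.assoc,
          IsIso.inv_hom_id_assoc, prod.lift_fst]
      · rw [Category.assoc, ← Category.assoc _ r, ← pullback.condition, Category.assoc,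
          IsIso.inv_hom_id_assoc, prod.lift_snd]
  have hR : SGA4.IsEquivRel (r ≫ prod.fst) (r ≫ prod.snd) := by
    intro T
    refine ⟨fun f g h => ?_, ⟨fun a => (keyT a a).2 rfl, fun h => ?_, fun h h' => ?_⟩⟩
    · rw [← cancel_mono r]
      ext
      · simpa using congrArg Prod.fst h
      · simpa using congrArg Prod.snd h
    · exact (keyT _ _).2 ((keyT _ _).1 h).symm
    · exact (keyT _ _).2 (((keyT _ _).1 h).trans ((keyT _ _).1 h'))
  obtain ⟨B, π, hsq, -, -⟩ := hE.quot _ _ _ _ hR
  let cc : Cocone K.leftOp :=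
    { pt := B
      ι :=
        { app := fun i => p.inj i.unop ≫ π
          naturality := fun i j φ => by
            dsimp
            rw [Category.comp_id, ← Category.assoc]
            have hk := (keyT ((K.map φ.unop).unop ≫ p.inj j.unop) (p.inj i.unop)).2 (by
              simp only [op_comp, Functor.map_comp_apply, hy]
              exact hs φ.unop)
            obtain ⟨f, h₁, h₂⟩ := hk
            rw [← h₁, ← h₂, Category.assoc, hsq.w, ← Category.assoc] } }
  intro i j T g g' hgg
  have h' : (g ≫ p.inj i) ≫ π = (g' ≫ p.inj j) ≫ π := by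
    have e₁ : (c.π.app i).unop ≫ hc'.desc cc = p.inj i ≫ π := hc'.fac cc (op i)
    have e₂ : (c.π.app j).unop ≫ hc'.desc cc = p.inj j ≫ π := hc'.fac cc (op j)
    rw [Category.assoc, Category.assoc, ← e₁, ← e₂, reassoc_of% hgg]
  have := (keyT _ _).1 ⟨hsq.lift _ _ h', hsq.lift_fst _ _ _, hsq.lift_snd _ _ _⟩
  simpa only [op_comp, Functor.map_comp_apply, hy] using this

omit [HasFiniteLimits E] in
/-- A limit preserving presheaf is injective on colimit cocones. -/
theorem injective_of_colimit [PreservesLimitsOfSize.{u, u} P] {σ : Type u} {X : σ → E} {c : Cofan X}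
    (hc : IsColimit c) {a b : P.obj (op c.pt)} (h : ∀ i, P.map (c.inj i).op a = P.map (c.inj i).op b) :
    a = b := by
  have hl := isLimitFanMkObjOfIsLimit P _ _ (Cofan.IsColimit.op hc)
  exact Concrete.isLimit_ext _ hl a b fun j => by obtain ⟨i⟩ := j; exact h i

theorem exists_of_cofan [PreservesLimitsOfSize.{u, u} P] {σ : Type u} {X : σ → E} {c : Cofan X}
    (hc : IsColimit c) (y : ∀ i, P.obj (op (X i))) :
    ∃ x : P.obj (op c.pt), ∀ i, P.map (c.inj i).op x = y i := by
  have hl := isLimitFanMkObjOfIsLimit P _ _ (Cofan.IsColimit.op hc)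
  obtain ⟨x, hx, -⟩ := (Types.isLimit_iff _).1 ⟨hl⟩
    (fun i => (show P.obj (op (X i.as)) from y i.as)) (fun {i j} φ => by
      obtain ⟨i⟩ := i; obtain rfl := Discrete.eq_of_hom φ; simp)
  exact ⟨x, fun i => hx ⟨i⟩⟩

include hE hG in
theorem isSheaf_of_preservesLimits [PreservesLimitsOfSize.{u, u} P] :
    Presieve.IsSheaf (topology hE hG) P := by
  -- limit preservation gives injectivity on small covering families
  have hinj : ∀ {σ : Type u} {Y : E} {X : σ → E} {f : ∀ i, X i ⟶ Y}, Covering f →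
      ∀ {a b : P.obj (op Y)}, (∀ i, P.map (f i).op a = P.map (f i).op b) → a = b := by
    intro σ Y X f hf a b h
    obtain ⟨c, hc, -, -⟩ := hE.exists_cofan X
    have := uee_effectiveEpi (hE.uee_desc hf hc)
    have := preservesLimitsOfSize_shrink.{0, u, 0, u} P
    have : Mono (Cofan.IsColimit.desc hc f).op := inferInstance
    refine (mono_iff_injective (P.map (Cofan.IsColimit.desc hc f).op)).1 inferInstance
      (injective_of_colimit hc fun i => ?_)
    simp only [← Functor.map_comp_apply, ← op_comp, Cofan.IsColimit.fac, h]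
  intro Y R hR x hx
  have hf := (genArrows_iff hG R).2 hR
  obtain ⟨c, hc, hd, hu⟩ := hE.exists_cofan (fun p : Σ k, {f : G k ⟶ Y // R f} => G p.1)
  let d := Cofan.IsColimit.desc hc (fun p : Σ k, {f : G k ⟶ Y // R f} => p.2.1)
  have hd' : Uee d := hE.uee_desc hf hc
  have hd'' := uee_effectiveEpi hd'
  obtain ⟨z, hz⟩ := exists_of_cofan hc (fun p => x p.2.1 p.2.2)
  have hker : P.map (pullback.fst d d).op z = P.map (pullback.snd d d).op z := by
    refine hinj (hE.covering_pullback (covering_cofan hc) (pullback.fst d d)) fun p => ?_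
    refine hinj (hE.covering_pullback (covering_cofan hc)
      (pullback.fst (pullback.fst d d) (c.inj p) ≫ pullback.snd d d)) fun q => ?_
    simp only [← Functor.map_comp_apply, ← op_comp]
    rw [pullback.condition, pullback.condition, op_comp, op_comp, op_comp, Functor.map_comp_apply,
      Functor.map_comp_apply, Functor.map_comp_apply, hz, hz, ← Functor.map_comp_apply, ← op_comp]
    refine hx _ _ p.2.2 q.2.2 ?_
    have e₁ : c.inj p ≫ d = p.2.1 := Cofan.IsColimit.fac hc _ p
    have e₂ : c.inj q ≫ d = q.2.1 := Cofan.IsColimit.fac hc _ q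
    rw [← e₁, ← e₂, Category.assoc, ← pullback.condition_assoc, ← pullback.condition_assoc,
      pullback.condition (f := d) (g := d)]
    simp
  have w : d.op ≫ (pullback.fst d d).op = d.op ≫ (pullback.snd d d).op := by
    rw [← op_comp, ← op_comp, pullback.condition]
  have hlim : IsLimit (Fork.ofι d.op w) := Fork.IsLimit.mk' _ fun s => by
    have hs : ∀ {Z : E} (g₁ g₂ : Z ⟶ c.pt), g₁ ≫ d = g₂ ≫ d → g₁ ≫ s.ι.unop = g₂ ≫ s.ι.unop := by
      intro Z g₁ g₂ hg
      have hh := congrArg Quiver.Hom.unop s.condition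
      simp only [unop_comp, Quiver.Hom.unop_op] at hh
      simpa [reassoc_of% (pullback.lift_fst g₁ g₂ hg), reassoc_of% (pullback.lift_snd g₁ g₂ hg)] using
        congrArg (pullback.lift g₁ g₂ hg ≫ ·) hh
    refine ⟨(EffectiveEpi.desc d s.ι.unop hs).op, Quiver.Hom.unop_inj (EffectiveEpi.fac d _ hs), fun {m} hm => ?_⟩
    exact Quiver.Hom.unop_inj (EffectiveEpi.uniq d _ hs _ (congrArg Quiver.Hom.unop hm))
  have := preservesLimitsOfSize_shrink.{0, u, 0, u} P
  obtain ⟨t, ht, -⟩ := (Types.type_equalizer_iff_unique _ _).1 ⟨isLimitForkMapOfIsLimit P _ hlim⟩ z hker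
  have htp : ∀ (p : Σ k, {f : G k ⟶ Y // R f}), P.map p.2.1.op t = x p.2.1 p.2.2 := fun p => by
    rw [← hz p, ← ht, ← Functor.map_comp_apply, ← op_comp, Cofan.IsColimit.fac]
  refine ⟨t, fun X f hf' => hinj (hG X) fun q => ?_, fun t' ht' => hinj hf fun p => ?_⟩
  · rw [← Functor.map_comp_apply, ← op_comp, htp ⟨q.1, q.2 ≫ f, R.downward_closed hf' _⟩]
    simpa using hx (𝟙 _) q.2 (R.downward_closed hf' q.2) hf' (Category.id_comp _)
  · rw [htp, ht' p.2.1 p.2.2]

include hE hG in
theorem isSheaf_canonical_iff (P : Eᵒᵖ ⥤ Type w) :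
    Presieve.IsSheaf (Sheaf.canonicalTopology E) P ↔ PreservesLimitsOfSize.{u, u} P := by
  rw [canonicalTopology_eq hE hG]
  exact ⟨preservesLimits_of_isSheaf hE hG, fun _ => isSheaf_of_preservesLimits hE hG⟩

end values

include hE hG in
/-- Sheaves with values in any category on the canonical topology are the limit preserving functors. -/
theorem isSheaf_canonical_iff' {A : Type u₂} [Category.{v₂} A] (F : Eᵒᵖ ⥤ A) :
    Presheaf.IsSheaf (Sheaf.canonicalTopology E) F ↔ PreservesLimitsOfSize.{u, u} F := by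
  refine ⟨fun h => ⟨fun {I} _ => ⟨fun {K} => ⟨fun {c} hc => ⟨coyonedaJointlyReflectsLimits _ _ fun X => ?_⟩⟩⟩⟩,
    fun h X => (isSheaf_canonical_iff hE hG _).2 inferInstance⟩
  have := (isSheaf_canonical_iff hE hG (F ⋙ coyoneda.obj X)).1 (h X.unop)
  exact isLimitOfPreserves (F ⋙ coyoneda.obj X) hc

end Groth.Agent.Topos.Canonical
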