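import Groth.Agent.Topos.Canonical
import Mathlib.CategoryTheory.Sites.Continuous
import Mathlib.CategoryTheory.Limits.Preserves.Opposites
import Mathlib.CategoryTheory.Limits.Presheaf
import Mathlib.CategoryTheory.Adjunction.Restrict
import Mathlib.CategoryTheory.Sites.LocallyBijective

/-!
# Functors between topoi commuting with colimits
-/

set_option autoImplicit false
open CategoryTheory CategoryTheory.Limits Opposite
universe w v u v' u'

namespace Groth.Agent.Topos.Continuous

open Groth.Agent.DescCatLib Groth.Agent.Topos.Cover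

variable {E : Type (u + 1)} [Category.{u} E] [HasFiniteLimits E] (hE : Axioms E)
  {κ : Type u} {G : κ → E} (hG : ∀ Y : E, Covering (fun p : Σ k, (G k ⟶ Y) => p.2))
  {E' : Type (u + 1)} [Category.{u} E'] [HasFiniteLimits E'] (hE' : Axioms E')
  {κ' : Type u} {G' : κ' → E'} (hG' : ∀ Y : E', Covering (fun p : Σ k, (G' k ⟶ Y) => p.2))
  (f : E ⥤ E')

local notation "can" => Sheaf.canonicalTopology

include hE hG hE' hG' in
theorem isContinuous_of_preservesColimits [PreservesColimitsOfSize.{u, u} f] :
    f.IsContinuous.{u} (can E) (can E') where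
  op_comp_isSheaf_of_types P := by
    have := (Canonical.isSheaf_canonical_iff hE' hG' P.obj).1 ((isSheaf_iff_isSheaf_of_type _ _).1 P.property)
    have := preservesLimitsOfSize_op.{u, u} f
    exact (Canonical.isSheaf_canonical_iff hE hG _).2 (inferInstance : PreservesLimitsOfSize.{u, u} (f.op ⋙ P.obj))

include hE hG in
theorem preservesColimits_of_isContinuous [f.IsContinuous.{u} (can E) (can E')] :
    PreservesColimitsOfSize.{u, u} f := by
  have : PreservesLimitsOfSize.{u, u} f.op := by
    refine ⟨fun {I} _ => ⟨fun {K} => ⟨fun {c} hc => ?_⟩⟩⟩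
    have key : ∀ (H : E') (y : ∀ i, (f.op.obj (K.obj i)).unop ⟶ H),
        (∀ {i j} (φ : i ⟶ j), (f.op.map (K.map φ)).unop ≫ y i = y j) →
        ∃! x : (f.op.obj c.pt).unop ⟶ H, ∀ i, (f.op.map (c.π.app i)).unop ≫ x = y i := by
      intro H y hy
      let P : E'ᵒᵖ ⥤ Type (u + 1) := yoneda.obj H ⋙ uliftFunctor.{u + 1, u}
      have hP : Presieve.IsSheaf (can E') P :=
        Presieve.isSheaf_comp_uliftFunctor (Sheaf.canonicalTopology E') (Sheaf.isSheaf_yoneda_obj H)
      have := (Canonical.isSheaf_canonical_iff hE hG (f.op ⋙ P)).1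
        (f.op_comp_isSheaf_of_types (can E) (can E') ⟨P, (isSheaf_iff_isSheaf_of_type _ _).2 hP⟩)
      obtain ⟨x, hx, hu⟩ := (Types.isLimit_iff _).1 ⟨isLimitOfPreserves (f.op ⋙ P) hc⟩
        (fun i => (ULift.up (y i) : ULift.{u + 1} _)) (fun {i j} φ => congrArg ULift.up (hy φ))
      exact ⟨x.down, fun i => congrArg ULift.down (hx i),
        fun z hz => congrArg ULift.down (hu (ULift.up z) fun i => congrArg ULift.up (hz i))⟩
    have hk : ∀ s : Cone (K ⋙ f.op), ∃! x : (f.op.obj c.pt).unop ⟶ s.pt.unop,
        ∀ i, (f.op.map (c.π.app i)).unop ≫ x = (s.π.app i).unop := fun s =>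
      key s.pt.unop (fun i => (s.π.app i).unop) fun {i j} φ => congrArg Quiver.Hom.unop (s.w φ)
    exact ⟨{
      lift := fun s => (hk s).exists.choose.op
      fac := fun s i => Quiver.Hom.unop_inj ((hk s).exists.choose_spec i)
      uniq := fun s m hm => Quiver.Hom.unop_inj
        ((hk s).unique (fun i => congrArg Quiver.Hom.unop (hm i)) (hk s).exists.choose_spec) }⟩
  exact preservesColimitsOfSize_of_op f

include hE hG hE' hG' in
theorem isContinuous_of_lex [PreservesFiniteLimits f]
    (hf : ∀ {σ : Type u} {Y : E} {X : σ → E} {a : ∀ i, X i ⟶ Y}, Covering a → Covering fun i => f.map (a i)) :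
    f.IsContinuous.{u} (can E) (can E') where
  op_comp_isSheaf_of_types P := by
    have hP := (isSheaf_iff_isSheaf_of_type _ _).1 P.property
    replace hP : Presieve.IsSheaf (Canonical.topology hE' hG') P.obj :=
      Eq.mp (congrArg (fun τ => Presieve.IsSheaf τ P.obj) (Canonical.canonicalTopology_eq hE' hG')) hP
    rw [Canonical.canonicalTopology_eq hE hG]
    intro Y R hR x hx
    have hc := (Canonical.genArrows_iff hG R).2 hR
    obtain ⟨z, hz⟩ := Canonical.exists_glue hE' hG' hP (hf hc) (fun p => x p.2.1 p.2.2)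
      fun p q T g g' e => by
        have sq := (IsPullback.of_hasPullback p.2.1 q.2.1).map f
        have k := hx (pullback.fst p.2.1 q.2.1) (pullback.snd p.2.1 q.2.1) p.2.2 q.2.2 pullback.condition
        simp only [Functor.comp_map, Functor.op_map, Quiver.Hom.unop_op] at k
        have hg : sq.lift g g' e ≫ f.map (pullback.fst p.2.1 q.2.1) = g := sq.lift_fst _ _ _
        have hg' : sq.lift g g' e ≫ f.map (pullback.snd p.2.1 q.2.1) = g' := sq.lift_snd _ _ _
        have k' := congrArg (P.obj.map (sq.lift g g' e).op) k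
        simp only [← Functor.map_comp_apply, ← op_comp, hg, hg'] at k'
        exact k'
    refine ⟨z, fun X a ha => Canonical.injective_of_covering hE' hG' hP (hf (hG X)) fun q => ?_,
      fun z' hz' => Canonical.injective_of_covering hE' hG' hP (hf hc) fun p => ?_⟩
    · have k := hx (𝟙 _) q.2 (R.downward_closed ha q.2) ha (Category.id_comp _)
      simp only [Functor.comp_map, Functor.op_map, Quiver.Hom.unop_op] at k
      have h₁ := hz ⟨q.1, q.2 ≫ a, R.downward_closed ha _⟩
      rw [f.map_comp, op_comp, Functor.map_comp_apply] at h₁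
      change P.obj.map (f.map q.2).op (P.obj.map (f.map a).op z) = _
      rw [h₁, ← k]
      simp
    · rw [hz p]
      exact hz' p.2.1 p.2.2

section leftAdjoint

variable {C D : Type u} [SmallCategory C] [SmallCategory D] (J : GrothendieckTopology C)
  (K : GrothendieckTopology D) (F : Sheaf J (Type u) ⥤ Sheaf K (Type u))

/-- Colimit preserving functors between sheaf topoi are left adjoints. -/
theorem isLeftAdjoint [PreservesColimitsOfSize.{u, u} F] : F.IsLeftAdjoint := by
  have : PreservesColimitsOfSize.{u, u} (presheafToSheaf J (Type u)) :=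
    (sheafificationAdjunction J (Type u)).leftAdjoint_preservesColimits
  let L : (Cᵒᵖ ⥤ Type u) ⥤ Sheaf K (Type u) := presheafToSheaf J (Type u) ⋙ F
  have : L.IsLeftAdjoint := Presheaf.isLeftAdjoint_of_preservesColimits.{u} L
  let R := L.rightAdjoint
  let adj : L ⊣ R := Adjunction.ofIsLeftAdjoint L
  have hR : ∀ H, Presheaf.IsSheaf J (R.obj H) := fun H => by
    rw [isSheaf_iff_isSheaf_of_type]
    intro X S hS
    rw [Presieve.isSheafFor_iff_yonedaSheafCondition]
    intro φ
    have hW : IsIso ((presheafToSheaf J (Type u)).map S.functorInclusion) := by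
      have : Presheaf.IsLocallyInjective J S.functorInclusion :=
        Presheaf.isLocallyInjective_of_injective J _ fun _ => Subtype.val_injective
      have : Presheaf.IsLocallySurjective J S.functorInclusion := ⟨fun {U} (g : U ⟶ X) =>
        J.superset_covering (fun V i hi => ⟨⟨i ≫ g, hi⟩, rfl⟩) (J.pullback_stable g hS)⟩
      rw [← J.W_iff, J.W_iff_isLocallyBijective]
      exact ⟨inferInstance, inferInstance⟩
    have : IsIso (L.map S.functorInclusion) := by
      change IsIso (F.map ((presheafToSheaf J (Type u)).map S.functorInclusion))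
      infer_instance
    refine ⟨adj.homEquiv _ _ (inv (L.map S.functorInclusion) ≫ (adj.homEquiv _ _).symm φ), ?_, fun ψ hψ => ?_⟩
    · apply (adj.homEquiv _ _).symm.injective
      simp [Adjunction.homEquiv_naturality_left_symm]
    · apply (adj.homEquiv _ _).symm.injective
      rw [Equiv.symm_apply_apply, IsIso.eq_inv_comp, ← Adjunction.homEquiv_naturality_left_symm]
      exact congrArg _ hψ
  let R' : Sheaf K (Type u) ⥤ Sheaf J (Type u) :=
    { obj := fun H => ⟨R.obj H, hR H⟩
      map := fun g => ⟨R.map g⟩ }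
  exact ⟨R', ⟨adj.restrictFullyFaithful (iC := sheafToPresheaf J (Type u)) (iD := 𝟭 _)
    (fullyFaithfulSheafToPresheaf J (Type u)) (Functor.FullyFaithful.id _)
    (L := F) (R := R')
    ((Functor.associator _ _ _).symm ≪≫ Functor.isoWhiskerRight (asIso (sheafificationAdjunction J (Type u)).counit) F ≪≫
      F.leftUnitor ≪≫ F.rightUnitor.symm)
    (Iso.refl _)⟩⟩

end leftAdjoint

end Groth.Agent.Topos.Continuous
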