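import Groth.Agent.Topos.Gen
import Mathlib.CategoryTheory.Limits.Comma
import Mathlib.CategoryTheory.Presentable.Presheaf
import Mathlib.CategoryTheory.Presentable.Type

/-!
# The glued category of two sheaf topoi is a topos
-/

set_option autoImplicit false
open CategoryTheory CategoryTheory.Limits Opposite
universe w v u v' u'

namespace Groth.Agent.Topos.CommaTopos

open Groth.Agent.DescCatLib Groth.Agent.Topos.Cover

section lex

variable {A : Type u} [Category.{v} A] {B : Type u'} [Category.{v'} B]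

/-- Equivalence relations are transported by left exact functors. -/
theorem isEquivRel_map_of_lex [HasFiniteLimits A] [HasPullbacks B] (F : A ⥤ B) [PreservesFiniteLimits F]
    {R X : A} {p₁ p₂ : R ⟶ X} (h : SGA4.IsEquivRel p₁ p₂) :
    SGA4.IsEquivRel (F.map p₁) (F.map p₂) := by
  obtain ⟨e⟩ := (Presheaf.isEquivalenceRelation_of_isEquivRel h).nonempty_equivalenceRelation
  have : Mono (prod.lift p₁ p₂) := ⟨fun {T} f g hfg => (h T).1 (Prod.ext
    (by simpa [prod.lift_fst] using congrArg (· ≫ prod.fst) hfg)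
    (by simpa [prod.lift_snd] using congrArg (· ≫ prod.snd) hfg))⟩
  have : JointlyMono₂ (F.map p₁) (F.map p₂) := ⟨fun T f g h₁ h₂ => by
    rw [← cancel_mono (F.map (prod.lift p₁ p₂))]
    have hlim := (Limits.prodIsProd X X)
    refine (mapIsLimitOfPreservesOfIsLimit F _ _ hlim).hom_ext fun j => ?_
    rcases j with ⟨⟨⟩⟩
    · change (f ≫ F.map (prod.lift p₁ p₂)) ≫ F.map prod.fst = (g ≫ F.map (prod.lift p₁ p₂)) ≫ F.map prod.fst
      rw [Category.assoc, Category.assoc, ← F.map_comp, prod.lift_fst, h₁]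
    · change (f ≫ F.map (prod.lift p₁ p₂)) ≫ F.map prod.snd = (g ≫ F.map (prod.lift p₁ p₂)) ≫ F.map prod.snd
      rw [Category.assoc, Category.assoc, ← F.map_comp, prod.lift_snd, h₂]⟩
  have : IsEquivalenceRelation (F.map p₁) (F.map p₂) :=
    ⟨⟨{ e.toReflexiveRelation.map F, e.toSymmetricRelation.map F, e.toTransitiveRelation.map F with }⟩⟩
  exact Presheaf.isEquivRel_of_isEquivalenceRelation _ _

end lex

section comma

variable {A : Type u} [Category.{v} A] {B : Type u'} [Category.{v'} B] (ρ : B ⥤ A)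

local notation "Gl" => Comma (𝟭 A) ρ

theorem mono_of_components {P Q : Gl} (f : P ⟶ Q) [Mono f.left] [Mono f.right] : Mono f :=
  ⟨fun a b h => CommaMorphism.ext ((cancel_mono f.left).1 (congrArg CommaMorphism.left h))
    ((cancel_mono f.right).1 (congrArg CommaMorphism.right h))⟩

theorem isPullback_of_components [PreservesLimitsOfShape WalkingCospan ρ] {P X Y S : Gl}
    {a : P ⟶ X} {b : P ⟶ Y} {f : X ⟶ S} {g : Y ⟶ S}
    (hl : IsPullback a.left b.left f.left g.left) (hr : IsPullback a.right b.right f.right g.right) :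
    IsPullback a b f g := by
  refine ⟨⟨CommaMorphism.ext hl.w hr.w⟩, ⟨PullbackCone.IsLimit.mk _
    (fun s => { left := hl.lift s.fst.left s.snd.left (congrArg CommaMorphism.left s.condition)
                right := hr.lift s.fst.right s.snd.right (congrArg CommaMorphism.right s.condition)
                w := ?_ })
    (fun s => CommaMorphism.ext (hl.lift_fst _ _ _) (hr.lift_fst _ _ _))
    (fun s => CommaMorphism.ext (hl.lift_snd _ _ _) (hr.lift_snd _ _ _))
    (fun s m h₁ h₂ => CommaMorphism.ext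
      (hl.hom_ext (by simp [← h₁]) (by simp [← h₂]))
      (hr.hom_ext (by simp [← h₁]) (by simp [← h₂])))⟩⟩
  refine (hr.map ρ).hom_ext ?_ ?_
  · have h₁ := a.w
    have h₂ := s.fst.w
    simp only [Functor.id_map] at h₁ h₂ ⊢
    rw [Category.assoc, Category.assoc, ← ρ.map_comp, hr.lift_fst, ← h₁, ← Category.assoc, hl.lift_fst, h₂]
  · have h₁ := b.w
    have h₂ := s.snd.w
    simp only [Functor.id_map] at h₁ h₂ ⊢
    rw [Category.assoc, Category.assoc, ← ρ.map_comp, hr.lift_snd, ← h₁, ← Category.assoc, hl.lift_snd, h₂]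

theorem isPushout_of_components {P X Y S : Gl}
    {a : P ⟶ X} {b : P ⟶ Y} {f : X ⟶ S} {g : Y ⟶ S}
    (hl : IsPushout a.left b.left f.left g.left) (hr : IsPushout a.right b.right f.right g.right) :
    IsPushout a b f g := by
  refine ⟨⟨CommaMorphism.ext hl.w hr.w⟩, ⟨PushoutCocone.IsColimit.mk _
    (fun s => { left := hl.desc s.inl.left s.inr.left (congrArg CommaMorphism.left s.condition)
                right := hr.desc s.inl.right s.inr.right (congrArg CommaMorphism.right s.condition)
                w := ?_ })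
    (fun s => CommaMorphism.ext (hl.inl_desc _ _ _) (hr.inl_desc _ _ _))
    (fun s => CommaMorphism.ext (hl.inr_desc _ _ _) (hr.inr_desc _ _ _))
    (fun s m h₁ h₂ => CommaMorphism.ext
      (hl.hom_ext (by simp [← h₁]) (by simp [← h₂]))
      (hr.hom_ext (by simp [← h₁]) (by simp [← h₂])))⟩⟩
  refine hl.hom_ext ?_ ?_
  · have h₁ := f.w
    have h₂ := s.inl.w
    simp only [Functor.id_map] at h₁ h₂ ⊢
    rw [← Category.assoc, hl.inl_desc, h₂, ← Category.assoc, h₁, Category.assoc, ← ρ.map_comp, hr.inl_desc]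
  · have h₁ := g.w
    have h₂ := s.inr.w
    simp only [Functor.id_map] at h₁ h₂ ⊢
    rw [← Category.assoc, hl.inr_desc, h₂, ← Category.assoc, h₁, Category.assoc, ← ρ.map_comp, hr.inr_desc]

instance preservesFiniteLimits_fst [HasFiniteLimits A] [HasFiniteLimits B] [PreservesFiniteLimits ρ] :
    PreservesFiniteLimits (Comma.fst (𝟭 A) ρ) :=
  ⟨fun _ _ _ => ⟨fun {F} => preservesLimit_of_preserves_limit_cone
    (Comma.coneOfPreservesIsLimit F (limit.isLimit _) (limit.isLimit _)) (limit.isLimit _)⟩⟩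

instance preservesFiniteLimits_snd [HasFiniteLimits A] [HasFiniteLimits B] [PreservesFiniteLimits ρ] :
    PreservesFiniteLimits (Comma.snd (𝟭 A) ρ) :=
  ⟨fun _ _ _ => ⟨fun {F} => preservesLimit_of_preserves_limit_cone
    (Comma.coneOfPreservesIsLimit F (limit.isLimit _) (limit.isLimit _)) (limit.isLimit _)⟩⟩

theorem effectiveEpi_of_components [HasFiniteLimits A] [HasFiniteLimits B] [PreservesFiniteLimits ρ]
    {X Y : Gl} (f : X ⟶ Y) [EffectiveEpi f.left] [EffectiveEpi f.right] : EffectiveEpi f := by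
  refine effectiveEpi_mk f fun {W} e he => ?_
  have hc := he (pullback.fst f f) (pullback.snd f f) pullback.condition
  have kl := (IsPullback.of_hasPullback f f).map (Comma.fst (𝟭 A) ρ)
  have kr := (IsPullback.of_hasPullback f f).map (Comma.snd (𝟭 A) ρ)
  have hl : ∀ {Z : A} (g₁ g₂ : Z ⟶ X.left), g₁ ≫ f.left = g₂ ≫ f.left → g₁ ≫ e.left = g₂ ≫ e.left := by
    intro Z g₁ g₂ hg
    obtain ⟨l, h₁, h₂⟩ : ∃ l, l ≫ (pullback.fst f f).left = g₁ ∧ l ≫ (pullback.snd f f).left = g₂ :=
      ⟨kl.lift g₁ g₂ hg, kl.lift_fst _ _ _, kl.lift_snd _ _ _⟩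
    rw [← h₁, ← h₂, Category.assoc, Category.assoc]
    exact congrArg (l ≫ ·) (congrArg CommaMorphism.left hc)
  have hr : ∀ {Z : B} (g₁ g₂ : Z ⟶ X.right), g₁ ≫ f.right = g₂ ≫ f.right → g₁ ≫ e.right = g₂ ≫ e.right := by
    intro Z g₁ g₂ hg
    obtain ⟨l, h₁, h₂⟩ : ∃ l, l ≫ (pullback.fst f f).right = g₁ ∧ l ≫ (pullback.snd f f).right = g₂ :=
      ⟨kr.lift g₁ g₂ hg, kr.lift_fst _ _ _, kr.lift_snd _ _ _⟩
    rw [← h₁, ← h₂, Category.assoc, Category.assoc]
    exact congrArg (l ≫ ·) (congrArg CommaMorphism.right hc)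
  refine ⟨{ left := EffectiveEpi.desc f.left e.left hl
            right := EffectiveEpi.desc f.right e.right hr
            w := ?_ }, CommaMorphism.ext (by simp) (by simp), fun m hm => CommaMorphism.ext ?_ ?_⟩
  · have h₁ := f.w
    have h₂ := e.w
    simp only [Functor.id_map] at h₁ h₂ ⊢
    rw [← cancel_epi f.left, ← Category.assoc, EffectiveEpi.fac, h₂, ← Category.assoc, h₁, Category.assoc,
      ← ρ.map_comp, EffectiveEpi.fac]
  · exact EffectiveEpi.uniq f.left e.left hl _ (congrArg CommaMorphism.left hm)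
  · exact EffectiveEpi.uniq f.right e.right hr _ (congrArg CommaMorphism.right hm)

end comma

section axioms

variable {A : Type u'} [Category.{u} A] {B : Type v'} [Category.{u} B] (ρ : B ⥤ A)
  [HasFiniteLimits A] [HasFiniteLimits B] [PreservesFiniteLimits ρ] (hA : Axioms A) (hB : Axioms B)

local notation "Gl" => Comma (𝟭 A) ρ

include hA hB in
theorem quot {R X : Gl} (p₁ p₂ : R ⟶ X) (h : SGA4.IsEquivRel p₁ p₂) :
    SGA4.IsEffectiveUniversalEquivRel p₁ p₂ := by
  obtain ⟨QA, qA, sA, tA, uA⟩ : ∃ (Q : A) (q : X.left ⟶ Q), IsPullback p₁.left p₂.left q q ∧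
      IsPushout p₁.left p₂.left q q ∧ ∀ (B' : A) (g : B' ⟶ Q), EffectiveEpi (pullback.snd q g) :=
    hA.quot _ _ _ _ (isEquivRel_map_of_lex (Comma.fst (𝟭 A) ρ) h)
  obtain ⟨QB, qB, sB, tB, uB⟩ : ∃ (Q : B) (q : X.right ⟶ Q), IsPullback p₁.right p₂.right q q ∧
      IsPushout p₁.right p₂.right q q ∧ ∀ (B' : B) (g : B' ⟶ Q), EffectiveEpi (pullback.snd q g) :=
    hB.quot _ _ _ _ (isEquivRel_map_of_lex (Comma.snd (𝟭 A) ρ) h)
  have hh : p₁.left ≫ X.hom ≫ ρ.map qB = p₂.left ≫ X.hom ≫ ρ.map qB := by
    have h₁ := p₁.w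
    have h₂ := p₂.w
    simp only [Functor.id_map] at h₁ h₂
    rw [← Category.assoc, h₁, ← Category.assoc, h₂, Category.assoc, Category.assoc, ← ρ.map_comp,
      ← ρ.map_comp, sB.w]
  let Q : Gl := { left := QA, right := QB, hom := tA.desc _ _ hh }
  let π : X ⟶ Q := { left := qA, right := qB, w := tA.inl_desc _ _ _ }
  refine ⟨Q, π, isPullback_of_components ρ sA sB, isPushout_of_components ρ tA tB, fun B' g => ?_⟩
  have ul := hA.uee_of_quot (uA) sA
  have ur := hB.uee_of_quot (uB) sB
  have hl : EffectiveEpi (pullback.snd π g).left :=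
    uee_effectiveEpi (uee_of_isPullback ((IsPullback.of_hasPullback π g).map (Comma.fst (𝟭 A) ρ)).flip ul)
  have hr : EffectiveEpi (pullback.snd π g).right :=
    uee_effectiveEpi (uee_of_isPullback ((IsPullback.of_hasPullback π g).map (Comma.snd (𝟭 A) ρ)).flip ur)
  exact effectiveEpi_of_components ρ _

include hA hB in
theorem coprod : SGA4.HasDisjointUniversalCoproducts Gl := by
  intro ι X
  obtain ⟨cA, hcA, dA, uA⟩ := hA.coprod ι fun i => (X i).left
  obtain ⟨cB, hcB, dB, uB⟩ := hB.coprod ι fun i => (X i).right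
  let c : Cofan X := Cofan.mk
    { left := cA.pt, right := cB.pt, hom := Cofan.IsColimit.desc hcA fun i => (X i).hom ≫ ρ.map (cB.inj i) }
    fun i => { left := cA.inj i, right := cB.inj i, w := Cofan.IsColimit.fac hcA _ i }
  have hc : IsColimit c := mkCofanColimit c
    (fun s =>
      { left := Cofan.IsColimit.desc hcA fun i => (s.inj i).left
        right := Cofan.IsColimit.desc hcB fun i => (s.inj i).right
        w := Cofan.IsColimit.hom_ext hcA _ _ fun i => by
          have h := (s.inj i).w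
          simp only [Functor.id_map] at h ⊢
          simp [c, ← Functor.map_comp, h] })
    (fun s i => CommaMorphism.ext (Cofan.IsColimit.fac hcA _ i) (Cofan.IsColimit.fac hcB _ i))
    (fun s m hm => CommaMorphism.ext
      (Cofan.IsColimit.hom_ext hcA _ _ fun i =>
        (congrArg CommaMorphism.left (hm i)).trans (Cofan.IsColimit.fac hcA (fun i => (s.inj i).left) i).symm)
      (Cofan.IsColimit.hom_ext hcB _ _ fun i =>
        (congrArg CommaMorphism.right (hm i)).trans (Cofan.IsColimit.fac hcB (fun i => (s.inj i).right) i).symm))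
  have hm : ∀ i, Mono (c.inj i) := fun i =>
    have : Mono (c.inj i).left := dA.mono_inj hcA i
    have : Mono (c.inj i).right := dB.mono_inj hcB i
    mono_of_components ρ _
  refine ⟨c, hc, CoproductDisjoint.of_cofan hc (fun {i j} _ => pullback.cone (c.inj i) (c.inj j))
    (fun _ => pullback.isLimit _ _) (fun {i j} hij => ?_), ?_⟩
  · have il := Classical.choice (dA.nonempty_isInitial_of_ne hcA hij _
      ((IsPullback.of_hasPullback (c.inj i) (c.inj j)).map (Comma.fst (𝟭 A) ρ)).isLimit)
    have ir := Classical.choice (dB.nonempty_isInitial_of_ne hcB hij _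
      ((IsPullback.of_hasPullback (c.inj i) (c.inj j)).map (Comma.snd (𝟭 A) ρ)).isLimit)
    exact IsInitial.ofUniqueHom (fun T => { left := il.to _, right := ir.to _, w := il.hom_ext _ _ })
      fun T m => CommaMorphism.ext (il.hom_ext _ _) (ir.hom_ext _ _)
  · intro F' c' α f hα _ hsq
    obtain ⟨hl⟩ := uA ((Comma.fst (𝟭 A) ρ).mapCocone c') (Discrete.natTrans fun j => (α.app j).left)
      f.left (by ext j; exact congrArg CommaMorphism.left (NatTrans.congr_app hα j)) (.of_discrete _)
      fun j => by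
        obtain ⟨i⟩ := j
        exact (hsq ⟨i⟩).map (Comma.fst (𝟭 A) ρ)
    obtain ⟨hr⟩ := uB ((Comma.snd (𝟭 A) ρ).mapCocone c') (Discrete.natTrans fun j => (α.app j).right)
      f.right (by ext j; exact congrArg CommaMorphism.right (NatTrans.congr_app hα j)) (.of_discrete _)
      fun j => by
        obtain ⟨i⟩ := j
        exact (hsq ⟨i⟩).map (Comma.snd (𝟭 A) ρ)
    exact ⟨Comma.fstSndJointlyReflectColimit hl hr⟩

include hA hB in
theorem axioms : Axioms Gl := ⟨coprod ρ hA hB, fun _ _ p₁ p₂ h => quot ρ hA hB p₁ p₂ h⟩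

end axioms

section detecting

variable {C D : Type u} [SmallCategory C] [SmallCategory D] (J : GrothendieckTopology C)
  (K : GrothendieckTopology D) (ρ : Sheaf J (Type u) ⥤ Sheaf K (Type u)) [ρ.IsAccessible.{u}]

/-- A small family of sheaves on `C` whose images under `ρ` cover the image of every sheaf. -/
theorem exists_small_covering : ∃ (κ : Type u) (S : κ → Sheaf J (Type u)),
    ∀ (X : Sheaf J (Type u)), ∃ (I : Type u) (s : I → κ) (x : ∀ i, S (s i) ⟶ X),
      Covering (fun i => ρ.map (x i)) := by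
  obtain ⟨κ, _, _⟩ := Functor.IsAccessible.exists_cardinal (F := ρ)
  obtain ⟨P, _, hP⟩ := HasCardinalFilteredGenerator.exists_generator (Cᵒᵖ ⥤ Type u) κ
  obtain ⟨Q, _, -, hQ⟩ := ObjectProperty.EssentiallySmall.exists_small_le.{u} P
  refine ⟨Shrink.{u} (Subtype Q),
    fun k => (presheafToSheaf J (Type u)).obj ((equivShrink _).symm k).1, fun X => ?_⟩
  obtain ⟨I, _, _, ⟨pres⟩⟩ := hP.exists_colimitsOfShape X.obj
  choose q hqQ hq using fun i : I => hQ _ (pres.prop_diag_obj i)
  let e : ∀ i : I, pres.diag.obj i ≅ q i := fun i => (hq i).some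
  have : PreservesColimitsOfSize.{u, u} (presheafToSheaf J (Type u)) :=
    (sheafificationAdjunction J (Type u)).leftAdjoint_preservesColimits
  have := ρ.preservesColimitsOfShape_of_isCardinalAccessible κ I
  have hc := isColimitOfPreserves ρ
    (IsColimit.extendIso ((sheafificationAdjunction J (Type u)).counit.app X)
      (isColimitOfPreserves (presheafToSheaf J (Type u)) pres.isColimit))
  refine ⟨I, fun i => equivShrink _ ⟨q i, hqQ i⟩, fun i => eqToHom (by simp) ≫
    (presheafToSheaf J (Type u)).map ((e i).inv ≫ pres.ι.app i) ≫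
      (sheafificationAdjunction J (Type u)).counit.app X, fun M m hm h => ?_⟩
  refine Gen.covering_colimit hc m hm fun i => ?_
  obtain ⟨g, hg⟩ := h i
  refine ⟨ρ.map ((presheafToSheaf J (Type u)).map (e i).hom ≫ eqToHom (by simp)) ≫ g, ?_⟩
  rw [Category.assoc, hg, ← Functor.map_comp]
  simp [Functor.mapCocone, Cocone.extend]

theorem exists_detecting [PreservesFiniteLimits ρ] :
    ∃ P : ObjectProperty (Comma (𝟭 (Sheaf K (Type u))) ρ), ObjectProperty.Small.{u} P ∧ P.IsDetecting := by
  obtain ⟨κ, S, hS⟩ := exists_small_covering J K ρ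
  have hI : ∀ {T : Sheaf K (Type u)}, Nonempty (IsInitial ((presheafToSheaf K (Type u)).obj
      ((Functor.const Dᵒᵖ).obj PEmpty.{u + 1}))) := by
    intro T
    have : PreservesColimitsOfSize.{0, 0} (presheafToSheaf K (Type u)) :=
      (sheafificationAdjunction K (Type u)).leftAdjoint_preservesColimits
    exact ⟨(Presheaf.isInitialOfIsEmpty fun U => inferInstanceAs (IsEmpty PEmpty.{u + 1})).isInitialObj _⟩
  let Z := (presheafToSheaf K (Type u)).obj ((Functor.const Dᵒᵖ).obj PEmpty.{u + 1})
  obtain ⟨iZ⟩ := hI (T := Z)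
  let T : C ⊕ (Σ (d : D) (k : κ), Gen.gen K d ⟶ ρ.obj (S k)) → Comma (𝟭 (Sheaf K (Type u))) ρ :=
    Sum.elim (fun c => { left := Z, right := Gen.gen J c, hom := iZ.to _ })
      (fun p => { left := Gen.gen K p.1, right := S p.2.1, hom := p.2.2 })
  refine ⟨ObjectProperty.ofObj T, inferInstance, fun P Q f hf => ?_⟩
  have : IsIso f.right := Gen.isDetecting_gen J _ <| by
    rintro _ ⟨c⟩ t
    obtain ⟨l, hl, hu⟩ := hf _ ⟨Sum.inl c⟩ { left := iZ.to _, right := t, w := iZ.hom_ext _ _ }
    exact ⟨l.right, congrArg CommaMorphism.right hl, fun t' ht' => congrArg CommaMorphism.right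
      (hu { left := iZ.to _, right := t', w := iZ.hom_ext _ _ }
        (CommaMorphism.ext (iZ.hom_ext _ _) ht'))⟩
  have hfw := f.w
  simp only [Functor.id_map] at hfw
  have hK : Axioms (Sheaf K (Type u)) := Gen.axioms K
  have : Mono f.left := by
    refine ⟨fun {T'} a b hab => covering_hom_ext (Gen.covering_gen K T') fun p => ?_⟩
    obtain ⟨I, s, x, hx⟩ := hS P.right
    refine covering_hom_ext (hK.covering_pullback hx (p.2 ≫ a ≫ P.hom)) fun i => ?_
    refine covering_hom_ext (Gen.covering_gen K _) fun q => ?_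
    let l := q.2 ≫ pullback.fst (p.2 ≫ a ≫ P.hom) (ρ.map (x i))
    let r := q.2 ≫ pullback.snd (p.2 ≫ a ≫ P.hom) (ρ.map (x i))
    have hl : l ≫ p.2 ≫ a ≫ P.hom = r ≫ ρ.map (x i) := by simp [l, r, pullback.condition]
    have hab' : a ≫ P.hom = b ≫ P.hom := by
      rw [← cancel_mono (ρ.map f.right), Category.assoc, Category.assoc, ← hfw, reassoc_of% hab]
    have hl' : l ≫ p.2 ≫ b ≫ P.hom = r ≫ ρ.map (x i) := by rw [← hab', hl]
    have key := (hf (T (Sum.inr ⟨q.1, s i, r⟩)) ⟨_⟩
      { left := l ≫ p.2 ≫ a ≫ f.left, right := x i ≫ f.right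
        w := by
          simp only [T, Sum.elim_inr, Functor.id_map, Category.assoc, Functor.map_comp]
          rw [hfw, reassoc_of% hl] }).unique
      (y₁ := { left := l ≫ p.2 ≫ a, right := x i, w := by simpa [T] using hl })
      (y₂ := { left := l ≫ p.2 ≫ b, right := x i, w := by simpa [T] using hl' })
      (CommaMorphism.ext (by simp) (by simp)) (CommaMorphism.ext (by simp [hab]) (by simp))
    have k := congrArg CommaMorphism.left key
    simp only [l, Category.assoc] at k ⊢
    exact k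
  have : IsIso f.left := by
    refine Gen.covering_gen K Q.left f.left inferInstance fun p => ?_
    have : IsIso (pullback.fst p.2 f.left) := by
      obtain ⟨I, s, x, hx⟩ := hS Q.right
      refine hK.covering_pullback' hx (p.2 ≫ Q.hom) _ inferInstance fun i Y t y ht => ?_
      have : IsIso (pullback.fst t (pullback.fst p.2 f.left)) := by
        refine Gen.covering_gen K Y _ inferInstance fun q => ?_
        obtain ⟨l, hl, -⟩ := hf (T (Sum.inr ⟨q.1, s i, q.2 ≫ y⟩)) ⟨_⟩
          { left := q.2 ≫ t ≫ p.2, right := x i, w := by simp [T, ht] }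
        have hl' : l.left ≫ f.left = q.2 ≫ t ≫ p.2 := congrArg CommaMorphism.left hl
        exact ⟨pullback.lift q.2 (pullback.lift (q.2 ≫ t) l.left ((Category.assoc _ _ _).trans hl'.symm))
          (by simp [pullback.lift_fst]), pullback.lift_fst _ _ _⟩
      exact ⟨inv (pullback.fst t (pullback.fst p.2 f.left)) ≫ pullback.snd t _, by
        rw [Category.assoc, ← pullback.condition, IsIso.inv_hom_id_assoc]⟩
    exact ⟨inv (pullback.fst p.2 f.left) ≫ pullback.snd p.2 _, by
      rw [Category.assoc, ← pullback.condition, IsIso.inv_hom_id_assoc]⟩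
  exact ⟨⟨{ left := inv f.left, right := inv f.right,
            w := by simp [← cancel_epi f.left, reassoc_of% hfw, ← Functor.map_comp] },
    CommaMorphism.ext (by simp) (by simp), CommaMorphism.ext (by simp) (by simp)⟩⟩

end detecting

end Groth.Agent.Topos.CommaTopos
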