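import Groth.Prelude.Def_SGA4a
import Groth.Agent.DescCatLib
import Mathlib.CategoryTheory.Sites.RegularEpi
import Mathlib.CategoryTheory.Adjunction.Basic
import Mathlib.CategoryTheory.Limits.Types.Pullbacks
import Mathlib.CategoryTheory.EquivalenceRelation

/-!
# Presheaves of sets: equivalence relations, epimorphisms, coproducts
-/

set_option autoImplicit false
open CategoryTheory CategoryTheory.Limits Opposite
universe w v u v' u' v₁ u₁

namespace Groth.Agent.Topos.Presheaf

open Groth.Agent.DescCatLib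

section general

/-- Equivalence relations are transported by right adjoints. -/
theorem isEquivRel_map {A : Type u} [Category.{v} A] {B : Type u'} [Category.{v'} B]
    {L : B ⥤ A} {F : A ⥤ B} (adj : L ⊣ F) {R X : A} {p₁ p₂ : R ⟶ X}
    (h : SGA4.IsEquivRel p₁ p₂) : SGA4.IsEquivRel (F.map p₁) (F.map p₂) := by
  intro T
  obtain ⟨hinj, heq⟩ := h (L.obj T)
  have hrel : ∀ a b : T ⟶ F.obj X, (∃ f : T ⟶ F.obj R, f ≫ F.map p₁ = a ∧ f ≫ F.map p₂ = b) ↔
      (∃ f : L.obj T ⟶ R, f ≫ p₁ = (adj.homEquiv T X).symm a ∧ f ≫ p₂ = (adj.homEquiv T X).symm b) := by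
    intro a b
    refine ⟨fun ⟨f, h₁, h₂⟩ => ⟨(adj.homEquiv T R).symm f, ?_, ?_⟩,
      fun ⟨f, h₁, h₂⟩ => ⟨adj.homEquiv T R f, ?_, ?_⟩⟩
    · rw [← adj.homEquiv_naturality_right_symm, h₁]
    · rw [← adj.homEquiv_naturality_right_symm, h₂]
    · rw [← adj.homEquiv_naturality_right, h₁, Equiv.apply_symm_apply]
    · rw [← adj.homEquiv_naturality_right, h₂, Equiv.apply_symm_apply]
  refine ⟨fun f g hfg => (adj.homEquiv T R).symm.injective (hinj ?_), ⟨fun a => ?_, ?_, ?_⟩⟩
  · simp only [Prod.mk.injEq] at hfg ⊢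
    simp [← adj.homEquiv_naturality_right_symm, hfg.1, hfg.2]
  · exact (hrel a a).2 (heq.refl _)
  · intro a b hab
    exact (hrel b a).2 (heq.symm ((hrel a b).1 hab))
  · intro a b c hab hbc
    exact (hrel a c).2 (heq.trans ((hrel a b).1 hab) ((hrel b c).1 hbc))

/-- Mathlib's equivalence relations satisfy the pointwise definition. -/
theorem isEquivRel_of_isEquivalenceRelation {A : Type u} [Category.{v} A] {R X : A} (p₁ p₂ : R ⟶ X)
    [h : IsEquivalenceRelation p₁ p₂] : SGA4.IsEquivRel p₁ p₂ := by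
  obtain ⟨e⟩ := h.nonempty_equivalenceRelation
  intro T
  refine ⟨fun f g hfg => e.right_cancellation f g (congrArg Prod.fst hfg) (congrArg Prod.snd hfg),
    ⟨fun a => ⟨a ≫ e.r, by simp, by simp⟩, ?_, ?_⟩⟩
  · rintro a b ⟨f, rfl, rfl⟩
    exact ⟨f ≫ e.s, by rw [Category.assoc, e.symmetry₁], by rw [Category.assoc, e.symmetry₂]⟩
  · rintro a b c ⟨f, rfl, rfl⟩ ⟨g, hg, rfl⟩
    refine ⟨PullbackCone.IsLimit.lift e.isLimit f g hg.symm ≫ e.t, ?_, ?_⟩
    · rw [Category.assoc, e.transitivity₁, PullbackCone.IsLimit.lift_fst_assoc]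
    · rw [Category.assoc, e.transitivity₂, PullbackCone.IsLimit.lift_snd_assoc]

/-- Conversely, in a category with pullbacks. -/
theorem isEquivalenceRelation_of_isEquivRel {A : Type u} [Category.{v} A] [HasPullbacks A] {R X : A}
    {p₁ p₂ : R ⟶ X} (h : SGA4.IsEquivRel p₁ p₂) : IsEquivalenceRelation p₁ p₂ := by
  obtain ⟨r, hr₁, hr₂⟩ := (h X).2.refl (𝟙 X)
  obtain ⟨s, hs₁, hs₂⟩ := (h R).2.symm ⟨𝟙 R, Category.id_comp p₁, Category.id_comp p₂⟩
  obtain ⟨t, ht₁, ht₂⟩ := (h (pullback p₂ p₁)).2.trans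
    ⟨pullback.fst p₂ p₁, rfl, pullback.condition⟩ ⟨pullback.snd p₂ p₁, rfl, rfl⟩
  exact ⟨⟨{
    right_cancellation := fun T f g h₁ h₂ => (h T).1 (Prod.ext h₁ h₂)
    r := r
    reflexivity₁ := hr₁
    reflexivity₂ := hr₂
    s := s
    symmetry₁ := hs₁
    symmetry₂ := hs₂
    c := pullback.cone p₂ p₁
    isLimit := pullback.isLimit p₂ p₁
    t := t
    transitivity₁ := ht₁
    transitivity₂ := ht₂ }⟩⟩

/-- A family of conditions saying that `p` is a universal effective epimorphism. -/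
theorem uee_of_universally_epi {A : Type u} [Category.{v} A] [HasPullbacks A] [IsRegularEpiCategory A]
    {X Y : A} (p : X ⟶ Y)
    (h : ∀ {X' Y' : A} (i₁ : X' ⟶ X) (i₂ : Y' ⟶ Y) (f : X' ⟶ Y'), IsPullback f i₁ i₂ p → Epi f) :
    Uee p := by
  intro X' Y' i₁ i₂ f hf
  have := h i₁ i₂ f hf
  exact (isRegularEpi_iff_effectiveEpi f).1 (IsRegularEpiCategory.regularEpiOfEpi f)

end general

variable {D : Type u₁} [Category.{v₁} D]

theorem app_surjective {X Y : D ⥤ Type w} (f : X ⟶ Y) [Epi f] (U : D) :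
    Function.Surjective (f.app U) :=
  (epi_iff_surjective _).1 ((NatTrans.epi_iff_epi_app f).1 inferInstance U)

theorem epi_of_app_surjective {X Y : D ⥤ Type w} (f : X ⟶ Y)
    (h : ∀ U, Function.Surjective (f.app U)) : Epi f :=
  (NatTrans.epi_iff_epi_app f).2 fun U => (epi_iff_surjective _).2 (h U)

theorem app_injective {X Y : D ⥤ Type w} (f : X ⟶ Y) [Mono f] (U : D) :
    Function.Injective (f.app U) :=
  (mono_iff_injective _).1 ((NatTrans.mono_iff_mono_app f).1 inferInstance U)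

/-- Elements of pullbacks of presheaves. -/
theorem exists_of_isPullback {P X Y S : D ⥤ Type w} {a : P ⟶ X} {b : P ⟶ Y} {f : X ⟶ S} {g : Y ⟶ S}
    (h : IsPullback a b f g) {U : D} (x : X.obj U) (y : Y.obj U) (e : f.app U x = g.app U y) :
    ∃ p : P.obj U, a.app U p = x ∧ b.app U p = y :=
  Types.exists_of_isPullback (h.map ((evaluation D (Type w)).obj U)) x y e

theorem ext_of_isPullback {P X Y S : D ⥤ Type w} {a : P ⟶ X} {b : P ⟶ Y} {f : X ⟶ S} {g : Y ⟶ S}
    (h : IsPullback a b f g) {U : D} {p q : P.obj U} (h₁ : a.app U p = a.app U q)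
    (h₂ : b.app U p = b.app U q) : p = q :=
  Types.ext_of_isPullback (h.map ((evaluation D (Type w)).obj U)) h₁ h₂

/-- In presheaves of sets epimorphisms are universal effective epimorphisms. -/
theorem uee_of_epi {X Y : D ⥤ Type w} (f : X ⟶ Y) [Epi f] : Uee f := by
  refine uee_of_universally_epi f fun i₁ i₂ g hg => epi_of_app_surjective g fun U y => ?_
  obtain ⟨x, hx⟩ := app_surjective f U (i₂.app U y)
  obtain ⟨p, hp, -⟩ := exists_of_isPullback hg y x hx.symm
  exact ⟨p, hp⟩

section quotient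

variable {R X : D ⥤ Type w} {p₁ p₂ : R ⟶ X} (h : SGA4.IsEquivRel p₁ p₂)

/-- The pointwise relation. -/
def rel (p₁ p₂ : R ⟶ X) (U : D) (a b : X.obj U) : Prop := ∃ r, p₁.app U r = a ∧ p₂.app U r = b

include h in
theorem jointly_injective {U : D} {r r' : R.obj U} (h₁ : p₁.app U r = p₁.app U r')
    (h₂ : p₂.app U r = p₂.app U r') : r = r' := by
  have : Mono (prod.lift p₁ p₂) := ⟨fun {T} f g hfg => (h T).1 (Prod.ext
    (by simpa [prod.lift_fst] using congrArg (· ≫ prod.fst) hfg)
    (by simpa [prod.lift_snd] using congrArg (· ≫ prod.snd) hfg))⟩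
  refine app_injective (prod.lift p₁ p₂) U ?_
  refine Types.ext_of_isPullback
    ((IsPullback.of_hasBinaryProduct' X X).map ((evaluation D (Type w)).obj U)) ?_ ?_
  · simpa [← NatTrans.comp_app_apply, prod.lift_fst] using h₁
  · simpa [← NatTrans.comp_app_apply, prod.lift_snd] using h₂

include h in
theorem rel_equivalence (U : D) : Equivalence (rel p₁ p₂ U) where
  refl a := by
    obtain ⟨r, hr₁, hr₂⟩ := (h X).2.refl (𝟙 X)
    exact ⟨r.app U a, by rw [← NatTrans.comp_app_apply, hr₁]; rfl,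
      by rw [← NatTrans.comp_app_apply, hr₂]; rfl⟩
  symm := by
    rintro a b ⟨r, rfl, rfl⟩
    obtain ⟨s, hs₁, hs₂⟩ := (h R).2.symm ⟨𝟙 R, Category.id_comp p₁, Category.id_comp p₂⟩
    exact ⟨s.app U r, by rw [← NatTrans.comp_app_apply, hs₁], by rw [← NatTrans.comp_app_apply, hs₂]⟩
  trans := by
    rintro a b c ⟨r, rfl, rfl⟩ ⟨r', e, rfl⟩
    obtain ⟨t, ht₁, ht₂⟩ := (h (pullback p₂ p₁)).2.trans
      ⟨pullback.fst p₂ p₁, rfl, pullback.condition⟩ ⟨pullback.snd p₂ p₁, rfl, rfl⟩
    obtain ⟨p, hp₁, hp₂⟩ := exists_of_isPullback (IsPullback.of_hasPullback p₂ p₁) r r' e.symm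
    exact ⟨t.app U p, by rw [← NatTrans.comp_app_apply, ht₁, NatTrans.comp_app_apply, hp₁],
      by rw [← NatTrans.comp_app_apply, ht₂, NatTrans.comp_app_apply, hp₂]⟩

include h in
/-- The quotient of a presheaf by an equivalence relation. -/
theorem exists_quotient : ∃ (Q : D ⥤ Type w) (π : X ⟶ Q),
    IsPullback p₁ p₂ π π ∧ IsPushout p₁ p₂ π π ∧ Epi π := by
  let Q : D ⥤ Type w :=
    { obj := fun U => Quot (rel p₁ p₂ U)
      map := fun {U V} g => TypeCat.ofHom (Quot.map (X.map g) fun a b => by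
        rintro ⟨r, rfl, rfl⟩
        exact ⟨R.map g r, by rw [NatTrans.naturality_apply], by rw [NatTrans.naturality_apply]⟩)
      map_id := fun U => by
        ext x
        obtain ⟨x, rfl⟩ := Quot.exists_rep x
        exact congrArg _ (X.map_id_apply U x)
      map_comp := fun f g => by
        ext x
        obtain ⟨x, rfl⟩ := Quot.exists_rep x
        exact congrArg _ (X.map_comp_apply f g x) }
  let π : X ⟶ Q := { app := fun U => TypeCat.ofHom (Quot.mk _), naturality := fun U V g => by ext x; rfl }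
  have hπ : Epi π := epi_of_app_surjective π fun U => Quot.mk_surjective
  have w₀ : p₁ ≫ π = p₂ ≫ π := by ext U r; exact Quot.sound ⟨r, rfl, rfl⟩
  refine ⟨Q, π, ⟨⟨w₀⟩, ⟨PullbackCone.IsLimit.mk _ ?lift ?fac₁ ?fac₂ ?uniq⟩⟩, ⟨⟨w₀⟩, ⟨PushoutCocone.IsColimit.mk _ ?desc ?fac₃ ?fac₄ ?uniq'⟩⟩, hπ⟩
  case lift =>
    intro s
    have hs : ∀ (U : D) (z : s.pt.obj U), rel p₁ p₂ U (s.fst.app U z) (s.snd.app U z) := fun U z =>
      (rel_equivalence h U).eqvGen_iff.1 (Quot.eqvGen_exact
        (congrArg (fun φ : s.pt ⟶ Q => φ.app U z) s.condition))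
    exact
      { app := fun U => TypeCat.ofHom fun z => (hs U z).choose
        naturality := fun U V g => by
          ext z
          refine jointly_injective h ?_ ?_
          · exact ((hs V _).choose_spec.1).trans ((NatTrans.naturality_apply s.fst g z).trans
              ((congrArg (X.map g) (hs U z).choose_spec.1.symm).trans (NatTrans.naturality_apply p₁ g _).symm))
          · exact ((hs V _).choose_spec.2).trans ((NatTrans.naturality_apply s.snd g z).trans
              ((congrArg (X.map g) (hs U z).choose_spec.2.symm).trans (NatTrans.naturality_apply p₂ g _).symm)) }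
  case fac₁ =>
    intro s; ext U z
    exact ((rel_equivalence h U).eqvGen_iff.1 (Quot.eqvGen_exact
        (congrArg (fun φ : s.pt ⟶ Q => φ.app U z) s.condition))).choose_spec.1
  case fac₂ =>
    intro s; ext U z
    exact ((rel_equivalence h U).eqvGen_iff.1 (Quot.eqvGen_exact
        (congrArg (fun φ : s.pt ⟶ Q => φ.app U z) s.condition))).choose_spec.2
  case uniq =>
    intro s m h₁ h₂; ext U z
    have hz := (rel_equivalence h U).eqvGen_iff.1 (Quot.eqvGen_exact
        (congrArg (fun φ : s.pt ⟶ Q => φ.app U z) s.condition))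
    exact jointly_injective h
      ((congrArg (fun φ : s.pt ⟶ X => φ.app U z) h₁).trans hz.choose_spec.1.symm)
      ((congrArg (fun φ : s.pt ⟶ X => φ.app U z) h₂).trans hz.choose_spec.2.symm)
  case desc =>
    intro s
    exact
      { app := fun U => TypeCat.ofHom (Quot.lift (s.inl.app U) fun a b => by
          rintro ⟨r, rfl, rfl⟩
          obtain ⟨r', h₁, h₂⟩ := (rel_equivalence h U).refl (p₂.app U r)
          have e₁ := congrArg (fun φ : R ⟶ s.pt => φ.app U r) s.condition
          have e₂ := congrArg (fun φ : R ⟶ s.pt => φ.app U r') s.condition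
          simp only [NatTrans.comp_app_apply, h₁, h₂] at e₁ e₂
          exact e₁.trans e₂.symm)
        naturality := fun U V g => by
          ext x
          obtain ⟨x, rfl⟩ := Quot.exists_rep x
          exact NatTrans.naturality_apply s.inl g x }
  case fac₃ => intro s; ext U x; rfl
  case fac₄ =>
    intro s; ext U x
    obtain ⟨r, h₁, h₂⟩ := (rel_equivalence h U).refl x
    have e := congrArg (fun φ : R ⟶ s.pt => φ.app U r) s.condition
    simp only [NatTrans.comp_app_apply, h₁, h₂] at e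
    exact e
  case uniq' =>
    intro s m h₁ _; ext U x
    obtain ⟨x, rfl⟩ := Quot.exists_rep x
    exact congrArg (fun φ : X ⟶ s.pt => φ.app U x) h₁

end quotient

section coproduct

variable {ι : Type w} (X : ι → D ⥤ Type w)

/-- Pointwise coproduct. -/
def sigmaObj : D ⥤ Type w where
  obj U := Σ i, (X i).obj U
  map g := TypeCat.ofHom fun p => ⟨p.1, (X p.1).map g p.2⟩
  map_id U := ConcreteCategory.hom_ext _ _ fun p => congrArg (Sigma.mk p.1) ((X p.1).map_id_apply U p.2)
  map_comp f g := ConcreteCategory.hom_ext _ _ fun p => congrArg (Sigma.mk p.1) ((X p.1).map_comp_apply f g p.2)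

/-- Pointwise coproduct cofan. -/
def sigmaCofan : Cofan X := Cofan.mk (sigmaObj X) fun i =>
  { app := fun U => TypeCat.ofHom fun x => ⟨i, x⟩
    naturality := fun U V g => by ext x; rfl }

/-- The total map of a cocone over a discrete diagram. -/
def total {K : Discrete ι ⥤ D ⥤ Type w} (c : Cocone K) (U : D) (p : Σ i : ι, (K.obj ⟨i⟩).obj U) :
    c.pt.obj U := (c.ι.app ⟨p.1⟩).app U p.2

theorem nonempty_isColimit_of_bijective {K : Discrete ι ⥤ D ⥤ Type w} (c : Cocone K)
    (hb : ∀ U, Function.Bijective (total c U)) : Nonempty (IsColimit c) := by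
  have hsym : ∀ (s : Cocone K) {U : D} (p : Σ i : ι, (K.obj ⟨i⟩).obj U),
      total s U ((Equiv.ofBijective _ (hb U)).symm (total c U p)) = total s U p :=
    fun s U p => congrArg _ ((Equiv.ofBijective _ (hb U)).symm_apply_apply p)
  refine ⟨{
    desc := fun s =>
      { app := fun U => TypeCat.ofHom fun y => total s U ((Equiv.ofBijective _ (hb U)).symm y)
        naturality := fun U V g => by
          ext y
          obtain ⟨⟨i, x⟩, rfl⟩ := (hb U).2 y
          have e₁ : c.pt.map g (total c U ⟨i, x⟩) = total c V ⟨i, (K.obj ⟨i⟩).map g x⟩ :=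
            (NatTrans.naturality_apply (c.ι.app ⟨i⟩) g x).symm
          have e₂ : s.pt.map g (total s U ⟨i, x⟩) = total s V ⟨i, (K.obj ⟨i⟩).map g x⟩ :=
            (NatTrans.naturality_apply (s.ι.app ⟨i⟩) g x).symm
          exact (congrArg (fun z => total s V ((Equiv.ofBijective _ (hb V)).symm z)) e₁).trans
            ((hsym s _).trans (e₂.symm.trans (congrArg (s.pt.map g) (hsym s _).symm))) }
    fac := fun s j => by
      obtain ⟨i⟩ := j
      ext U x
      exact hsym s ⟨i, x⟩
    uniq := fun s m hm => by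
      ext U y
      obtain ⟨⟨i, x⟩, rfl⟩ := (hb U).2 y
      exact (congrArg (fun φ : K.obj ⟨i⟩ ⟶ s.pt => φ.app U x) (hm ⟨i⟩)).trans (hsym s ⟨i, x⟩).symm }⟩

theorem isUniversalColimit_sigmaCofan : IsUniversalColimit (sigmaCofan X) := by
  intro F' c' α f hα _ hsq
  refine nonempty_isColimit_of_bijective c' fun U => ⟨?_, fun x => ?_⟩
  · rintro ⟨i, a⟩ ⟨j, b⟩ hab
    have e := congrArg (f.app U) hab
    have ha := congrArg (fun φ : F'.obj ⟨i⟩ ⟶ sigmaObj X => φ.app U a) (hsq ⟨i⟩).w
    have hb := congrArg (fun φ : F'.obj ⟨j⟩ ⟶ sigmaObj X => φ.app U b) (hsq ⟨j⟩).w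
    have hij : (⟨i, (α.app ⟨i⟩).app U a⟩ : Σ i, (X i).obj U) = ⟨j, (α.app ⟨j⟩).app U b⟩ :=
      (ha.symm.trans (e.trans hb))
    obtain rfl : i = j := congrArg Sigma.fst hij
    rw [show a = b from ext_of_isPullback (hsq ⟨i⟩) hab (eq_of_heq (Sigma.mk.inj_iff.1 hij).2)]
  · obtain ⟨p, hp, -⟩ := exists_of_isPullback (hsq ⟨(f.app U x).1⟩) x (f.app U x).2 rfl
    exact ⟨⟨_, p⟩, hp⟩

theorem mono_sigmaCofan_inj (i : ι) : Mono ((sigmaCofan X).inj i) :=
  (NatTrans.mono_iff_mono_app _).2 fun U => (mono_iff_injective _).2 fun a b h =>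
    eq_of_heq (Sigma.mk.inj_iff.1 h).2

theorem isEmpty_sigma_pullback {P : D ⥤ Type w} {i j : ι} (hij : i ≠ j) {a : P ⟶ X i} {b : P ⟶ X j}
    (h : a ≫ (sigmaCofan X).inj i = b ≫ (sigmaCofan X).inj j) (U : D) : IsEmpty (P.obj U) :=
  ⟨fun p => hij (congrArg (fun φ : P ⟶ sigmaObj X => (φ.app U p).1) h)⟩

/-- A presheaf without sections is initial. -/
noncomputable def isInitialOfIsEmpty {P : D ⥤ Type w} (h : ∀ U, IsEmpty (P.obj U)) : IsInitial P :=
  IsInitial.ofUniqueHom (fun Y => { app := fun U => TypeCat.ofHom fun p => (h U).elim p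
                                    naturality := fun U V g => by ext p; exact (h U).elim p })
    fun Y m => by ext U p; exact (h U).elim p

end coproduct

end Groth.Agent.Topos.Presheaf
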