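import Groth.Agent.Topos.Sheaf
import Mathlib.CategoryTheory.Monoidal.Cartesian.Grp
import Mathlib.CategoryTheory.Sites.CartesianMonoidal
import Mathlib.CategoryTheory.EquivalenceRelation
import Mathlib.CategoryTheory.Limits.Preserves.Shapes.Equalizers

/-!
# Quotients of sheaves of sets and quotients of sheaves of groups by subgroups
-/

set_option autoImplicit false
open CategoryTheory CategoryTheory.Limits MonoidalCategory CartesianMonoidalCategory
  SemiCartesianMonoidalCategory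
universe w v₁ u₁

namespace Groth.Agent.Topos.Quot

open Groth.Agent.DescCatLib

variable {C : Type u₁} [Category.{v₁} C] {J : GrothendieckTopology C} [HasSheafify J (Type w)]

theorem effectiveEpi_of_epi {X Q : Sheaf J (Type w)} (π : X ⟶ Q) [Epi π] : EffectiveEpi π :=
  uee_effectiveEpi (Sheaf.uee_of_epi J π)

theorem epi_of_isPullback {P X Y S : Sheaf J (Type w)} {a : P ⟶ X} {b : P ⟶ Y} {f : X ⟶ S}
    {g : Y ⟶ S} (h : IsPullback a b f g) [Epi g] : Epi a := by
  have := uee_effectiveEpi (uee_of_isPullback h (Sheaf.uee_of_epi J g))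
  infer_instance

theorem epi_of_isPullback' {P X Y S : Sheaf J (Type w)} {a : P ⟶ X} {b : P ⟶ Y} {f : X ⟶ S}
    {g : Y ⟶ S} (h : IsPullback a b f g) [Epi f] : Epi b :=
  epi_of_isPullback h.flip

/-- Sections lift locally along epimorphisms. -/
theorem exists_lift {X Q : Sheaf J (Type w)} (π : X ⟶ Q) [Epi π] {T : Sheaf J (Type w)} (f : T ⟶ Q) :
    ∃ (T' : Sheaf J (Type w)) (e : T' ⟶ T) (l : T' ⟶ X), Epi e ∧ l ≫ π = e ≫ f :=
  ⟨pullback f π, pullback.fst f π, pullback.snd f π,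
    epi_of_isPullback (IsPullback.of_hasPullback f π), pullback.condition.symm⟩

/-- Two sections lift simultaneously. -/
theorem exists_lift₂ {X X' Q Q' : Sheaf J (Type w)} (π : X ⟶ Q) [Epi π] (π' : X' ⟶ Q') [Epi π']
    {T : Sheaf J (Type w)} (f : T ⟶ Q) (f' : T ⟶ Q') :
    ∃ (T' : Sheaf J (Type w)) (e : T' ⟶ T) (l : T' ⟶ X) (l' : T' ⟶ X'),
      Epi e ∧ l ≫ π = e ≫ f ∧ l' ≫ π' = e ≫ f' := by
  obtain ⟨T₁, e₁, l, he₁, hl⟩ := exists_lift π f
  obtain ⟨T₂, e₂, l', he₂, hl'⟩ := exists_lift π' (e₁ ≫ f')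
  exact ⟨T₂, e₂ ≫ e₁, e₂ ≫ l, l', epi_comp _ _, by rw [Category.assoc, hl, Category.assoc],
    by rw [hl', Category.assoc]⟩

/-- Descent of morphisms along epimorphisms. -/
theorem exists_desc {X Q W : Sheaf J (Type w)} (π : X ⟶ Q) [Epi π] (a : X ⟶ W)
    (h : ∀ {T : Sheaf J (Type w)} (g₁ g₂ : T ⟶ X), g₁ ≫ π = g₂ ≫ π → g₁ ≫ a = g₂ ≫ a) :
    ∃ b : Q ⟶ W, π ≫ b = a := by
  have := effectiveEpi_of_epi π
  exact ⟨EffectiveEpi.desc π a h, EffectiveEpi.fac π a h⟩

/-- Factorisation through a monomorphism is local. -/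
theorem exists_factor {T' T A B : Sheaf J (Type w)} (e : T' ⟶ T) [Epi e] (m : A ⟶ B) [Mono m]
    (f : T ⟶ B) (l : T' ⟶ A) (h : l ≫ m = e ≫ f) : ∃ g : T ⟶ A, g ≫ m = f := by
  obtain ⟨g, hg⟩ := exists_desc e l fun g₁ g₂ hg => by
    rw [← cancel_mono m, Category.assoc, Category.assoc, h, reassoc_of% hg]
  exact ⟨g, by rw [← cancel_epi e, reassoc_of% hg, h]⟩

/-- Image factorisation. -/
theorem exists_image {X Y : Sheaf J (Type w)} (f : X ⟶ Y) :
    ∃ (B : Sheaf J (Type w)) (π : X ⟶ B) (m : B ⟶ Y), Epi π ∧ Mono m ∧ π ≫ m = f := by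
  have hker : IsPullback (pullback.fst f f) (pullback.snd f f) f f := IsPullback.of_hasPullback f f
  have hR : SGA4.IsEquivRel (pullback.fst f f) (pullback.snd f f) := by
    intro T
    refine ⟨fun a b h => hker.hom_ext (congrArg Prod.fst h) (congrArg Prod.snd h),
      ⟨fun a => ⟨hker.lift a a rfl, hker.lift_fst _ _ _, hker.lift_snd _ _ _⟩, ?_, ?_⟩⟩
    · rintro a b ⟨r, hr₁, hr₂⟩
      refine ⟨hker.lift b a ?_, hker.lift_fst _ _ _, hker.lift_snd _ _ _⟩
      rw [← hr₁, ← hr₂, Category.assoc, Category.assoc, hker.w]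
    · rintro a b c ⟨r, hr₁, hr₂⟩ ⟨s, hs₁, hs₂⟩
      refine ⟨hker.lift a c ?_, hker.lift_fst _ _ _, hker.lift_snd _ _ _⟩
      calc a ≫ f = b ≫ f := by rw [← hr₁, ← hr₂, Category.assoc, Category.assoc, hker.w]
        _ = c ≫ f := by rw [← hs₁, ← hs₂, Category.assoc, Category.assoc, hker.w]
  obtain ⟨B, π, h₁, h₂, h₃⟩ := Sheaf.exists_quotient J hR
  have := uee_effectiveEpi h₃
  refine ⟨B, π, h₂.desc f f hker.w, inferInstance, ⟨fun {T} a b hab => ?_⟩, h₂.inl_desc _ _ _⟩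
  obtain ⟨T', e, la, lb, he, hla, hlb⟩ := exists_lift₂ π π a b
  have hw : la ≫ f = lb ≫ f := by
    have := congrArg (e ≫ ·) hab
    simp only [← Category.assoc, ← hla, ← hlb] at this
    simpa only [Category.assoc, h₂.inl_desc] using this
  rw [← cancel_epi e, ← hla, ← hlb]
  have := congrArg (hker.lift la lb hw ≫ ·) h₁.w
  simpa only [← Category.assoc, hker.lift_fst, hker.lift_snd] using this

/-- The coequalizer of an equivalence relation has it as kernel pair. -/
theorem isPullback_coequalizer {R X : Sheaf J (Type w)} {p₁ p₂ : R ⟶ X}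
    (hR : SGA4.IsEquivRel p₁ p₂) [HasCoequalizer p₁ p₂] :
    IsPullback p₁ p₂ (coequalizer.π p₁ p₂) (coequalizer.π p₁ p₂) := by
  obtain ⟨Q, π, h₁, h₂, -⟩ := Sheaf.exists_quotient J hR
  let a : coequalizer p₁ p₂ ⟶ Q := coequalizer.desc π h₁.w
  let b : Q ⟶ coequalizer p₁ p₂ := h₂.desc _ _ (coequalizer.condition p₁ p₂)
  have ha : coequalizer.π p₁ p₂ ≫ a = π := coequalizer.π_desc _ _
  have hb : π ≫ b = coequalizer.π p₁ p₂ := h₂.inl_desc _ _ _
  have hba : b ≫ a = 𝟙 Q := by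
    apply h₂.hom_ext <;> rw [reassoc_of% hb, ha, Category.comp_id]
  have hab : a ≫ b = 𝟙 _ := by
    apply coequalizer.hom_ext
    rw [reassoc_of% ha, hb, Category.comp_id]
  exact h₁.of_iso (Iso.refl _) (Iso.refl _) (Iso.refl _) ⟨b, a, hba, hab⟩ (by simp) (by simp)
    (by simpa using hb) (by simpa using hb)

theorem isPullback_whiskerLeft {E : Type*} [Category E] [CartesianMonoidalCategory E] (X : E)
    {Y Z : E} (f : Y ⟶ Z) : IsPullback (X ◁ f) (snd X Y) (snd X Z) f := by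
  refine ⟨⟨by simp⟩, ⟨PullbackCone.IsLimit.mk _ (fun s => lift (s.fst ≫ fst X Z) s.snd)
    (fun s => ?_) (fun s => by simp) (fun s m h₁ h₂ => ?_)⟩⟩
  · ext
    · simp
    · simp [s.condition]
  · ext
    · simp [← h₁]
    · simp [← h₂]

theorem isPullback_whiskerRight {E : Type*} [Category E] [CartesianMonoidalCategory E] {Y Z : E}
    (f : Y ⟶ Z) (X : E) : IsPullback (f ▷ X) (fst Y X) (fst Z X) f := by
  refine ⟨⟨by simp⟩, ⟨PullbackCone.IsLimit.mk _ (fun s => lift s.snd (s.fst ≫ snd Z X))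
    (fun s => ?_) (fun s => by simp) (fun s m h₁ h₂ => ?_)⟩⟩
  · ext
    · simp [s.condition]
    · simp
  · ext
    · simp [← h₂]
    · simp [← h₁]

theorem epi_whiskerLeft (X : Sheaf J (Type w)) {Y Z : Sheaf J (Type w)} (f : Y ⟶ Z) [Epi f] :
    Epi (X ◁ f) :=
  epi_of_isPullback (isPullback_whiskerLeft X f)

theorem epi_whiskerRight {Y Z : Sheaf J (Type w)} (f : Y ⟶ Z) [Epi f] (X : Sheaf J (Type w)) :
    Epi (f ▷ X) :=
  epi_of_isPullback (isPullback_whiskerRight f X)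

theorem epi_tensorHom {Y Z Y' Z' : Sheaf J (Type w)} (f : Y ⟶ Z) (g : Y' ⟶ Z') [Epi f] [Epi g] :
    Epi (f ⊗ₘ g) := by
  rw [MonoidalCategory.tensorHom_def]
  have := epi_whiskerRight f Y'
  have := epi_whiskerLeft Z g
  exact epi_comp _ _

section Subobjects

/-- Factorisation through a subobject, in terms of its underlying object. -/
theorem exists_arrow {E : Type*} [Category E] {X T : E} {K : Subobject X} {x : T ⟶ X}
    (h : K.Factors x) : ∃ g : T ⟶ (K : E), g ≫ K.arrow = x :=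
  ⟨K.factorThru x h, K.factorThru_arrow x h⟩

/-- Sections of a pulled back subobject. -/
theorem factors_pullback_iff {E : Type*} [Category E] [HasPullbacks E] {X Y T : E} (f : X ⟶ Y)
    (K : Subobject Y) (x : T ⟶ X) :
    ((Subobject.pullback f).obj K).Factors x ↔ K.Factors (x ≫ f) := by
  have h := Subobject.isPullback f K
  constructor
  · intro hx
    obtain ⟨g, hg⟩ := exists_arrow hx
    rw [← hg, Category.assoc, ← h.w]
    exact Subobject.factors_of_factors_right g (Subobject.factors_comp_arrow _)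
  · intro hx
    obtain ⟨g, hg⟩ := exists_arrow hx
    rw [← h.lift_snd g x hg]
    exact Subobject.factors_comp_arrow _

theorem eq_of_factors_iff {E : Type*} [Category E] {X : E} {K L : Subobject X}
    (h : ∀ {T : E} (x : T ⟶ X), K.Factors x ↔ L.Factors x) : K = L :=
  le_antisymm (Subobject.le_of_factors ((h _).1 (Subobject.factors_self _)))
    (Subobject.le_of_factors ((h _).2 (Subobject.factors_self _)))

/-- Membership in a subsheaf is local. -/
theorem factors_of_epi {X T' T : Sheaf J (Type w)} (e : T' ⟶ T) [Epi e] (K : Subobject X)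
    (x : T ⟶ X) (h : K.Factors (e ≫ x)) : K.Factors x := by
  obtain ⟨g, hg⟩ := exists_arrow h
  obtain ⟨g', rfl⟩ := exists_factor e K.arrow x g hg
  exact Subobject.factors_comp_arrow _

/-- Inverse image along an epimorphism of sheaves is injective on subsheaves. -/
theorem pullback_injective {X Q : Sheaf J (Type w)} (π : X ⟶ Q) [Epi π] :
    Function.Injective (Subobject.pullback π).obj := by
  intro K L hKL
  refine eq_of_factors_iff fun {T} x => ?_
  obtain ⟨T', e, l, he, hl⟩ := exists_lift π x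
  constructor <;> intro hx <;> refine factors_of_epi e _ x ?_ <;> rw [← hl, ← factors_pullback_iff]
  · rw [← hKL, factors_pullback_iff, hl]
    exact Subobject.factors_of_factors_right _ hx
  · rw [hKL, factors_pullback_iff, hl]
    exact Subobject.factors_of_factors_right _ hx

/-- A subsheaf saturated for the kernel pair of an epimorphism is an inverse image. -/
theorem exists_pullback_eq {X Q : Sheaf J (Type w)} (π : X ⟶ Q) [Epi π] (K : Subobject X)
    (h : ∀ {T : Sheaf J (Type w)} (x y : T ⟶ X), x ≫ π = y ≫ π → K.Factors x → K.Factors y) :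
    ∃ K' : Subobject Q, (Subobject.pullback π).obj K' = K := by
  obtain ⟨B, q, m, hq, hm, hqm⟩ := exists_image (K.arrow ≫ π)
  refine ⟨Subobject.mk m, eq_of_factors_iff fun {T} x => ?_⟩
  rw [factors_pullback_iff]
  have hmk : (Subobject.mk m).Factors (x ≫ π) ↔ ∃ b : T ⟶ B, b ≫ m = x ≫ π := Subobject.mk_factors_iff _ _
  rw [hmk]
  constructor
  · rintro ⟨b, hb⟩
    obtain ⟨T', e, k, he, hk⟩ := exists_lift q b
    refine factors_of_epi e K x (h (k ≫ K.arrow) (e ≫ x) ?_ (Subobject.factors_comp_arrow k))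
    rw [Category.assoc, Category.assoc, ← hqm, reassoc_of% hk, hb]
  · intro hx
    obtain ⟨g, hg⟩ := exists_arrow hx
    exact ⟨g ≫ q, by rw [Category.assoc, hqm, reassoc_of% hg]⟩

end Subobjects

section Generic

open MonObj

variable {E : Type*} [Category E] [CartesianMonoidalCategory E] {H G : E} [GrpObj H] [GrpObj G]
  (u : H ⟶ G)

omit [GrpObj H] in
theorem comp_mulMap {T : E} (x : T ⟶ G ⊗ H) :
    x ≫ (G ◁ u) ≫ μ[G] = (x ≫ fst G H) * ((x ≫ snd G H) ≫ u) := by
  rw [Hom.mul_def, ← Category.assoc]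
  congr 1
  ext <;> simp

omit [GrpObj H] in
theorem lift_mulMap {T : E} (x : T ⟶ G) (h : T ⟶ H) :
    lift x h ≫ (G ◁ u) ≫ μ[G] = x * (h ≫ u) := by
  rw [comp_mulMap]; simp

omit [GrpObj H] in
theorem eq_fst_mul_snd {T : E} (g : T ⟶ G ⊗ G) : g ≫ μ[G] = (g ≫ fst G G) * (g ≫ snd G G) := by
  rw [Hom.mul_def, ← comp_lift, lift_fst_snd, Category.comp_id]

omit [GrpObj H] in
theorem act_one {Q : E} (q : G ⟶ Q) (act : G ⊗ Q ⟶ Q) (hact : (G ◁ q) ≫ act = μ[G] ≫ q) :
    (𝟙_ E ◁ q) ≫ (η[G] ▷ Q) ≫ act = (𝟙_ E ◁ q) ≫ (λ_ Q).hom := by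
  rw [whisker_exchange_assoc, hact, ← Category.assoc, MonObj.one_mul]
  simp

omit [GrpObj H] in
theorem act_mul {Q : E} (q : G ⟶ Q) (act : G ⊗ Q ⟶ Q) (hact : (G ◁ q) ≫ act = μ[G] ≫ q) :
    ((G ⊗ G) ◁ q) ≫ (μ[G] ▷ Q) ≫ act =
      ((G ⊗ G) ◁ q) ≫ (α_ G G Q).hom ≫ (G ◁ act) ≫ act := by
  rw [whisker_exchange_assoc, hact, ← Category.assoc, MonObj.mul_assoc]
  rw [associator_naturality_right_assoc, ← MonoidalCategory.whiskerLeft_comp_assoc, hact,
    MonoidalCategory.whiskerLeft_comp_assoc, hact]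
  simp

variable [Mono u] [IsMonHom u]

theorem isEquivRel_mul {E : Type v₁} [Category.{w} E] [CartesianMonoidalCategory E] {H G : E}
    [GrpObj H] [GrpObj G] (u : H ⟶ G) [Mono u] [IsMonHom u] :
    SGA4.IsEquivRel (fst G H) ((G ◁ u) ≫ μ[G]) := by
  intro T
  refine ⟨fun a b h => ?_, ⟨fun x => ⟨lift x 1, lift_fst _ _, ?_⟩, ?_, ?_⟩⟩
  · have h₁ := congrArg Prod.fst h
    have h₂ := congrArg Prod.snd h
    simp only at h₁ h₂
    rw [comp_mulMap, comp_mulMap, h₁] at h₂
    exact CartesianMonoidalCategory.hom_ext _ _ h₁ ((cancel_mono u).1 (mul_left_cancel h₂))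
  · rw [lift_mulMap, MonObj.one_comp, _root_.mul_one]
  · rintro x y ⟨f, hf₁, hf₂⟩
    rw [comp_mulMap, hf₁] at hf₂
    refine ⟨lift y (f ≫ snd G H)⁻¹, lift_fst _ _, ?_⟩
    rw [lift_mulMap, GrpObj.inv_comp, ← hf₂, mul_inv_cancel_right]
  · rintro x y z ⟨f, hf₁, hf₂⟩ ⟨g, hg₁, hg₂⟩
    rw [comp_mulMap, hf₁] at hf₂
    rw [comp_mulMap, hg₁] at hg₂
    refine ⟨lift x (f ≫ snd G H * g ≫ snd G H), lift_fst _ _, ?_⟩
    rw [lift_mulMap, MonObj.mul_comp, ← _root_.mul_assoc, hf₂, hg₂]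

omit [Mono u] in
theorem mul_π_eq {Q : E} (q : G ⟶ Q) (hq : fst G H ≫ q = ((G ◁ u) ≫ μ[G]) ≫ q)
    {T : E} (x : T ⟶ G) (h : T ⟶ H) : (x * (h ≫ u)) ≫ q = x ≫ q := by
  rw [← lift_mulMap u x h, Category.assoc, ← hq, lift_fst_assoc]

theorem exists_of_comp_eq {Q : E} (q : G ⟶ Q) (hp : IsPullback (fst G H) ((G ◁ u) ≫ μ[G]) q q)
    {T : E} (x y : T ⟶ G) : x ≫ q = y ≫ q ↔ ∃ h : T ⟶ H, x * (h ≫ u) = y := by
  constructor
  · intro e
    refine ⟨hp.lift x y e ≫ snd G H, ?_⟩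
    have := hp.lift_snd x y e
    rw [comp_mulMap, hp.lift_fst] at this
    exact this
  · rintro ⟨h, rfl⟩
    exact (mul_π_eq u q hp.w x h).symm

omit [Mono u] [IsMonHom u] in
/-- A monomorphism whose generalised points form subgroups carries a group structure. -/
theorem exists_grpObj_of_mono {K : E} (m : K ⟶ G) [Mono m]
    (h1 : ∀ T : E, ∃ g : T ⟶ K, g ≫ m = 1)
    (hmul : ∀ {T : E} (a b : T ⟶ K), ∃ g : T ⟶ K, g ≫ m = a ≫ m * b ≫ m)
    (hinv : ∀ {T : E} (a : T ⟶ K), ∃ g : T ⟶ K, g ≫ m = (a ≫ m)⁻¹) :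
    ∃ str : GrpObj K, @IsMonHom _ _ _ K G str.toMonObj _ m := by
  obtain ⟨one, hone⟩ := h1 (𝟙_ _)
  obtain ⟨mul, hmul'⟩ := hmul (fst K K) (snd K K)
  obtain ⟨inv, hinv'⟩ := hinv (𝟙 K)
  have hone' : one ≫ m = η[G] := by rw [hone, one_eq_one]
  have hcomp : ∀ {T : E} (a b : T ⟶ K), lift a b ≫ mul ≫ m = a ≫ m * b ≫ m := by
    intro T a b
    rw [hmul', MonObj.comp_mul, lift_fst_assoc, lift_snd_assoc]
  let str : GrpObj K :=
    { one := one
      mul := mul
      one_mul := by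
        rw [← cancel_mono m, Category.assoc, hmul', MonObj.comp_mul, whiskerRight_fst_assoc,
          whiskerRight_snd_assoc, hone, MonObj.comp_one, _root_.one_mul, leftUnitor_hom]
      mul_one := by
        rw [← cancel_mono m, Category.assoc, hmul', MonObj.comp_mul, whiskerLeft_fst_assoc,
          whiskerLeft_snd_assoc, hone, MonObj.comp_one, _root_.mul_one, rightUnitor_hom]
      mul_assoc := by
        rw [← cancel_mono m]
        simp only [Category.assoc, hmul', MonObj.comp_mul, whiskerRight_fst_assoc, whiskerRight_snd_assoc,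
          whiskerLeft_fst_assoc, whiskerLeft_snd_assoc, associator_hom_fst_assoc,
          associator_hom_snd_fst_assoc, associator_hom_snd_snd_assoc, _root_.mul_assoc]
      inv := inv
      left_inv := by
        rw [← cancel_mono m, Category.assoc, hcomp, Category.assoc, hone', hinv']
        simp [Hom.one_def]
      right_inv := by
        rw [← cancel_mono m, Category.assoc, hcomp, Category.assoc, hone', hinv']
        simp [Hom.one_def] }
  refine ⟨str, ?_⟩
  exact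
    { one_hom := hone'
      mul_hom := by
        change mul ≫ m = _
        rw [hmul', Hom.mul_def]
        congr 1
        ext <;> simp }

end Generic

section Grp

open MonObj

variable {H G : Sheaf J (Type w)} [hH : GrpObj H] [hG : GrpObj G] (u : H ⟶ G) [Mono u]

/-- The quotient map is an epimorphism with kernel pair the action of the subgroup. -/
theorem comp_π_eq_iff (hu : @IsMonHom (Sheaf J (Type w)) _ _ H G hH.toMonObj hG.toMonObj u)
    {T : Sheaf J (Type w)} (x y : T ⟶ G) :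
    x ≫ coequalizer.π (fst G H) ((G ◁ u) ≫ hG.mul) = y ≫ coequalizer.π (fst G H) ((G ◁ u) ≫ hG.mul) ↔
      ∃ h : T ⟶ H, x * (h ≫ u) = y :=
  exists_of_comp_eq u _ (isPullback_coequalizer (isEquivRel_mul u)) x y

end Grp

section Regular

/-- The exactness properties of a category used in the elementary theory of quotients. -/
structure Regular (E : Type*) [Category E] [CartesianMonoidalCategory E] : Prop where
  lift : ∀ {X Q T : E} (π : X ⟶ Q) [Epi π] (f : T ⟶ Q),
    ∃ (T' : E) (e : T' ⟶ T) (l : T' ⟶ X), Epi e ∧ l ≫ π = e ≫ f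
  desc : ∀ {X Q W : E} (π : X ⟶ Q) [Epi π] (a : X ⟶ W),
    (∀ {T : E} (g₁ g₂ : T ⟶ X), g₁ ≫ π = g₂ ≫ π → g₁ ≫ a = g₂ ≫ a) → ∃ b : Q ⟶ W, π ≫ b = a
  whiskerLeft : ∀ (X : E) {Y Z : E} (f : Y ⟶ Z) [Epi f], Epi (X ◁ f)
  tensor : ∀ {Y Z Y' Z' : E} (f : Y ⟶ Z) (g : Y' ⟶ Z') [Epi f] [Epi g], Epi (f ⊗ₘ g)
  image : ∀ {X Y : E} (f : X ⟶ Y),
    ∃ (B : E) (π : X ⟶ B) (m : B ⟶ Y), Epi π ∧ Mono m ∧ π ≫ m = f

theorem regular : Regular (Sheaf J (Type w)) where
  lift π _ f := exists_lift π f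
  desc π _ a h := exists_desc π a h
  whiskerLeft X _ _ f _ := epi_whiskerLeft X f
  tensor f g _ _ := epi_tensorHom f g
  image f := exists_image f

end Regular

end Groth.Agent.Topos.Quot
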