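import Groth.Agent.Topos.Quot

/-!
# Quotients of group objects by subgroups in a category with effective epimorphisms
-/

set_option autoImplicit false
open CategoryTheory CategoryTheory.Limits MonoidalCategory CartesianMonoidalCategory
  SemiCartesianMonoidalCategory MonObj
universe v u

namespace Groth.Agent.Topos.QuotGrp

open Groth.Agent.Topos.Quot

variable {E : Type u} [Category.{v} E] [CartesianMonoidalCategory E]

/-- `q` is a quotient of `G` by the subgroup `u`. -/
structure IsQuot {H G Q : E} [GrpObj G] (u : H ⟶ G) (q : G ⟶ Q) : Prop where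
  epi : Epi q
  kernel : IsPullback (fst G H) ((G ◁ u) ≫ μ[G]) q q

theorem IsQuot.eq_iff {H G Q : E} [GrpObj H] [GrpObj G] {u : H ⟶ G} [Mono u] [IsMonHom u]
    {q : G ⟶ Q} (hq : IsQuot u q) {T : E} (x y : T ⟶ G) :
    x ≫ q = y ≫ q ↔ ∃ h : T ⟶ H, x * (h ≫ u) = y :=
  exists_of_comp_eq u q hq.kernel x y

variable (hE : Regular E)
include hE

/-- The kernel pair of the restriction of a quotient map to a subgroup. -/
theorem isKernelPair_sub [HasPullbacks E] {H L G Q : E} [GrpObj H] [GrpObj L] [GrpObj G]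
    (u : H ⟶ G) (l : L ⟶ G) [Mono u] [Mono l] [IsMonHom u] [IsMonHom l] {q : G ⟶ Q}
    (hq : IsQuot u q) :
    IsKernelPair (l ≫ q) (fst L (pullback u l)) ((L ◁ pullback.snd u l) ≫ μ[L]) := by
  have hw : ((L ◁ pullback.snd u l) ≫ μ[L]) ≫ l ≫ q = fst L (pullback u l) ≫ l ≫ q := by
    have h := comp_mulMap (pullback.snd u l) (𝟙 (L ⊗ pullback u l))
    rw [Category.id_comp] at h
    rw [← Category.assoc, ← Category.assoc (fst L (pullback u l))]
    refine ((hq.eq_iff _ _).2 ⟨snd L (pullback u l) ≫ pullback.fst u l, ?_⟩).symm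
    rw [h, MonObj.mul_comp, Category.id_comp, Category.id_comp, Category.assoc, Category.assoc,
      pullback.condition]
  have key : ∀ s : PullbackCone (l ≫ q) (l ≫ q), ∃ m : s.pt ⟶ L ⊗ pullback u l,
      m ≫ fst L (pullback u l) = s.fst ∧ m ≫ (L ◁ pullback.snd u l) ≫ μ[L] = s.snd := by
    intro s
    obtain ⟨h, hh⟩ := (hq.eq_iff (s.fst ≫ l) (s.snd ≫ l)).1
      (by rw [Category.assoc, Category.assoc]; exact s.condition)
    have hc : h ≫ u = (s.fst⁻¹ * s.snd) ≫ l := by
      rw [MonObj.mul_comp, GrpObj.inv_comp, eq_inv_mul_iff_mul_eq]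
      exact hh
    refine ⟨lift s.fst (pullback.lift h (s.fst⁻¹ * s.snd) hc), lift_fst _ _, ?_⟩
    rw [lift_mulMap, pullback.lift_snd, mul_inv_cancel_left]
  have uniq : ∀ {T : E} (m m' : T ⟶ L ⊗ pullback u l),
      m ≫ fst L (pullback u l) = m' ≫ fst L (pullback u l) →
      m ≫ (L ◁ pullback.snd u l) ≫ μ[L] = m' ≫ (L ◁ pullback.snd u l) ≫ μ[L] → m = m' := by
    intro T m m' h₁ h₂
    rw [comp_mulMap, comp_mulMap, h₁] at h₂
    have e := mul_left_cancel h₂
    refine CartesianMonoidalCategory.hom_ext _ _ h₁ (pullback.hom_ext ?_ e)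
    rw [← cancel_mono u]
    simpa only [Category.assoc, pullback.condition] using congrArg (· ≫ l) e
  choose m hm₁ hm₂ using key
  exact ⟨⟨hw.symm⟩, ⟨PullbackCone.IsLimit.mk _ m hm₁ hm₂
    (fun s m' h₁ h₂ => uniq _ _ (h₁.trans (hm₁ s).symm) (h₂.trans (hm₂ s).symm))⟩⟩

/-- Left translation descends to the quotient, uniquely. -/
theorem existsUnique_action {H G Q : E} [GrpObj H] [GrpObj G] (u : H ⟶ G) [Mono u] [IsMonHom u]
    {q : G ⟶ Q} (hq : IsQuot u q) :
    ∃! act : G ⊗ Q ⟶ Q, (η[G] ▷ Q) ≫ act = (λ_ Q).hom ∧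
      (μ[G] ▷ Q) ≫ act = (α_ G G Q).hom ≫ (G ◁ act) ≫ act ∧ μ[G] ≫ q = (G ◁ q) ≫ act := by
  have := hq.epi
  have := hE.whiskerLeft G q
  obtain ⟨act, hact⟩ := hE.desc (G ◁ q) (μ[G] ≫ q) fun {T} g₁ g₂ h => by
    have h1 := congrArg (· ≫ fst _ _) h
    have h2 := congrArg (· ≫ snd _ _) h
    simp only [Category.assoc, whiskerLeft_fst, whiskerLeft_snd] at h1 h2
    rw [← Category.assoc, ← Category.assoc] at h2
    obtain ⟨k, hk⟩ := (hq.eq_iff _ _).1 h2
    rw [← Category.assoc, ← Category.assoc]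
    refine (hq.eq_iff _ _).2 ⟨k, ?_⟩
    rw [eq_fst_mul_snd, eq_fst_mul_snd, _root_.mul_assoc, hk, h1]
  refine ⟨act, ⟨?_, ?_, hact.symm⟩, fun act' h => by rw [← cancel_epi (G ◁ q), hact, h.2.2]⟩
  · have := hE.whiskerLeft (𝟙_ E) q
    rw [← cancel_epi (𝟙_ E ◁ q)]
    exact act_one q act hact
  · have := hE.whiskerLeft (G ⊗ G) q
    rw [← cancel_epi ((G ⊗ G) ◁ q)]
    exact act_mul q act hact

/-- The quotient by a normal subgroup is uniquely a group. -/
theorem existsUnique_grpObj {H G Q : E} [GrpObj H] [GrpObj G] (u : H ⟶ G) [Mono u] [IsMonHom u]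
    (hn : ∀ (Y : E) (g : Y ⟶ G) (h : Y ⟶ H), ∃ h' : Y ⟶ H, g * (h ≫ u) * g⁻¹ = h' ≫ u)
    {q : G ⟶ Q} (hq : IsQuot u q) :
    ∃! str : GrpObj Q, @IsMonHom _ _ _ G Q _ str.toMonObj q := by
  have := hq.epi
  have := hE.tensor q q
  obtain ⟨mul, hmul⟩ := hE.desc (q ⊗ₘ q) (μ[G] ≫ q) fun {T} g₁ g₂ h => by
    have h1 := congrArg (· ≫ fst _ _) h
    have h2 := congrArg (· ≫ snd _ _) h
    simp only [Category.assoc, tensorHom_fst, tensorHom_snd] at h1 h2
    rw [← Category.assoc, ← Category.assoc] at h1 h2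
    obtain ⟨k, hk⟩ := (hq.eq_iff _ _).1 h1
    obtain ⟨m, hm⟩ := (hq.eq_iff _ _).1 h2
    obtain ⟨k', hk'⟩ := hn T (g₁ ≫ snd G G)⁻¹ k
    rw [inv_inv] at hk'
    rw [← Category.assoc, ← Category.assoc]
    refine (hq.eq_iff _ _).2 ⟨k' * m, ?_⟩
    rw [eq_fst_mul_snd, eq_fst_mul_snd, ← hk, ← hm, MonObj.mul_comp, ← hk']
    group
  obtain ⟨inv, hinv⟩ := hE.desc q ((𝟙 G)⁻¹ ≫ q) fun {T} g₁ g₂ h => by
    obtain ⟨k, hk⟩ := (hq.eq_iff _ _).1 h
    obtain ⟨k', hk'⟩ := hn T g₁ k⁻¹
    rw [← Category.assoc, ← Category.assoc, GrpObj.comp_inv, GrpObj.comp_inv, Category.comp_id,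
      Category.comp_id]
    refine (hq.eq_iff _ _).2 ⟨k', ?_⟩
    rw [← hk, ← hk', GrpObj.inv_comp]
    group
  have hlift : ∀ {T : E} (x y : T ⟶ G), CartesianMonoidalCategory.lift (x ≫ q) (y ≫ q) ≫ mul = (x * y) ≫ q := by
    intro T x y
    rw [← lift_map_assoc, hmul, Hom.mul_def, Category.assoc]
  have hinv' : ∀ {T : E} (x : T ⟶ G), x ≫ q ≫ inv = x⁻¹ ≫ q := by
    intro T x
    rw [hinv, ← Category.assoc, GrpObj.comp_inv, Category.comp_id]
  have hone : ∀ (T : E), toUnit T ≫ η[G] ≫ q = (1 : T ⟶ G) ≫ q := fun T => by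
    rw [Hom.one_def, Category.assoc]
  let str : GrpObj Q :=
    { one := η[G] ≫ q
      mul := mul
      one_mul := by
        obtain ⟨T', d, x, hd, hx⟩ := hE.lift q (snd (𝟙_ E) Q)
        rw [← cancel_epi d, leftUnitor_hom, ← hx, ← Category.assoc]
        have e : d ≫ (η[G] ≫ q) ▷ Q = CartesianMonoidalCategory.lift ((1 : T' ⟶ G) ≫ q) (x ≫ q) := by
          apply CartesianMonoidalCategory.hom_ext
          · rw [Category.assoc, whiskerRight_fst, lift_fst, ← hone, ← Category.assoc,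
              toUnit_unique (d ≫ fst _ _) (toUnit T')]
          · rw [Category.assoc, whiskerRight_snd, lift_snd, hx]
        rw [e, hlift, _root_.one_mul]
      mul_one := by
        obtain ⟨T', d, x, hd, hx⟩ := hE.lift q (fst Q (𝟙_ E))
        rw [← cancel_epi d, rightUnitor_hom, ← hx, ← Category.assoc]
        have e : d ≫ Q ◁ (η[G] ≫ q) = CartesianMonoidalCategory.lift (x ≫ q) ((1 : T' ⟶ G) ≫ q) := by
          apply CartesianMonoidalCategory.hom_ext
          · rw [Category.assoc, whiskerLeft_fst, lift_fst, hx]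
          · rw [Category.assoc, whiskerLeft_snd, lift_snd, ← hone, ← Category.assoc,
              toUnit_unique (d ≫ snd _ _) (toUnit T')]
        rw [e, hlift, _root_.mul_one]
      mul_assoc := by
        have := hE.tensor (q ⊗ₘ q) q
        rw [← cancel_epi ((q ⊗ₘ q) ⊗ₘ q)]
        have e1 : ((q ⊗ₘ q) ⊗ₘ q) ≫ (mul ▷ Q) = (μ[G] ▷ G) ≫ (q ⊗ₘ q) := by
          rw [← tensorHom_id, ← tensorHom_id, tensorHom_comp_tensorHom, tensorHom_comp_tensorHom, hmul,
            Category.comp_id, Category.id_comp]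
        have e2 : (q ⊗ₘ (q ⊗ₘ q)) ≫ (Q ◁ mul) = (G ◁ μ[G]) ≫ (q ⊗ₘ q) := by
          rw [← id_tensorHom, ← id_tensorHom, tensorHom_comp_tensorHom, tensorHom_comp_tensorHom, hmul,
            Category.comp_id, Category.id_comp]
        rw [reassoc_of% e1, hmul, associator_naturality_assoc, reassoc_of% e2, hmul,
          MonObj.mul_assoc_assoc]
      inv := inv
      left_inv := by
        rw [← cancel_epi q, ← Category.assoc, comp_lift, hinv, Category.comp_id]
        conv_lhs => arg 1; arg 2; rw [← Category.id_comp q]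
        rw [hlift, inv_mul_cancel, ← hone, ← Category.assoc, ← Category.assoc, ← Category.assoc,
          toUnit_unique (q ≫ toUnit Q) (toUnit G)]
      right_inv := by
        rw [← cancel_epi q, ← Category.assoc, comp_lift, hinv, Category.comp_id]
        conv_lhs => arg 1; arg 1; rw [← Category.id_comp q]
        rw [hlift, mul_inv_cancel, ← hone, ← Category.assoc, ← Category.assoc, ← Category.assoc,
          toUnit_unique (q ≫ toUnit Q) (toUnit G)] }
  refine ⟨str, @IsMonHom.mk _ _ _ G Q _ str.toMonObj q rfl hmul.symm, fun str' h => ?_⟩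
  apply GrpObj.ext
  have hm' := @IsMonHom.mul_hom _ _ _ G Q _ str'.toMonObj q h
  have ho' := @IsMonHom.one_hom _ _ _ G Q _ str'.toMonObj q h
  apply MonObj.ext
  rw [← cancel_epi (q ⊗ₘ q)]
  exact hm'.symm.trans hmul.symm

omit hE in
/-- Being a subgroup, as a condition on sections. -/
structure IsSub {G : E} [GrpObj G] (K : Subobject G) : Prop where
  one : ∀ T : E, K.Factors (1 : T ⟶ G)
  mul : ∀ {T : E} (a b : T ⟶ G), K.Factors a → K.Factors b → K.Factors (a * b)
  inv : ∀ {T : E} (a : T ⟶ G), K.Factors a → K.Factors a⁻¹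

omit hE in
theorem isSub_iff {G : E} [GrpObj G] (K : Subobject G) :
    (∃ str : GrpObj (K : E), @IsMonHom _ _ _ (K : E) G str.toMonObj _ K.arrow) ↔ IsSub K := by
  constructor
  · rintro ⟨str, h⟩
    refine ⟨fun T => ?_, fun a b ha hb => ?_, fun a ha => ?_⟩
    · rw [← MonObj.one_comp (M := (K : E)) K.arrow]
      exact Subobject.factors_comp_arrow _
    · obtain ⟨a, rfl⟩ := exists_arrow ha
      obtain ⟨b, rfl⟩ := exists_arrow hb
      rw [← MonObj.mul_comp]
      exact Subobject.factors_comp_arrow _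
    · obtain ⟨a, rfl⟩ := exists_arrow ha
      rw [← GrpObj.inv_comp]
      exact Subobject.factors_comp_arrow _
  · intro h
    exact exists_grpObj_of_mono K.arrow (fun T => exists_arrow (h.one T))
      (fun a b => exists_arrow (h.mul _ _ (Subobject.factors_comp_arrow a) (Subobject.factors_comp_arrow b)))
      (fun a => exists_arrow (h.inv _ (Subobject.factors_comp_arrow a)))

theorem factors_of_epi' {X T' T : E} (e : T' ⟶ T) [Epi e] (K : Subobject X) (x : T ⟶ X)
    (h : K.Factors (e ≫ x)) : K.Factors x := by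
  obtain ⟨g, hg⟩ := exists_arrow h
  obtain ⟨b, hb⟩ := hE.desc e g fun g₁ g₂ hg' => by
    rw [← cancel_mono K.arrow, Category.assoc, Category.assoc, hg, reassoc_of% hg']
  have : b ≫ K.arrow = x := by rw [← cancel_epi e, reassoc_of% hb, hg]
  rw [← this]
  exact Subobject.factors_comp_arrow _

/-- Subgroups of a quotient correspond to subgroups containing the kernel, normal ones to normal ones. -/
theorem subgroup_correspondence [HasPullbacks E] {H G Q : E} [GrpObj H] [GrpObj G] [GrpObj Q]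
    (u : H ⟶ G) [Mono u] [IsMonHom u] {q : G ⟶ Q} [IsMonHom q] (hq : IsQuot u q) :
    Set.BijOn (Subobject.pullback q).obj
      {K' : Subobject Q | ∃ str : GrpObj (K' : E), @IsMonHom _ _ _ (K' : E) Q str.toMonObj _ K'.arrow}
      {K : Subobject G | Subobject.mk u ≤ K ∧
        ∃ str : GrpObj (K : E), @IsMonHom _ _ _ (K : E) G str.toMonObj _ K.arrow} ∧
    ∀ K' : Subobject Q,
      ((∀ (Y : E) (g : Y ⟶ Q) (k : Y ⟶ (K' : E)),
          ∃ k' : Y ⟶ (K' : E), g * (k ≫ K'.arrow) * g⁻¹ = k' ≫ K'.arrow) ↔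
        (∀ (Y : E) (g : Y ⟶ G) (k : Y ⟶ ((Subobject.pullback q).obj K' : E)),
          ∃ k' : Y ⟶ ((Subobject.pullback q).obj K' : E),
            g * (k ≫ ((Subobject.pullback q).obj K').arrow) * g⁻¹ =
              k' ≫ ((Subobject.pullback q).obj K').arrow)) := by
  have := hq.epi
  have hconj : ∀ {X : E} [GrpObj X] (K : Subobject X),
      (∀ (Y : E) (g : Y ⟶ X) (k : Y ⟶ (K : E)),
          ∃ k' : Y ⟶ (K : E), g * (k ≫ K.arrow) * g⁻¹ = k' ≫ K.arrow) ↔
        ∀ (Y : E) (g x : Y ⟶ X), K.Factors x → K.Factors (g * x * g⁻¹) := by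
    intro X _ K
    constructor
    · intro h Y g x hx
      obtain ⟨k, rfl⟩ := exists_arrow hx
      obtain ⟨k', hk'⟩ := h Y g k
      rw [hk']
      exact Subobject.factors_comp_arrow _
    · intro h Y g k
      obtain ⟨k', hk'⟩ := exists_arrow (h Y g _ (Subobject.factors_comp_arrow k))
      exact ⟨k', hk'.symm⟩
  refine ⟨⟨fun K' hK' => ?_, ?_, fun K hK => ?_⟩, fun K' => ?_⟩
  · have hs := (isSub_iff K').1 hK'
    refine ⟨Subobject.mk_le_of_comm ((Subobject.pullback q).obj K' |>.factorThru u ?_) ?_,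
      (isSub_iff _).2 ⟨fun T => ?_, fun a b ha hb => ?_, fun a ha => ?_⟩⟩
    · rw [factors_pullback_iff]
      have : u ≫ q = 1 := by
        have := (hq.eq_iff (1 : H ⟶ G) u).2 ⟨𝟙 H, by rw [Category.id_comp, _root_.one_mul]⟩
        rw [← this, MonObj.one_comp]
      rw [this]
      exact hs.one H
    · exact Subobject.factorThru_arrow _ _ _
    · rw [factors_pullback_iff, MonObj.one_comp]; exact hs.one T
    · rw [factors_pullback_iff] at ha hb ⊢
      rw [MonObj.mul_comp]; exact hs.mul _ _ ha hb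
    · rw [factors_pullback_iff] at ha ⊢
      rw [GrpObj.inv_comp]; exact hs.inv _ ha
  · intro K _ L _ hKL
    refine eq_of_factors_iff fun {T} x => ?_
    obtain ⟨T', e, l, he, hl⟩ := hE.lift q x
    constructor <;> intro hx <;> refine factors_of_epi' hE e _ x ?_ <;> rw [← hl, ← factors_pullback_iff]
    · rw [← hKL, factors_pullback_iff, hl]
      exact Subobject.factors_of_factors_right _ hx
    · rw [hKL, factors_pullback_iff, hl]
      exact Subobject.factors_of_factors_right _ hx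
  · obtain ⟨hle, hstr⟩ := hK
    have hs := (isSub_iff K).1 hstr
    have hsat : ∀ {T : E} (x y : T ⟶ G), x ≫ q = y ≫ q → K.Factors x → K.Factors y := by
      intro T x y e hx
      obtain ⟨h, rfl⟩ := (hq.eq_iff x y).1 e
      exact hs.mul _ _ hx (Subobject.factors_of_le _ hle ((Subobject.mk_factors_iff _ _).2 ⟨h, rfl⟩))
    obtain ⟨B, p, m, hp, hm, hpm⟩ := hE.image (K.arrow ≫ q)
    have hmem : ∀ {T : E} (x : T ⟶ G), (Subobject.mk m).Factors (x ≫ q) ↔ K.Factors x := by
      intro T x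
      have hmk : (Subobject.mk m).Factors (x ≫ q) ↔ ∃ b : T ⟶ B, b ≫ m = x ≫ q :=
        Subobject.mk_factors_iff _ _
      rw [hmk]
      constructor
      · rintro ⟨b, hb⟩
        obtain ⟨T', e, k, he, hk⟩ := hE.lift p b
        refine factors_of_epi' hE e K x (hsat (k ≫ K.arrow) (e ≫ x) ?_ (Subobject.factors_comp_arrow k))
        rw [Category.assoc, Category.assoc, ← hpm, reassoc_of% hk, hb]
      · intro hx
        obtain ⟨g, rfl⟩ := exists_arrow hx
        exact ⟨g ≫ p, by rw [Category.assoc, hpm, Category.assoc]⟩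
    refine ⟨Subobject.mk m, (isSub_iff _).2 ⟨fun T => ?_, fun {T} a b ha hb => ?_, fun {T} a ha => ?_⟩,
      eq_of_factors_iff fun x => (factors_pullback_iff q _ x).trans (hmem x)⟩
    · rw [← MonObj.one_comp (M := G) q, hmem]; exact hs.one T
    · obtain ⟨T₁, e₁, x, he₁, hx⟩ := hE.lift q a
      obtain ⟨T₂, e₂, y, he₂, hy⟩ := hE.lift q (e₁ ≫ b)
      refine factors_of_epi' hE e₁ _ _ (factors_of_epi' hE e₂ _ _ ?_)
      have hxK : K.Factors (e₂ ≫ x) := by
        rw [← hmem, Category.assoc, hx]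
        exact Subobject.factors_of_factors_right _ (Subobject.factors_of_factors_right _ ha)
      have hyK : K.Factors y := by
        rw [← hmem, hy]
        exact Subobject.factors_of_factors_right _ (Subobject.factors_of_factors_right _ hb)
      rw [MonObj.comp_mul, MonObj.comp_mul, ← hx, ← hy, ← Category.assoc, ← MonObj.mul_comp, hmem]
      exact hs.mul _ _ hxK hyK
    · obtain ⟨T₁, e₁, x, he₁, hx⟩ := hE.lift q a
      refine factors_of_epi' hE e₁ _ _ ?_
      rw [GrpObj.comp_inv, ← hx, ← GrpObj.inv_comp, hmem]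
      refine hs.inv _ ?_
      rw [← hmem, hx]
      exact Subobject.factors_of_factors_right _ ha
  · rw [hconj, hconj]
    constructor
    · intro h Y g x hx
      rw [factors_pullback_iff] at hx ⊢
      rw [MonObj.mul_comp, MonObj.mul_comp, GrpObj.inv_comp]
      exact h Y _ _ hx
    · intro h Y g x hx
      obtain ⟨T₁, e₁, g', he₁, hg'⟩ := hE.lift q g
      obtain ⟨T₂, e₂, x', he₂, hx'⟩ := hE.lift q (e₁ ≫ x)
      refine factors_of_epi' hE e₁ _ _ (factors_of_epi' hE e₂ _ _ ?_)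
      rw [MonObj.comp_mul, MonObj.comp_mul, GrpObj.comp_inv, MonObj.comp_mul, MonObj.comp_mul,
        GrpObj.comp_inv, ← hg', ← hx', ← Category.assoc, ← MonObj.mul_comp, ← GrpObj.inv_comp,
        ← MonObj.mul_comp, ← factors_pullback_iff]
      refine h _ _ _ ?_
      rw [factors_pullback_iff, hx']
      exact Subobject.factors_of_factors_right _ (Subobject.factors_of_factors_right _ hx)

/-- The third isomorphism theorem for quotients by subgroups. -/
theorem third_iso {H K G Q P R : E} [GrpObj H] [GrpObj K] [GrpObj G] (h : H ⟶ K) (k : K ⟶ G)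
    [Mono h] [Mono k] [IsMonHom h] [IsMonHom k] {q : G ⟶ Q} (hq : IsQuot (h ≫ k) q)
    {p : K ⟶ P} (hp : IsQuot h p) {r : G ⟶ R} (hr : IsQuot k r)
    (act : Q ⊗ P ⟶ Q) (hact : (q ⊗ₘ p) ≫ act = (G ◁ k) ≫ μ[G] ≫ q)
    (qbar : Q ⟶ R) (hqbar : q ≫ qbar = r) :
    Mono (CartesianMonoidalCategory.lift act (fst Q P)) ∧
    ∃ wq : fst Q P ≫ qbar = act ≫ qbar, Nonempty (IsColimit (Cofork.ofπ qbar wq)) := by
  have := hq.epi
  have := hp.epi
  have := hr.epi
  have hactel : ∀ {T : E} (g : T ⟶ G) (a : T ⟶ K),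
      CartesianMonoidalCategory.lift (g ≫ q) (a ≫ p) ≫ act = (g * (a ≫ k)) ≫ q := by
    intro T g a
    rw [← lift_map_assoc, hact, ← Category.assoc (G ◁ k), ← Category.assoc, lift_mulMap]
  refine ⟨⟨fun {T} a b e => ?_⟩, ?_⟩
  · have e1 := congrArg (· ≫ snd _ _) e
    have e2 := congrArg (· ≫ fst _ _) e
    simp only [Category.assoc, lift_fst, lift_snd] at e1 e2
    obtain ⟨T₁, d₁, g, hd₁, hg⟩ := hE.lift q (a ≫ fst Q P)
    obtain ⟨T₂, d₂, x, hd₂, hx⟩ := hE.lift p (d₁ ≫ a ≫ snd Q P)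
    obtain ⟨T₃, d₃, y, hd₃, hy⟩ := hE.lift p (d₂ ≫ d₁ ≫ b ≫ snd Q P)
    have ha : (d₃ ≫ d₂ ≫ d₁) ≫ a =
        CartesianMonoidalCategory.lift ((d₃ ≫ d₂ ≫ g) ≫ q) ((d₃ ≫ x) ≫ p) := by
      apply CartesianMonoidalCategory.hom_ext <;> simp [hg, hx]
    have hb : (d₃ ≫ d₂ ≫ d₁) ≫ b =
        CartesianMonoidalCategory.lift ((d₃ ≫ d₂ ≫ g) ≫ q) (y ≫ p) := by
      apply CartesianMonoidalCategory.hom_ext <;> simp [hg, hy, e1]
    have e3 := congrArg ((d₃ ≫ d₂ ≫ d₁) ≫ ·) e2
    simp only [← Category.assoc (d₃ ≫ d₂ ≫ d₁)] at e3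
    rw [ha, hb, hactel, hactel] at e3
    obtain ⟨m, hm⟩ := (hq.eq_iff _ _).1 e3
    rw [_root_.mul_assoc, ← Category.assoc m, ← MonObj.mul_comp] at hm
    have hxy := (cancel_mono k).1 (mul_left_cancel hm)
    have : Epi (d₃ ≫ d₂ ≫ d₁) := inferInstance
    rw [← cancel_epi (d₃ ≫ d₂ ≫ d₁), ha, hb, (hp.eq_iff _ _).2 ⟨m, hxy⟩]
  · have := hE.tensor q p
    have wq : fst Q P ≫ qbar = act ≫ qbar := by
      rw [← cancel_epi (q ⊗ₘ p), tensorHom_fst_assoc, hqbar, reassoc_of% hact, hqbar,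
        hr.kernel.w, Category.assoc]
    have key : ∀ s : Cofork (fst Q P) act, ∃ b : R ⟶ s.pt, qbar ≫ b = s.π := by
      intro s
      obtain ⟨b, hb⟩ := hE.desc r (q ≫ s.π) fun {T} x y exy => by
        obtain ⟨a, rfl⟩ := (hr.eq_iff x y).1 exy
        rw [← Category.assoc (x * _), ← hactel, Category.assoc, ← s.condition, lift_fst_assoc,
          Category.assoc]
      exact ⟨b, by rw [← cancel_epi q, reassoc_of% hqbar, hb]⟩
    choose b hb using key
    have : Epi qbar := by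
      have : Epi (q ≫ qbar) := by rw [hqbar]; infer_instance
      exact epi_of_epi q qbar
    exact ⟨wq, ⟨Cofork.IsColimit.mk _ b hb fun s m hm => by
      rw [← cancel_epi qbar, hb]; exact hm⟩⟩

end Groth.Agent.Topos.QuotGrp
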