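import Groth.Agent.Topos.CommaTopos
import Mathlib.CategoryTheory.Adjunction.Evaluation

/-!
# Functors from a small category into a topos form a topos
-/

set_option autoImplicit false
open CategoryTheory CategoryTheory.Limits Opposite
universe w v u v' u'

namespace Groth.Agent.Topos.FunctorTopos

open Groth.Agent.DescCatLib Groth.Agent.Topos.Cover

variable {E : Type v} [Category.{u} E] [HasFiniteLimits E] [HasColimitsOfSize.{u, u} E]
  {D : Type u} [SmallCategory D]

instance hasFiniteLimits_functor : HasFiniteLimits (D ⥤ E) := ⟨fun _ _ _ => inferInstance⟩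

theorem effectiveEpi_of_app {X Y : D ⥤ E} (f : X ⟶ Y) [∀ d, EffectiveEpi (f.app d)] : EffectiveEpi f := by
  refine effectiveEpi_mk f fun {W} e he => ?_
  have hc := he (pullback.fst f f) (pullback.snd f f) pullback.condition
  have h : ∀ (d : D) {Z : E} (g₁ g₂ : Z ⟶ X.obj d),
      g₁ ≫ f.app d = g₂ ≫ f.app d → g₁ ≫ e.app d = g₂ ≫ e.app d := by
    intro d Z g₁ g₂ hg
    have k := (IsPullback.of_hasPullback f f).map ((evaluation D E).obj d)
    obtain ⟨l, h₁, h₂⟩ : ∃ l, l ≫ (pullback.fst f f).app d = g₁ ∧ l ≫ (pullback.snd f f).app d = g₂ :=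
      ⟨k.lift g₁ g₂ hg, k.lift_fst _ _ _, k.lift_snd _ _ _⟩
    rw [← h₁, ← h₂, Category.assoc, Category.assoc]
    exact congrArg (l ≫ ·) (NatTrans.congr_app hc d)
  refine ⟨{ app := fun d => EffectiveEpi.desc (f.app d) (e.app d) (h d), naturality := fun d d' g => ?_ },
    ?_, fun m hm => ?_⟩
  · rw [← cancel_epi (f.app d), ← NatTrans.naturality_assoc, EffectiveEpi.fac, e.naturality,
      ← Category.assoc, EffectiveEpi.fac]
  · ext d; simp
  · ext d; exact EffectiveEpi.uniq (f.app d) (e.app d) (h d) _ (NatTrans.congr_app hm d)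

variable (hE : Axioms E)
include hE

theorem quot {R X : D ⥤ E} (p₁ p₂ : R ⟶ X) (h : SGA4.IsEquivRel p₁ p₂) :
    SGA4.IsEffectiveUniversalEquivRel p₁ p₂ := by
  have : HasColimitsOfShape WalkingSpan E := hasColimitsOfShape_of_equivalence (ULiftHomULiftCategory.equiv.{u, u} WalkingSpan).symm
  let Q := pushout p₁ p₂
  obtain ⟨r, hr₁, hr₂⟩ := (h X).2.refl (𝟙 X)
  have heq : pushout.inl p₁ p₂ = pushout.inr p₁ p₂ := by
    have := congrArg (r ≫ ·) (pushout.condition (f := p₁) (g := p₂))
    simpa [reassoc_of% hr₁, reassoc_of% hr₂] using this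
  let π : X ⟶ Q := pushout.inl p₁ p₂
  have hpo : IsPushout p₁ p₂ π π := by
    have := IsPushout.of_hasPushout p₁ p₂
    rw [← heq] at this
    exact this
  have hsq : ∀ d, IsPullback (p₁.app d) (p₂.app d) (π.app d) (π.app d) ∧ Uee (π.app d) := by
    intro d
    obtain ⟨B, q, s, t, huq⟩ : ∃ (B : E) (q : X.obj d ⟶ B), IsPullback (p₁.app d) (p₂.app d) q q ∧
        IsPushout (p₁.app d) (p₂.app d) q q ∧ ∀ (B' : E) (g : B' ⟶ B), EffectiveEpi (pullback.snd q g) :=
      hE.quot _ _ _ _ (CommaTopos.isEquivRel_map_of_lex ((evaluation D E).obj d) h)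
    have t' : IsPushout (p₁.app d) (p₂.app d) (π.app d) (π.app d) := hpo.map ((evaluation D E).obj d)
    let i := t.isoIsPushout _ _ t'
    have hi : q ≫ i.hom = π.app d := t.inl_isoIsPushout_hom _ _ t'
    exact ⟨s.of_iso (Iso.refl _) (Iso.refl _) (Iso.refl _) i (by simp) (by simp) (by simp [hi]) (by simp [hi]),
      hi ▸ uee_comp _ _ (hE.uee_of_quot huq s) (uee_of_isIso i.hom)⟩
  refine ⟨Q, π, IsPullback.of_forall_isPullback_app fun d => (hsq d).1, hpo, fun B' g => ?_⟩
  have : ∀ d, EffectiveEpi ((pullback.snd π g).app d) := fun d =>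
    uee_effectiveEpi (uee_of_isPullback ((IsPullback.of_hasPullback π g).map ((evaluation D E).obj d)).flip (hsq d).2)
  exact effectiveEpi_of_app _

theorem coprod : SGA4.HasDisjointUniversalCoproducts.{max u v, u} (D ⥤ E) := by
  intro ι X
  let c : Cofan X := colimit.cocone (Discrete.functor X)
  let hc : IsColimit c := colimit.isColimit _
  have hd : ∀ d, CoproductDisjoint (fun i => (X i).obj d) ∧
      ∃ c' : Cofan (fun i => (X i).obj d), Nonempty (IsColimit c') ∧
        IsUniversalColimit c' := fun d => by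
    obtain ⟨c', hc', hdis, hu⟩ := hE.coprod ι fun i => (X i).obj d
    exact ⟨hdis, c', ⟨hc'⟩, hu⟩
  let cd : ∀ d, Cofan (fun i => (X i).obj d) := fun d => Cofan.mk (c.pt.obj d) fun i => (c.inj i).app d
  have hcd : ∀ d, IsColimit (cd d) := fun d =>
    isColimitCofanMkObjOfIsColimit ((evaluation D E).obj d) X c.inj
      (hc.ofIsoColimit (Cocone.ext (Iso.refl _) fun j => by obtain ⟨i⟩ := j; exact Category.comp_id _))
  have hud : ∀ d, IsUniversalColimit (cd d) := fun d => by
    obtain ⟨c', ⟨hc'⟩, hu⟩ := (hd d).2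
    exact hu.of_iso (hc'.uniqueUpToIso (hcd d))
  have hm : ∀ i, Mono (c.inj i) := fun i =>
    have : ∀ d, Mono ((c.inj i).app d) := fun d => (hd d).1.mono_inj (hcd d) i
    NatTrans.mono_of_mono_app _
  refine ⟨c, hc, CoproductDisjoint.of_cofan hc (fun {i j} _ => pullback.cone (c.inj i) (c.inj j))
    (fun _ => pullback.isLimit _ _) (fun {i j} hij => ?_), ?_⟩
  · let il := fun d => Classical.choice ((hd d).1.nonempty_isInitial_of_ne (hcd d) hij _
      ((IsPullback.of_hasPullback (c.inj i) (c.inj j)).map ((evaluation D E).obj d)).isLimit)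
    exact IsInitial.ofUniqueHom
      (fun T => { app := fun d => (il d).to _, naturality := fun d _ _ => (il d).hom_ext _ _ })
      fun T m => by ext d; exact (il d).hom_ext _ _
  · intro F' c' α f hα _ hsq
    refine ⟨evaluationJointlyReflectsColimits _ fun d => Classical.choice ?_⟩
    refine hud d (((evaluation D E).obj d).mapCocone c') (Discrete.natTrans fun j => (α.app j).app d)
      (f.app d) (by ext j; exact NatTrans.congr_app (NatTrans.congr_app hα j) d) (.of_discrete _) fun j => ?_
    obtain ⟨i⟩ := j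
    exact (hsq ⟨i⟩).map ((evaluation D E).obj d)

theorem axioms : Axioms (D ⥤ E) := ⟨coprod hE, fun _ _ p₁ p₂ h => quot hE p₁ p₂ h⟩

omit hE in
theorem isDetecting_leftAdjoint {κ : Type u} (G : κ → E) (hG : (ObjectProperty.ofObj G).IsDetecting) :
    (ObjectProperty.ofObj fun p : D × κ => (evaluationLeftAdjoint E p.1).obj (G p.2)).IsDetecting := by
  intro X Y f hf
  have : ∀ d, IsIso (f.app d) := fun d => hG _ <| by
    rintro _ ⟨k⟩ t
    obtain ⟨l, hl, hu⟩ := hf _ ⟨(d, k)⟩ (((evaluationAdjunctionRight E d).homEquiv _ _).symm t)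
    refine ⟨(evaluationAdjunctionRight E d).homEquiv _ _ l, ?_, fun t' ht' => ?_⟩
    · exact ((evaluationAdjunctionRight E d).homEquiv_naturality_right l f).symm.trans (by rw [hl, Equiv.apply_symm_apply])
    · rw [← hu (((evaluationAdjunctionRight E d).homEquiv _ _).symm t')
        (((evaluationAdjunctionRight E d).homEquiv_naturality_right_symm t' f).symm.trans (congrArg _ ht')),
        Equiv.apply_symm_apply]
  exact NatIso.isIso_of_isIso_app f

omit hE in
theorem isTopos_of_equivalence {A : Type v} [Category.{u} A] {B : Type v'} [Category.{u} B] (e : A ≌ B)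
    (h : SGA4.IsTopos B) : SGA4.IsTopos A := by
  obtain ⟨C, _, J, ⟨e'⟩⟩ := h
  exact ⟨C, inferInstance, J, ⟨e.trans e'⟩⟩

end Groth.Agent.Topos.FunctorTopos
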