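import Groth.Prelude.Def_SGA4a
import Groth.Agent.DescCatLib

/-!
# Covering families in a category satisfying Giraud's axioms
-/

set_option autoImplicit false
open CategoryTheory CategoryTheory.Limits
universe w w' v u

namespace Groth.Agent.Topos.Cover

open Groth.Agent.DescCatLib

variable {E : Type v} [Category.{u} E]

/-- A family is covering if every subobject of the target through which it factors is the whole target. -/
def Covering {ι : Type w} {Y : E} {X : ι → E} (f : ∀ i, X i ⟶ Y) : Prop :=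
  ∀ ⦃M : E⦄ (m : M ⟶ Y), Mono m → (∀ i, ∃ g, g ≫ m = f i) → IsIso m

variable [HasFiniteLimits E]

/-- Giraud's axioms on coproducts and on equivalence relations. -/
structure Axioms (E : Type v) [Category.{u} E] [HasFiniteLimits E] : Prop where
  coprod : SGA4.HasDisjointUniversalCoproducts.{v, u} E
  quot : ∀ (R A : E) (p₁ p₂ : R ⟶ A), SGA4.IsEquivRel p₁ p₂ → SGA4.IsEffectiveUniversalEquivRel p₁ p₂

theorem covering_hom_ext {ι : Type w} {Y Z : E} {X : ι → E} {f : ∀ i, X i ⟶ Y} (hf : Covering f)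
    {a b : Y ⟶ Z} (h : ∀ i, f i ≫ a = f i ≫ b) : a = b := by
  have := hf (equalizer.ι a b) inferInstance fun i => ⟨equalizer.lift (f i) (h i), equalizer.lift_ι _ _⟩
  exact (cancel_epi (equalizer.ι a b)).1 (equalizer.condition a b)

theorem covering_trans {ι : Type w} {κ : Type w'} {Y : E} {X : ι → E} {f : ∀ i, X i ⟶ Y}
    (hf : Covering f) {W : κ → E} (g : ∀ k, W k ⟶ Y)
    (h : ∀ i, ∀ ⦃M : E⦄ (m : M ⟶ X i), Mono m →
      (∀ k (l : W k ⟶ X i), l ≫ f i = g k → ∃ a, a ≫ m = l) → IsIso m) :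
    Covering g := by
  intro M m _ hg
  refine hf m inferInstance fun i => ?_
  have : IsIso (pullback.fst (f i) m) := by
    refine h i _ inferInstance fun k l hl => ?_
    obtain ⟨a, ha⟩ := hg k
    exact ⟨pullback.lift l a (hl.trans ha.symm), pullback.lift_fst _ _ _⟩
  exact ⟨inv (pullback.fst (f i) m) ≫ pullback.snd (f i) m, by
    rw [Category.assoc, ← pullback.condition, IsIso.inv_hom_id_assoc]⟩

theorem covering_of_uee {X Y : E} (p : X ⟶ Y) (hp : Uee p) :
    Covering (fun _ : PUnit.{1} => p) := by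
  intro M m _ h
  obtain ⟨g, hg⟩ := h PUnit.unit
  have : EffectiveEpi m := uee_effectiveEpi (uee_of_comp g m (hg ▸ hp))
  exact isIso_of_mono_effectiveEpi m

theorem covering_cofan {ι : Type w} {X : ι → E} {c : Cofan X} (hc : IsColimit c) :
    Covering c.inj := by
  intro M m _ h
  choose g hg using h
  have : Cofan.IsColimit.desc hc g ≫ m = 𝟙 _ := by
    refine Cofan.IsColimit.hom_ext hc _ _ fun i => ?_
    rw [Cofan.IsColimit.fac_assoc, hg]
    exact (Category.comp_id _).symm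
  exact ⟨⟨Cofan.IsColimit.desc hc g, by rw [← cancel_mono m, Category.assoc, this]; simp, this⟩⟩

namespace Axioms

variable (hE : Axioms E)
include hE

theorem uee_of_quot {R A B : E} {p₁ p₂ : R ⟶ A} {π : A ⟶ B}
    (hπ : ∀ (B' : E) (g : B' ⟶ B), EffectiveEpi (pullback.snd π g)) (_ : IsPullback p₁ p₂ π π) :
    Uee π := by
  intro X' Y' i₁ i₂ f' h
  have := hπ _ i₂
  rw [← h.flip.isoPullback_hom_snd]
  infer_instance

/-- Image factorization. -/
theorem exists_image {X Y : E} (f : X ⟶ Y) :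
    ∃ (B : E) (π : X ⟶ B) (m : B ⟶ Y), Uee π ∧ Mono m ∧ π ≫ m = f := by
  let p₁ := pullback.fst f f
  let p₂ := pullback.snd f f
  have hker : IsPullback p₁ p₂ f f := IsPullback.of_hasPullback f f
  have hR : SGA4.IsEquivRel p₁ p₂ := by
    intro T
    refine ⟨fun a b h => hker.hom_ext (congrArg Prod.fst h) (congrArg Prod.snd h),
      ⟨fun a => ⟨hker.lift a a rfl, hker.lift_fst _ _ _, hker.lift_snd _ _ _⟩, ?_, ?_⟩⟩
    · rintro a b ⟨r, hr₁, hr₂⟩
      refine ⟨hker.lift b a ?_, hker.lift_fst _ _ _, hker.lift_snd _ _ _⟩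
      rw [← hr₁, ← hr₂, Category.assoc, Category.assoc, hker.w]
    · rintro a b c ⟨r, hr₁, hr₂⟩ ⟨s, hs₁, hs₂⟩
      refine ⟨hker.lift a c ?_, hker.lift_fst _ _ _, hker.lift_snd _ _ _⟩
      calc a ≫ f = b ≫ f := by rw [← hr₁, ← hr₂, Category.assoc, Category.assoc, hker.w]
        _ = c ≫ f := by rw [← hs₁, ← hs₂, Category.assoc, Category.assoc, hker.w]
  obtain ⟨B, π, h₁, h₂, h₃⟩ := hE.quot _ _ _ _ hR
  have hπ := hE.uee_of_quot h₃ h₁
  refine ⟨B, π, h₂.desc f f hker.w, hπ, ?_, h₂.inl_desc _ _ _⟩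
  refine mono_of_cover hπ _ fun a b hab => ?_
  rw [h₂.inl_desc] at hab
  have l1 := hker.lift_fst a b hab
  have l2 := hker.lift_snd a b hab
  have hw := congrArg (hker.lift a b hab ≫ ·) h₁.w
  simp only [← Category.assoc, l1, l2] at hw
  exact hw

theorem uee_of_covering {X Y : E} (f : X ⟶ Y) (hf : ∀ ⦃M : E⦄ (m : M ⟶ Y), Mono m →
    (∃ g, g ≫ m = f) → IsIso m) : Uee f := by
  obtain ⟨B, π, m, hπ, hm, rfl⟩ := hE.exists_image f
  have := hf m hm ⟨π, rfl⟩
  exact uee_comp _ _ hπ (uee_of_isIso m)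

theorem uee_desc {ι : Type u} {X : ι → E} {Y : E} {f : ∀ i, X i ⟶ Y} (hf : Covering f)
    {c : Cofan X} (hc : IsColimit c) : Uee (Cofan.IsColimit.desc hc f) := by
  refine hE.uee_of_covering _ fun M m hm ⟨g, hg⟩ => hf m hm fun i => ⟨c.inj i ≫ g, ?_⟩
  rw [Category.assoc, hg, Cofan.IsColimit.fac]

theorem exists_cofan {ι : Type u} (X : ι → E) :
    ∃ (c : Cofan X) (_ : IsColimit c), CoproductDisjoint X ∧ IsUniversalColimit c :=
  hE.coprod ι X

/-- Covering families are stable under base change. -/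
theorem covering_pullback {ι : Type u} {X : ι → E} {Y Y' : E} {f : ∀ i, X i ⟶ Y} (hf : Covering f)
    (g : Y' ⟶ Y) : Covering (fun i => pullback.fst g (f i)) := by
  obtain ⟨c, hc, -, hu⟩ := hE.exists_cofan X
  intro M m _ h
  choose k hk using h
  have hd : Uee (pullback.fst g (Cofan.IsColimit.desc hc f)) :=
    uee_pullback_fst g (hE.uee_desc hf hc)
  let c' : Cofan (fun i => pullback g (f i)) := Cofan.mk (pullback g (Cofan.IsColimit.desc hc f))
    fun i => pullback.lift (pullback.fst g (f i)) (pullback.snd g (f i) ≫ c.inj i)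
      (by rw [Category.assoc, Cofan.IsColimit.fac, pullback.condition])
  obtain ⟨hc'⟩ := hu.nonempty_isColimit_of_isPullback_left f (Cofan.IsColimit.desc hc f) g
    (fun i => pullback.fst g (f i)) (fun i => pullback.snd g (f i))
    (fun i => IsPullback.of_hasPullback _ _) (IsPullback.of_hasPullback _ _) c' (Iso.refl _)
    (fun i => Cofan.IsColimit.fac _ _ _)
    (fun i => by simp [c', pullback.lift_fst]) (fun i => by simp [c', pullback.lift_snd])
  refine covering_of_uee _ hd m inferInstance fun _ => ⟨Cofan.IsColimit.desc hc' k, ?_⟩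
  refine Cofan.IsColimit.hom_ext hc' _ _ fun i => ?_
  rw [Cofan.IsColimit.fac_assoc, hk]
  exact (pullback.lift_fst _ _ _).symm

theorem covering_pullback' {ι : Type u} {X : ι → E} {Y Y' : E} {f : ∀ i, X i ⟶ Y} (hf : Covering f)
    (g : Y' ⟶ Y) ⦃M : E⦄ (m : M ⟶ Y') (hm : Mono m)
    (h : ∀ i (T : E) (t : T ⟶ Y') (x : T ⟶ X i), t ≫ g = x ≫ f i → ∃ a, a ≫ m = t) : IsIso m :=
  hE.covering_pullback hf g m hm fun i =>
    h i _ (pullback.fst g (f i)) (pullback.snd g (f i)) pullback.condition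

/-- Descent of morphisms along covering families. -/
theorem exists_desc {ι : Type u} {X : ι → E} {Y Z : E} {f : ∀ i, X i ⟶ Y} (hf : Covering f)
    (a : ∀ i, X i ⟶ Z)
    (h : ∀ i j (T : E) (g : T ⟶ X i) (g' : T ⟶ X j), g ≫ f i = g' ≫ f j → g ≫ a i = g' ≫ a j) :
    ∃ b : Y ⟶ Z, ∀ i, f i ≫ b = a i := by
  obtain ⟨c, hc, -, -⟩ := hE.exists_cofan X
  have hd := hE.uee_desc hf hc
  have := uee_effectiveEpi hd
  have h' : ∀ {T : E} (g₁ g₂ : T ⟶ c.pt),
      g₁ ≫ Cofan.IsColimit.desc hc f = g₂ ≫ Cofan.IsColimit.desc hc f →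
      g₁ ≫ Cofan.IsColimit.desc hc a = g₂ ≫ Cofan.IsColimit.desc hc a := by
    intro T g₁ g₂ hg
    refine covering_hom_ext (hE.covering_pullback (covering_cofan hc) g₁) fun i => ?_
    refine covering_hom_ext (hE.covering_pullback (covering_cofan hc) (pullback.fst g₁ (c.inj i) ≫ g₂))
      fun j => ?_
    have e₁ : pullback.fst g₁ (c.inj i) ≫ g₁ = pullback.snd g₁ (c.inj i) ≫ c.inj i := pullback.condition
    have e₂ : pullback.fst (pullback.fst g₁ (c.inj i) ≫ g₂) (c.inj j) ≫ pullback.fst g₁ (c.inj i) ≫ g₂ =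
      pullback.snd _ (c.inj j) ≫ c.inj j := pullback.condition
    rw [reassoc_of% e₁, reassoc_of% e₂, Cofan.IsColimit.fac, Cofan.IsColimit.fac, ← Category.assoc]
    refine h i j _ _ _ ?_
    have := congrArg (fun t => pullback.fst (pullback.fst g₁ (c.inj i) ≫ g₂) (c.inj j) ≫
      pullback.fst g₁ (c.inj i) ≫ t) hg
    simpa [reassoc_of% e₁, reassoc_of% e₂] using this
  refine ⟨EffectiveEpi.desc _ (Cofan.IsColimit.desc hc a) h', fun i => ?_⟩
  conv_lhs => rw [← Cofan.IsColimit.fac hc f i]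
  rw [Category.assoc, EffectiveEpi.fac, Cofan.IsColimit.fac]

theorem covering_of_isInitial {Y : E} (hY : IsInitial Y) :
    Covering (fun x : PEmpty.{u+1} => (x.elim : Y ⟶ Y)) := by
  intro M m _ _
  exact ⟨⟨hY.to M, by rw [← cancel_mono m, Category.assoc, hY.hom_ext (hY.to M ≫ m) (𝟙 Y)]; simp,
    hY.hom_ext _ _⟩⟩

/-- A family covering an initial object covers anything mapping to it. -/
theorem isIso_of_to_isInitial {Y T : E} (hY : IsInitial Y) (t : T ⟶ Y) ⦃M : E⦄ (m : M ⟶ T)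
    (hm : Mono m) : IsIso m :=
  hE.covering_pullback' (hE.covering_of_isInitial hY) t m hm fun i => i.elim

end Axioms

end Groth.Agent.Topos.Cover
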