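import Groth.Agent.Topos.Gen
import Mathlib.CategoryTheory.Adjunction.Triple
import Mathlib.CategoryTheory.Limits.Preserves.Finite
import Mathlib.CategoryTheory.Limits.Constructions.LimitsOfProductsAndEqualizers
import Mathlib.CategoryTheory.Adjunction.Unique
import Mathlib.CategoryTheory.Comma.Over.Pullback
import Mathlib.CategoryTheory.Sites.LocallyBijective
import Mathlib.CategoryTheory.Adjunction.FullyFaithful

/-!
# Open and closed subtopoi of a sheaf topos
-/

set_option autoImplicit false
open CategoryTheory CategoryTheory.Limits Opposite CategoryTheory.Functor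
universe w v u v' u'

namespace Groth.Agent.Topos.OpenClosed

open Groth.Agent.DescCatLib Groth.Agent.Topos.Cover

/-! ### Subterminal objects in a category with products -/

section general

variable {E : Type v} [Category.{u} E] [HasTerminal E] [HasBinaryProducts E] {U : E} (hU : SGA4.IsOpen U)

include hU in
theorem hom_eq {T : E} (a b : T ⟶ U) : a = b :=
  have : Mono (terminal.from U) := hU
  (cancel_mono (terminal.from U)).1 (Subsingleton.elim _ _)

include hU in
theorem mono_prod_snd (X : E) : Mono (prod.snd : U ⨯ X ⟶ X) :=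
  ⟨fun {T} a b h => by
    ext
    · exact hom_eq hU _ _
    · exact h⟩

omit [HasTerminal E] in
theorem closed_hom_ext {Y : E} (hY : SGA4.closedCompl U Y) {T : E} (u : T ⟶ U) (a b : T ⟶ Y) : a = b := by
  have : IsIso (prod.fst : U ⨯ Y ⟶ U) := hY
  have h : prod.lift u a = prod.lift u b := by
    rw [← cancel_mono (prod.fst : U ⨯ Y ⟶ U), prod.lift_fst, prod.lift_fst]
  simpa [prod.lift_snd] using congrArg (· ≫ prod.snd) h

omit [HasTerminal E] in
/-- The point of a closed object over `U`. -/
noncomputable def closedPoint {Y : E} (hY : SGA4.closedCompl U Y) : U ⟶ Y :=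
  haveI : IsIso (prod.fst : U ⨯ Y ⟶ U) := hY
  inv (prod.fst : U ⨯ Y ⟶ U) ≫ prod.snd

omit [HasTerminal E] in
theorem closedPoint_w {Y : E} (hY : SGA4.closedCompl U Y) {X : E} (f : X ⟶ Y) :
    (prod.fst : U ⨯ X ⟶ U) ≫ closedPoint hY = prod.snd ≫ f :=
  closed_hom_ext hY prod.fst _ _

instance isClosedUnderIsomorphisms_closedCompl : (SGA4.closedCompl U).IsClosedUnderIsomorphisms where
  of_iso {X Y} e h := by
    change IsIso (prod.fst : U ⨯ Y ⟶ U)
    have : IsIso (prod.fst : U ⨯ X ⟶ U) := h
    have heq : (prod.fst : U ⨯ Y ⟶ U) = prod.map (𝟙 U) e.inv ≫ prod.fst := by simp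
    rw [heq]
    infer_instance

theorem inr_isIso_of_closed {X P : E} {a : U ⟶ P} {b : X ⟶ P}
    (h : IsPushout (prod.fst : U ⨯ X ⟶ U) prod.snd a b) (hX : SGA4.closedCompl U X) : IsIso b := by
  have : IsIso (prod.fst : U ⨯ X ⟶ U) := hX
  exact h.isIso_inr_of_isIso

end general

/-! ### The presheaf quotient -/

section presheaf

variable {C : Type u} [SmallCategory C] (U₀ : Cᵒᵖ ⥤ Type u)

/-- The relation collapsing everything lying over `U₀`. -/
def collapseSetoid (X : Cᵒᵖ ⥤ Type u) (c : Cᵒᵖ) : Setoid (U₀.obj c ⊕ X.obj c) where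
  r a b := a = b ∨ Nonempty (U₀.obj c)
  iseqv := ⟨fun _ => Or.inl rfl, fun h => h.imp Eq.symm id,
    fun h h' => h.elim (fun e => h'.imp (e.trans ·) id) Or.inr⟩

/-- The presheaf pushout of `U₀ ← U₀ × X → X`, on objects. -/
def collapseObj (X : Cᵒᵖ ⥤ Type u) : Cᵒᵖ ⥤ Type u where
  obj c := Quotient (collapseSetoid U₀ X c)
  map g := TypeCat.ofHom (Quotient.map (Sum.map (U₀.map g) (X.map g))
    fun a b h => h.elim (fun e => Or.inl (congrArg _ e)) fun ⟨u⟩ => Or.inr ⟨U₀.map g u⟩)
  map_id c := by
    ext a
    obtain ⟨a, rfl⟩ := Quotient.exists_rep a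
    rcases a with u | x <;> simp
  map_comp f g := by
    ext a
    obtain ⟨a, rfl⟩ := Quotient.exists_rep a
    rcases a with u | x <;> simp

/-- The presheaf pushout of `U₀ ← U₀ × X → X`. -/
def collapse : (Cᵒᵖ ⥤ Type u) ⥤ (Cᵒᵖ ⥤ Type u) where
  obj X := collapseObj U₀ X
  map {X Y} f :=
    { app := fun c => TypeCat.ofHom (Quotient.map (Sum.map id (f.app c))
        fun a b h => h.imp (congrArg _) id)
      naturality := fun c d g => by
        ext a
        obtain ⟨a, rfl⟩ := Quotient.exists_rep a
        rcases a with u | x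
        · rfl
        · exact congrArg (fun z => Quotient.mk (collapseSetoid U₀ Y d) (Sum.inr z))
            (NatTrans.naturality_apply f g x) }
  map_id X := by
    ext c a
    obtain ⟨a, rfl⟩ := Quotient.exists_rep a
    rcases a with u | x <;> rfl
  map_comp f g := by
    ext c a
    obtain ⟨a, rfl⟩ := Quotient.exists_rep a
    rcases a with u | x <;> rfl

/-- The map from `U₀`. -/
def collapseInl (X : Cᵒᵖ ⥤ Type u) : U₀ ⟶ (collapse U₀).obj X where
  app c := TypeCat.ofHom fun u => Quotient.mk (collapseSetoid U₀ X c) (Sum.inl u)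
  naturality _ _ _ := by ext u; rfl

/-- The map from `X`. -/
def collapseInr : 𝟭 (Cᵒᵖ ⥤ Type u) ⟶ collapse U₀ where
  app X :=
    { app := fun c => TypeCat.ofHom fun x => Quotient.mk (collapseSetoid U₀ X c) (Sum.inr x)
      naturality := fun _ _ _ => by ext x; rfl }
  naturality _ _ _ := by ext c x; rfl

theorem collapse_subsingleton {X : Cᵒᵖ ⥤ Type u} {c : Cᵒᵖ} (h : Nonempty (U₀.obj c))
    (a b : ((collapse U₀).obj X).obj c) : a = b := by
  obtain ⟨a, rfl⟩ := Quotient.exists_rep a
  obtain ⟨b, rfl⟩ := Quotient.exists_rep b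
  exact Quotient.sound (Or.inr h)

theorem collapseInr_eq {X : Cᵒᵖ ⥤ Type u} {c : Cᵒᵖ} {x y : X.obj c}
    (h : ((collapseInr U₀).app X).app c x = ((collapseInr U₀).app X).app c y) :
    x = y ∨ Nonempty (U₀.obj c) :=
  (Quotient.exact h : (collapseSetoid U₀ X c).r (Sum.inr x) (Sum.inr y)).imp (fun e => Sum.inr_injective e) id

theorem collapse_cases {X : Cᵒᵖ ⥤ Type u} {c : Cᵒᵖ} (a : ((collapse U₀).obj X).obj c) :
    (∃ x, ((collapseInr U₀).app X).app c x = a) ∨ Nonempty (U₀.obj c) := by
  obtain ⟨a, rfl⟩ := Quotient.exists_rep a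
  rcases a with u | x
  · exact Or.inr ⟨u⟩
  · exact Or.inl ⟨x, rfl⟩

theorem collapse_preservesPullback {P X Y S : Cᵒᵖ ⥤ Type u} {a : P ⟶ X} {b : P ⟶ Y} {f : X ⟶ S}
    {g : Y ⟶ S} (h : IsPullback a b f g) :
    IsPullback ((collapse U₀).map a) ((collapse U₀).map b) ((collapse U₀).map f) ((collapse U₀).map g) := by
  refine IsPullback.of_forall_isPullback_app fun c => (Types.isPullback_iff _ _ _ _).2
    ⟨by rw [← NatTrans.comp_app, ← NatTrans.comp_app, ← Functor.map_comp, ← Functor.map_comp, h.w], ?_, ?_⟩
  · rintro p q ⟨h₁, h₂⟩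
    by_cases hc : Nonempty (U₀.obj c)
    · exact collapse_subsingleton U₀ hc _ _
    · obtain ⟨x, rfl⟩ := (collapse_cases U₀ p).resolve_right hc
      obtain ⟨y, rfl⟩ := (collapse_cases U₀ q).resolve_right hc
      exact congrArg _ (Presheaf.ext_of_isPullback h
        ((collapseInr_eq U₀ (show ((collapseInr U₀).app X).app c (a.app c x) =
          ((collapseInr U₀).app X).app c (a.app c y) from h₁)).resolve_right hc)
        ((collapseInr_eq U₀ (show ((collapseInr U₀).app Y).app c (b.app c x) =
          ((collapseInr U₀).app Y).app c (b.app c y) from h₂)).resolve_right hc))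
  · intro p q e
    by_cases hc : Nonempty (U₀.obj c)
    · obtain ⟨u⟩ := hc
      exact ⟨(collapseInl U₀ P).app c u, collapse_subsingleton U₀ ⟨u⟩ _ _,
        collapse_subsingleton U₀ ⟨u⟩ _ _⟩
    · obtain ⟨x, rfl⟩ := (collapse_cases U₀ p).resolve_right hc
      obtain ⟨y, rfl⟩ := (collapse_cases U₀ q).resolve_right hc
      obtain ⟨z, hz₁, hz₂⟩ := Presheaf.exists_of_isPullback h x y
        ((collapseInr_eq U₀ (show ((collapseInr U₀).app S).app c (f.app c x) =
          ((collapseInr U₀).app S).app c (g.app c y) from e)).resolve_right hc)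
      exact ⟨((collapseInr U₀).app P).app c z, congrArg (((collapseInr U₀).app X).app c) hz₁,
        congrArg (((collapseInr U₀).app Y).app c) hz₂⟩

instance collapse_preservesPullbacks : PreservesLimitsOfShape WalkingCospan (collapse U₀) := by
  refine ⟨fun {K} => ?_⟩
  have : PreservesLimit (cospan (K.map WalkingCospan.Hom.inl) (K.map WalkingCospan.Hom.inr)) (collapse U₀) :=
    preservesLimit_of_preserves_limit_cone
      (IsPullback.of_hasPullback (K.map WalkingCospan.Hom.inl) (K.map WalkingCospan.Hom.inr)).isLimit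
      ((isLimitMapConePullbackConeEquiv (collapse U₀) pullback.condition).symm
      (collapse_preservesPullback U₀ (IsPullback.of_hasPullback _ _)).isLimit)
  exact preservesLimit_of_iso_diagram _ (diagramIsoCospan K).symm

theorem collapse_isTerminal {T : Cᵒᵖ ⥤ Type u} (hT : IsTerminal T) :
    Nonempty (IsTerminal ((collapse U₀).obj T)) := by
  have hT' : ∀ c, Subsingleton (T.obj c) ∧ Nonempty (T.obj c) := fun c => by
    have : IsTerminal (T.obj c) := hT.isTerminalObj ((evaluation Cᵒᵖ (Type u)).obj c) T
    have e := this.uniqueUpToIso Types.isTerminalPunit |>.toEquiv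
    exact ⟨e.subsingleton, ⟨e.symm PUnit.unit⟩⟩
  have hsub : ∀ c (a b : ((collapse U₀).obj T).obj c), a = b := fun c a b => by
    by_cases hc : Nonempty (U₀.obj c)
    · exact collapse_subsingleton U₀ hc _ _
    · obtain ⟨x, rfl⟩ := (collapse_cases U₀ a).resolve_right hc
      obtain ⟨y, rfl⟩ := (collapse_cases U₀ b).resolve_right hc
      exact congrArg _ ((hT' c).1.elim x y)
  exact ⟨IsTerminal.ofUniqueHom (fun P => hT.from P ≫ (collapseInr U₀).app T)
    fun P m => by ext c p; exact hsub c _ _⟩

instance collapse_preservesFiniteLimits : PreservesFiniteLimits (collapse U₀) := by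
  have : PreservesLimit (Functor.empty.{0} (Cᵒᵖ ⥤ Type u)) (collapse U₀) :=
    preservesLimit_of_preserves_limit_cone terminalIsTerminal
      ((isLimitMapConeEmptyConeEquiv _ _).symm (collapse_isTerminal U₀ terminalIsTerminal).some)
  have : PreservesLimitsOfShape (Discrete PEmpty.{1}) (collapse U₀) :=
    preservesLimitsOfShape_pempty_of_preservesTerminal _
  exact preservesFiniteLimits_of_preservesTerminal_and_pullbacks _

end presheaf

/-! ### The reflector -/

section sheaf

variable {C : Type u} [SmallCategory C] (J : GrothendieckTopology C) (U : Sheaf J (Type u))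

/-- The underlying endofunctor of the reflector onto the closed complement. -/
noncomputable def reflObj : Sheaf J (Type u) ⥤ Sheaf J (Type u) :=
  sheafToPresheaf J (Type u) ⋙ collapse U.obj ⋙ presheafToSheaf J (Type u)

instance : PreservesFiniteLimits (reflObj J U) := by
  have : PreservesFiniteLimits (sheafToPresheaf J (Type u)) := inferInstance
  have : PreservesFiniteLimits (collapse U.obj ⋙ presheafToSheaf J (Type u)) :=
    comp_preservesFiniteLimits _ _
  exact comp_preservesFiniteLimits (sheafToPresheaf J (Type u)) _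

/-- The map from the open. -/
noncomputable def reflInl (X : Sheaf J (Type u)) : U ⟶ (reflObj J U).obj X :=
  inv ((sheafificationAdjunction J (Type u)).counit.app U) ≫
    (presheafToSheaf J (Type u)).map (collapseInl U.obj X.obj)

/-- The map from the object. -/
noncomputable def reflInr : 𝟭 (Sheaf J (Type u)) ⟶ reflObj J U :=
  inv (sheafificationAdjunction J (Type u)).counit ≫
    whiskerLeft (sheafToPresheaf J (Type u)) (whiskerRight (collapseInr U.obj) (presheafToSheaf J (Type u)))

variable {J U} (hU : SGA4.IsOpen U)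

include hU in
theorem open_subsingleton (c : Cᵒᵖ) : Subsingleton (U.obj.obj c) :=
  ⟨fun a b => by
    obtain ⟨c⟩ := c
    simpa using congrArg (Gen.homEquiv J) (hom_eq hU ((Gen.homEquiv J).symm a) ((Gen.homEquiv J).symm b))⟩

include hU in
theorem isPushout_collapse (X : Sheaf J (Type u)) :
    IsPushout (prod.fst : U ⨯ X ⟶ U).hom (prod.snd : U ⨯ X ⟶ X).hom (collapseInl U.obj X.obj)
      ((collapseInr U.obj).app X.obj) := by
  have hex : ∀ (c : Cᵒᵖ) (u : U.obj.obj c) (x : X.obj.obj c),
      ∃ p, (prod.fst : U ⨯ X ⟶ U).hom.app c p = u ∧ (prod.snd : U ⨯ X ⟶ X).hom.app c p = x := by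
    rintro ⟨c⟩ u x
    exact ⟨Gen.homEquiv J (prod.lift ((Gen.homEquiv J).symm u) ((Gen.homEquiv J).symm x)),
      by rw [← Gen.homEquiv_comp, prod.lift_fst, Equiv.apply_symm_apply],
      by rw [← Gen.homEquiv_comp, prod.lift_snd, Equiv.apply_symm_apply]⟩
  refine ⟨⟨by ext c p; exact Quotient.sound (Or.inr ⟨(prod.fst : U ⨯ X ⟶ U).hom.app c p⟩)⟩,
    ⟨PushoutCocone.IsColimit.mk _ (fun s => ?_) (fun s => ?_) (fun s => ?_) (fun s m h₁ h₂ => ?_)⟩⟩
  · exact
      { app := fun c => TypeCat.ofHom (Quotient.lift (Sum.elim (s.inl.app c) (s.inr.app c)) (by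
          rintro a b (rfl | hu)
          · rfl
          · obtain ⟨u⟩ := hu
            suffices H : ∀ a : U.obj.obj c ⊕ X.obj.obj c, Sum.elim (s.inl.app c) (s.inr.app c) a = s.inl.app c u by
              rw [H a, H b]
            rintro (u' | x)
            · exact congrArg _ ((open_subsingleton hU c).elim _ _)
            · obtain ⟨p, hp₁, hp₂⟩ := hex c u x
              have := congrArg (fun φ : (U ⨯ X).obj ⟶ s.pt => φ.app c p) s.condition
              simp only [NatTrans.comp_app_apply, hp₁, hp₂] at this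
              exact this.symm))
        naturality := fun c d g => by
          ext a
          obtain ⟨a, rfl⟩ := Quotient.exists_rep a
          rcases a with u | x
          · exact NatTrans.naturality_apply s.inl g u
          · exact NatTrans.naturality_apply s.inr g x }
  · ext c u; rfl
  · ext c x; rfl
  · ext c a
    obtain ⟨a, rfl⟩ := Quotient.exists_rep a
    rcases a with u | x
    · exact congrArg (fun φ : U.obj ⟶ s.pt => φ.app c u) h₁
    · exact congrArg (fun φ : X.obj ⟶ s.pt => φ.app c x) h₂

theorem reflInr_app (X : Sheaf J (Type u)) : (reflInr J U).app X =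
    inv ((sheafificationAdjunction J (Type u)).counit.app X) ≫
      (presheafToSheaf J (Type u)).map ((collapseInr U.obj).app X.obj) := by
  simp only [reflInr, NatTrans.comp_app, whiskerLeft_app, whiskerRight_app, NatIso.isIso_inv_app]
  rfl

include hU in
theorem isPushout (X : Sheaf J (Type u)) :
    IsPushout (prod.fst : U ⨯ X ⟶ U) prod.snd (reflInl J U X) ((reflInr J U).app X) := by
  let e := fun F : Sheaf J (Type u) => asIso ((sheafificationAdjunction J (Type u)).counit.app F)
  have : PreservesColimitsOfSize.{0, 0} (presheafToSheaf J (Type u)) :=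
    (sheafificationAdjunction J (Type u)).leftAdjoint_preservesColimits
  exact ((isPushout_collapse hU X).map (presheafToSheaf J (Type u))).of_iso (e _) (e U) (e X) (Iso.refl _)
    ((sheafificationAdjunction J (Type u)).counit.naturality (prod.fst : U ⨯ X ⟶ U))
    ((sheafificationAdjunction J (Type u)).counit.naturality (prod.snd : U ⨯ X ⟶ X))
    (by simp [e, reflInl]; exact Category.comp_id _)
    (by rw [reflInr_app]; exact (Category.comp_id _).trans (IsIso.hom_inv_id_assoc _ _).symm)

theorem reflInr_hom (X : Sheaf J (Type u)) :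
    ((reflInr J U).app X).hom =
      (collapseInr U.obj).app X.obj ≫ (sheafificationAdjunction J (Type u)).unit.app _ := by
  rw [reflInr_app]
  have h := (sheafificationAdjunction J (Type u)).right_triangle_components X
  have h' : (inv ((sheafificationAdjunction J (Type u)).counit.app X)).hom =
      (sheafificationAdjunction J (Type u)).unit.app X.obj := by
    change (sheafToPresheaf J (Type u)).map (inv _) = _
    rw [Functor.map_inv]
    exact (IsIso.eq_inv_of_inv_hom_id h).symm
  change (inv ((sheafificationAdjunction J (Type u)).counit.app X)).hom ≫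
    (sheafToPresheaf J (Type u)).map ((presheafToSheaf J (Type u)).map ((collapseInr U.obj).app X.obj)) = _
  rw [h']
  exact ((sheafificationAdjunction J (Type u)).unit.naturality ((collapseInr U.obj).app X.obj)).symm

/-- Local description of the fibres of `X ⟶ X_CU`. -/
theorem reflInr_kernel (X : Sheaf J (Type u)) {c : C} {x y : X.obj.obj (op c)}
    (h : ((reflInr J U).app X).hom.app (op c) x = ((reflInr J U).app X).hom.app (op c) y) :
    ∃ S ∈ J c, ∀ ⦃d : C⦄ (g : d ⟶ c), S g → X.obj.map g.op x = X.obj.map g.op y ∨ Nonempty (U.obj.obj (op d)) := by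
  rw [reflInr_hom, sheafificationAdjunction_unit_app] at h
  replace h : (toSheafify J ((collapse U.obj).obj X.obj)).app (op c) (((collapseInr U.obj).app X.obj).app (op c) x) =
      (toSheafify J ((collapse U.obj).obj X.obj)).app (op c) (((collapseInr U.obj).app X.obj).app (op c) y) := h
  refine ⟨_, Presheaf.equalizerSieve_mem J (toSheafify J _) _ _ h, fun d g hg => ?_⟩
  refine collapseInr_eq U.obj ?_
  exact (NatTrans.naturality_apply ((collapseInr U.obj).app X.obj) g.op x).trans
    (Eq.trans (show ((collapse U.obj).obj X.obj).map g.op (((collapseInr U.obj).app X.obj).app (op c) x) =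
      ((collapse U.obj).obj X.obj).map g.op (((collapseInr U.obj).app X.obj).app (op c) y) from hg)
      (NatTrans.naturality_apply ((collapseInr U.obj).app X.obj) g.op y).symm)

/-- Sections of `X_CU` come locally from `X` or live over `U`. -/
theorem reflInr_cover (X : Sheaf J (Type u)) {c : C} (q : ((reflObj J U).obj X).obj.obj (op c)) :
    ∃ S ∈ J c, ∀ ⦃d : C⦄ (g : d ⟶ c), S g →
      (∃ x, ((reflInr J U).app X).hom.app (op d) x = ((reflObj J U).obj X).obj.map g.op q) ∨
        Nonempty (U.obj.obj (op d)) := by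
  refine ⟨_, Presheaf.imageSieve_mem J (toSheafify J ((collapse U.obj).obj X.obj)) q, fun d g hg => ?_⟩
  obtain ⟨a, ha⟩ := hg
  refine (collapse_cases U.obj a).imp (fun ⟨x, hx⟩ => ⟨x, ?_⟩) id
  rw [reflInr_hom, sheafificationAdjunction_unit_app]
  exact (congrArg ((toSheafify J ((collapse U.obj).obj X.obj)).app (op d)) hx).trans ha

/-- Over `U` the reflection has at most one section. -/
theorem reflObj_subsingleton (X : Sheaf J (Type u)) {c : C} (h : Nonempty (U.obj.obj (op c))) :
    Subsingleton (((reflObj J U).obj X).obj.obj (op c)) := by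
  obtain ⟨u⟩ := h
  refine ⟨fun q q' => ?_⟩
  have hS := J.intersection_covering
    (Presheaf.imageSieve_mem J (toSheafify J ((collapse U.obj).obj X.obj)) q)
    (Presheaf.imageSieve_mem J (toSheafify J ((collapse U.obj).obj X.obj)) q')
  refine ((isSheaf_iff_isSheaf_of_type _ _).1 ((reflObj J U).obj X).property _ hS).isSeparatedFor
    (fun d g _ => ((reflObj J U).obj X).obj.map g.op q') q q' (fun d g hg => ?_) (fun _ _ _ => rfl)
  obtain ⟨⟨a, ha⟩, ⟨b, hb⟩⟩ := hg
  exact (ha.symm.trans (congrArg _ (collapse_subsingleton U.obj ⟨U.obj.map g.op u⟩ a b))).trans hb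

include hU in
theorem reflObj_closed (X : Sheaf J (Type u)) : SGA4.closedCompl U ((reflObj J U).obj X) := by
  have key : (prod.snd : U ⨯ (reflObj J U).obj X ⟶ _) = prod.fst ≫ reflInl J U X := by
    refine Sheaf.hom_ext ?_
    ext ⟨c⟩ p
    exact (reflObj_subsingleton X ⟨(prod.fst : U ⨯ (reflObj J U).obj X ⟶ U).hom.app (op c) p⟩).elim _ _
  refine ⟨prod.lift (𝟙 U) (reflInl J U X), ?_, prod.lift_fst _ _⟩
  ext
  · rw [Category.assoc, prod.lift_fst, Category.comp_id, Category.id_comp]
  · rw [Category.assoc, prod.lift_snd, Category.id_comp, key]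

theorem closed_of_isPushout {X P : Sheaf J (Type u)} (hU : SGA4.IsOpen U) {a : U ⟶ P} {b : X ⟶ P}
    (h : IsPushout (prod.fst : U ⨯ X ⟶ U) prod.snd a b) : SGA4.closedCompl U P :=
  ObjectProperty.prop_of_iso _ ((isPushout hU X).isoIsPushout _ _ h) (reflObj_closed hU X)

end sheaf

end Groth.Agent.Topos.OpenClosed
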